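import Groth.Agent.Lib.SecDiv18.Factorial
import Groth.Agent.Lib.AffCompl.Ample
import Groth.Agent.Lib.Ample18.Avoid
import Groth.Agent.Lib.Cyc26.C1Inv
import Groth.Agent.Lib.RelAmple18.Basic
import Groth.Agent.Lib.Twist.Pullback
import Groth.Prelude.Def_C1
import Mathlib.Topology.KrullDimension

/-!
# Sections avoiding finitely many points, and their zero schemes
-/

set_option autoImplicit false
universe u
set_option linter.style.haveILetI false
set_option backward.isDefEq.respectTransparency false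
set_option backward.isDefEq.respectTransparency.types false

open CategoryTheory AlgebraicGeometry TopologicalSpace Opposite

noncomputable section

namespace Groth.Agent.Bivar12

variable {X : Scheme.{u}} {L : X.Modules}

theorem fmk_eq_zero_iff (hL : PicF.IsInvertible L) {x : X} (a : L.presheaf.stalk x) :
    Cyc26.fmk L x a = 0 ↔ ¬ Amp.Gen a := by
  obtain ⟨g, hg⟩ := Cyc26.exists_gen hL x
  obtain ⟨r, rfl⟩ := hg.2 a
  rw [hg.ne_zero_smul]
  constructor
  · intro h hu
    rw [Cyc26.fmk, Submodule.Quotient.mk_eq_zero] at h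
    exact (IsLocalRing.mem_maximalIdeal r).1 (Cyc26.mem_maximal_of_gen hg h) hu
  · intro h
    rw [Cyc26.fmk, Submodule.Quotient.mk_eq_zero]
    exact Submodule.smul_mem_smul ((IsLocalRing.mem_maximalIdeal r).2 h) Submodule.mem_top

theorem ker_stalkMap_subscheme' (I : X.IdealSheafData) (U : X.affineOpens) (d : I.subscheme)
    (hd : I.subschemeι d ∈ U.1) :
    RingHom.ker (I.subschemeι.stalkMap d).hom = (I.ideal U).map (X.presheaf.germ U.1 _ hd).hom := by
  let := TopCat.Presheaf.algebra_section_stalk X.presheaf (⟨I.subschemeι d, hd⟩ : U.1)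
  have := U.2.isLocalization_stalk ⟨I.subschemeι d, hd⟩
  refine le_antisymm (fun a ha => ?_) ?_
  · rw [RingHom.mem_ker] at ha
    obtain ⟨⟨r, s⟩, rs⟩ := IsLocalization.surj (U.2.primeIdealOf ⟨_, hd⟩).asIdeal.primeCompl a
    have hu : IsUnit (X.presheaf.germ U.1 _ hd s.1) := (M1.isUnit_germ_iff U.2 hd s.1).mpr s.2
    have hr : X.presheaf.germ U.1 _ hd r = a * X.presheaf.germ U.1 _ hd s.1 := rs.symm
    have hr0 : I.subschemeι.stalkMap d (X.presheaf.germ U.1 _ hd r) = 0 := by
      rw [hr]
      exact (map_mul (I.subschemeι.stalkMap d).hom _ _).trans (by rw [ha, zero_mul])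
    obtain ⟨e, he, hea⟩ := (SecDiv.mem_ker_stalkMap_iff I U d hd r).mp hr0
    have hm := Ideal.mem_map_of_mem (X.presheaf.germ U.1 _ hd).hom hea
    rw [map_mul, hr] at hm
    obtain ⟨v, hv⟩ := he.mul hu
    have : a = ↑v⁻¹ * (X.presheaf.germ U.1 _ hd e * (a * X.presheaf.germ U.1 _ hd s.1)) := by
      rw [mul_left_comm (X.presheaf.germ U.1 _ hd e) a, ← hv, mul_left_comm, Units.inv_mul, mul_one]
    rw [this]
    exact Ideal.mul_mem_left _ _ hm
  · rw [Ideal.map_le_iff_le_comap]
    intro c hc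
    rw [Ideal.mem_comap, RingHom.mem_ker]
    exact (SecDiv.mem_ker_stalkMap_iff I U d hd c).mpr ⟨1, by rw [map_one]; exact isUnit_one, by rwa [one_mul]⟩

/-- Every global section of an invertible module has a zero scheme. -/
theorem exists_zeroScheme (hL : PicF.IsInvertible L) (t : L.presheaf.obj (op ⊤)) :
    ∃ (D : Scheme.{u}) (i : D ⟶ X) (_ : IsClosedImmersion i), Cyc.IsZeroSchemeOf i L t ∧
      Set.range i = {x : X | ¬ Amp.Gen (Amp.gm L x (U := ⊤) trivial t)} := by
  let s := M1.secHom (M := L) t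
  let I := PicF2.zeroScheme L s
  have hr : Set.range I.subschemeι = {x : X | ¬ Amp.Gen (Amp.gm L x (U := ⊤) trivial t)} := by
    rw [I.range_subschemeι, AffCompl.coe_support_zeroScheme hL s]
    ext x
    rw [Set.mem_compl_iff, SetLike.mem_coe, Amp.mem_genLocus_iff hL, Amp.gval_secHom]
    rfl
  refine ⟨I.subscheme, I.subschemeι, inferInstance, ⟨hr.trans (Set.ext fun x => ?_), fun d => ?_⟩, hr⟩
  · exact (fmk_eq_zero_iff hL _).symm
  · obtain ⟨U, e, a, hxU, -, hU, he, ha, -⟩ := Amp.exists_local hL s (V := ⊤) (x := I.subschemeι d) trivial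
    have hsv : MeroLib.sval L s U = a • e := (ha.trans (Amp.res_gval s U)).symm
    have hbij : Function.Bijective fun r : Γ(X, U) => r • e := by
      refine ⟨fun r r' h => (he U le_rfl).1 ?_, fun t => ?_⟩
      · show r • _ = r' • _
        rw [Amp.res_self]
        exact h
      · exact Amp.exists_coeff he t
    refine ⟨Amp.gm L _ hxU e, X.presheaf.germ U _ hxU a,
      Cyc26.span_eq_top_of_gen (Amp.gen_of_isGenerator he hxU), ?_, ?_⟩
    · rw [← Amp.gm_smul, ha, Amp.gm_res, Amp.gval_secHom]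
    · rw [ker_stalkMap_subscheme' I ⟨U, hU⟩ d hxU, MeroLib.zeroScheme_ideal L s hL ⟨U, hU⟩,
        MeroLib.zI_eq_span L s e hbij a hsv, Ideal.map_span, Set.image_singleton]

/-- Twisting by a power of an ample module gives sections generating at finitely many given points. -/
theorem exists_gen_sections {A : X.Modules} (hA : CohB1.IsAmple A) (hL : PicF.IsInvertible L) {Z : Set X}
    (hZ : Z.Finite) : ∃ (B : X.Modules) (_ : PicF.IsInvertible B)
      (t : (CohB1.tensorMod L B).presheaf.obj (op ⊤)) (b : B.presheaf.obj (op ⊤)),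
      ∀ z ∈ Z, Amp.Gen (Amp.gm (CohB1.tensorMod L B) z (U := ⊤) trivial t) ∧
        Amp.Gen (Amp.gm B z (U := ⊤) trivial b) := by
  haveI := hA.2.1
  haveI : QuasiSeparatedSpace X := Amp.quasiSeparatedSpace_of_isAmple hA
  obtain ⟨n, G, ⟨s, hsG⟩, hZG, -, hG⟩ := Amp.exists_affine_hasSec_finite hA hZ (U := ⊤) (fun _ _ => trivial)
  subst hsG
  let B := CohB1.tensorPow A (n + 1)
  have hB : PicF.IsInvertible B := Amp.isInvertible_tensorPow hA.1 _
  let G := CohB1.genLocus B s
  haveI : IsAffine (G : Scheme.{u}) := hG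
  obtain ⟨σ, -, hσZ, -⟩ := Amp.exists_affine_section_finite
    (M := L.restrict G.ι) (Twist.isInvertible_restrict L G.ι fun y => hL (G.ι y)) (Z := G.ι ⁻¹' Z)
    (hZ.preimage G.ι.isOpenEmbedding.injective.injOn) (W := ⊤) (fun _ _ => trivial)
  obtain ⟨t₀, ht₀⟩ := RA.exists_sec_of_restrict hL G σ
  haveI : Coh.IsQCoh L := Twist.isQCoh_of_isInvertible hL
  obtain ⟨n₀, hext⟩ := Amp.exists_extend_genLocus hB s L t₀
  obtain ⟨t', ht'⟩ := hext n₀ le_rfl
  have hBn : PicF.IsInvertible (CohB1.tensorPow B n₀) := Amp.isInvertible_tensorPow hB _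
  refine ⟨CohB1.tensorPow B n₀, hBn, t', Amp.pw (Amp.gval s) n₀, fun z hz => ?_⟩
  have hzG : z ∈ G := hZG hz
  have hs : Amp.Gen (Amp.gm B z (U := ⊤) trivial (Amp.gval s)) := (Amp.mem_genLocus_iff hB s).1 hzG
  have h0 : Amp.Gen (Amp.gm L z hzG t₀) := (ht₀ ⟨z, hzG⟩).1 (hσZ (show (⟨z, hzG⟩ : G) ∈ G.ι ⁻¹' Z from hz))
  refine ⟨?_, Amp.gen_pw hB (U := ⊤) (x := z) trivial _ _ hs⟩
  rw [← Amp.gm_res (le_top : G ≤ ⊤) hzG, ht']
  refine (Amp.gen_tsec_iff hL hBn hzG _ _).2 ⟨h0, Amp.gen_pw hB hzG _ _ ?_⟩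
  rw [Amp.gm_res]
  exact hs

/-- A closed subspace avoiding the generic points has smaller dimension. -/
theorem krullDim_closed_lt {T S : Type u} [TopologicalSpace T] [TopologicalSpace S] [QuasiSober S] [T0Space S]
    (i : T → S) (hi : Topology.IsClosedEmbedding i) (hav : ∀ x ∈ genericPoints S, x ∉ Set.range i) {n : ℕ}
    (hd : topologicalKrullDim S < ((n + 1 : ℕ) : WithBot ℕ∞)) :
    topologicalKrullDim T < (n : WithBot ℕ∞) := by
  rcases isEmpty_or_nonempty (IrreducibleCloseds T) with h | h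
  · rw [topologicalKrullDim, Order.krullDim_eq_bot]
    exact WithBot.bot_lt_coe _
  have hlen : ∀ l : LTSeries (IrreducibleCloseds T), l.length < n := by
    intro l
    let m : IrreducibleCloseds T → IrreducibleCloseds S := fun C =>
      ⟨i '' C, C.isIrreducible.image i hi.continuous.continuousOn, hi.isClosedMap _ C.isClosed⟩
    have hm : StrictMono m := fun C C' h => by
      refine lt_of_le_of_ne (Set.image_mono h.le) fun e => h.ne (SetLike.coe_injective ?_)
      exact hi.injective.image_injective (congrArg (fun c : IrreducibleCloseds S => (c : Set S)) e)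
    let l' := l.map m hm
    obtain ⟨c, hc, hcl⟩ := exists_mem_irreducibleComponents_subset_of_isIrreducible (X := S) _ l'.last.isIrreducible
    have hc' : IsClosed c := isClosed_of_mem_irreducibleComponents c hc
    let C : IrreducibleCloseds S := ⟨c, hc.1, hc'⟩
    have hlt : l'.last < C := by
      refine lt_of_le_of_ne hcl fun e => ?_
      let x := hc.1.genericPoint
      have hcx : closure {x} = c := hc.1.closure_genericPoint hc'
      have hx : x ∈ genericPoints S := by
        show closure {x} ∈ irreducibleComponents S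
        rw [hcx]; exact hc
      refine hav x hx ?_
      have hxm : x ∈ (l'.last : Set S) := by
        rw [show (l'.last : Set S) = c from congrArg (fun c : IrreducibleCloseds S => (c : Set S)) e, ← hcx]
        exact subset_closure rfl
      obtain ⟨y, -, hy⟩ := hxm
      exact ⟨y, hy⟩
    have h1 := lt_of_le_of_lt (Order.LTSeries.length_le_krullDim (l'.snoc C hlt)) hd
    have h2 : (((l'.snoc C hlt).length : ℕ) : WithBot ℕ∞) < ((n + 1 : ℕ) : WithBot ℕ∞) := h1
    rw [Nat.cast_lt] at h2
    have h3 : (l'.snoc C hlt).length = l.length + 1 := rfl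
    omega
  have hn : 0 < n := lt_of_le_of_lt (Nat.zero_le _) (hlen (RelSeries.singleton _ (Classical.arbitrary _)))
  refine lt_of_le_of_lt (b := ((n - 1 : ℕ) : WithBot ℕ∞)) (iSup_le fun l => ?_) (Nat.cast_lt.2 (by omega))
  exact Nat.cast_le.2 (Nat.le_sub_one_of_lt (hlen l))

end Groth.Agent.Bivar12
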