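import Groth.Agent.Lib.Slice.Global
import Mathlib.AlgebraicGeometry.ValuativeCriterion
import Mathlib.AlgebraicGeometry.Morphisms.Proper

/-!
# A locally finite coproduct of proper morphisms is proper
-/

set_option autoImplicit false
universe u
set_option linter.style.haveILetI false
set_option backward.isDefEq.respectTransparency false
set_option backward.isDefEq.respectTransparency.types false

open CategoryTheory CategoryTheory.Limits AlgebraicGeometry TopologicalSpace

noncomputable section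

namespace Groth.Agent.Bivar12

variable {S : Scheme.{u}} {ι : Type u} (Z : ι → Scheme.{u}) (f : ∀ i, Z i ⟶ S)

theorem existence_sigmaDesc [∀ i, IsProper (f i)] : ValuativeCriterion.Existence (Sigma.desc f) := by
  intro Q
  let o : Spec (.of Q.K) := IsLocalRing.closedPoint Q.K
  obtain ⟨i, x, hx⟩ := (sigmaOpenCover Z).exists_eq (Q.i₁ o)
  have hrange : Set.range Q.i₁ ⊆ Set.range (Sigma.ι Z i) := by
    rintro _ ⟨z, rfl⟩
    rw [show z = o from Subsingleton.elim (α := PrimeSpectrum Q.K) z o]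
    exact ⟨x, hx⟩
  let j := IsOpenImmersion.lift (Sigma.ι Z i) Q.i₁ hrange
  have hj : j ≫ Sigma.ι Z i = Q.i₁ := IsOpenImmersion.lift_fac _ _ _
  have hw : j ≫ f i = Spec.map (CommRingCat.ofHom (algebraMap Q.R Q.K)) ≫ Q.i₂ := by
    have h := Q.commSq.w
    rwa [← hj, Category.assoc, Sigma.ι_desc] at h
  have hi : UniversallyClosed (f i) := inferInstance
  rw [UniversallyClosed.eq_valuativeCriterion] at hi
  obtain ⟨l, h₁, h₂⟩ := (hi.1 { R := Q.R, K := Q.K, i₁ := j, i₂ := Q.i₂, commSq := ⟨hw⟩ }).exists_lift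
  refine CommSq.HasLift.mk' ⟨l ≫ Sigma.ι Z i, ?_, ?_⟩
  · rw [← Category.assoc, h₁, hj]
  · rw [Category.assoc, Sigma.ι_desc, h₂]

theorem isProper_sigmaDesc_locFin [∀ i, IsProper (f i)]
    (hlf : ∀ U : S.Opens, IsAffineOpen U → {i | ∃ z, f i z ∈ U}.Finite) : IsProper (Sigma.desc f) := by
  haveI : LocallyOfFiniteType (Sigma.desc f) :=
    IsZariskiLocalAtSource.of_openCover (P := @LocallyOfFiniteType) (sigmaOpenCover Z) fun i => by
      show LocallyOfFiniteType (Sigma.ι Z i ≫ Sigma.desc f)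
      rw [Sigma.ι_desc]; infer_instance
  haveI : IsSeparated (Sigma.desc f) := Slice.isSeparated_sigmaDesc Z f
  haveI : QuasiCompact (Sigma.desc f) := by
    refine quasiCompact_iff_forall_isAffineOpen.2 fun U hU => ?_
    have heq : ((Sigma.desc f) ⁻¹ᵁ U : Set ↥(∐ Z)) = ⋃ i ∈ {i | ∃ z, f i z ∈ U}, Sigma.ι Z i '' (f i ⁻¹' U) := by
      refine Set.Subset.antisymm (fun y hy => ?_) (Set.iUnion₂_subset fun i _ => ?_)
      · obtain ⟨i, z, rfl⟩ := (sigmaOpenCover Z).exists_eq y
        have hz : f i z ∈ U := by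
          have := hy
          rw [← Sigma.ι_desc f i]
          exact this
        exact Set.mem_iUnion₂.2 ⟨i, ⟨z, hz⟩, z, hz, rfl⟩
      · rintro _ ⟨z, hz, rfl⟩
        show (Sigma.ι Z i ≫ Sigma.desc f) z ∈ U
        rw [Sigma.ι_desc]; exact hz
    rw [heq]
    exact (hlf U hU).isCompact_biUnion fun i _ =>
      ((f i).isCompact_preimage hU.isCompact).image (Sigma.ι Z i).continuous
  haveI := UniversallyClosed.of_valuativeCriterion _ (existence_sigmaDesc Z f)
  exact {}

end Groth.Agent.Bivar12
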