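import Groth.Agent.Lib.Bivar12.ClopenRes
import Groth.Agent.Lib.Bivar12.SigmaProper

/-!
# Vanishing of bivariant classes can be tested on birational modifications
-/

set_option autoImplicit false
universe u
set_option linter.style.haveILetI false
set_option backward.isDefEq.respectTransparency false
set_option backward.isDefEq.respectTransparency.types false

open CategoryTheory CategoryTheory.Limits AlgebraicGeometry TopologicalSpace

noncomputable section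

namespace Groth.Agent.Bivar12

variable {X Y : Scheme.{u}} {f : X ⟶ Y} {δX : X → ℤ} {δY : Y → ℤ}

theorem residueDegree_eq_one_of_surjective {A B : Scheme.{u}} (g : A ⟶ B) (z : A)
    (hs : Function.Surjective (g.stalkMap z)) : g.residueDegree z = 1 := by
  have hsurj : Function.Surjective (g.residueFieldMap z) := by
    intro b
    obtain ⟨b, rfl⟩ := Scheme.residue_surjective A z b
    obtain ⟨a, rfl⟩ := hs b
    exact ⟨B.residue _ a, ConcreteCategory.congr_hom (Scheme.residue_residueFieldMap g z) a⟩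
  letI := (g.residueFieldMap z).hom.toAlgebra
  exact (LinearEquiv.ofBijective (Algebra.linearMap _ (A.residueField z))
    ⟨(g.residueFieldMap z).hom.injective, hsurj⟩).finrank_eq.symm.trans (Module.finrank_self _)

theorem exists_subSq (s : Bivar.Sq f δX δY) {T : Scheme.{u}} (g : T ⟶ s.Y') [LocallyOfFiniteType g] :
    ∃ (δT : T → ℤ) (δT' : ↥(pullback g s.f') → ℤ), Cyc.DeltaCompat g δT s.δY' ∧
      Cyc.DeltaCompat (pullback.snd g s.f') δT' s.δX' := by
  obtain ⟨a, ha⟩ := exists_deltaCompat g s.δY'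
  obtain ⟨b, hb⟩ := exists_deltaCompat (pullback.snd g s.f') s.δX'
  exact ⟨a, b, ha, hb⟩

/-- The square over `s.f'` given by a morphism to `s.Y'`. -/
def subSq (s : Bivar.Sq f δX δY) {T : Scheme.{u}} (g : T ⟶ s.Y') [LocallyOfFiniteType g] :
    Bivar.Sq s.f' s.δX' s.δY' :=
  ⟨T, pullback g s.f', g, pullback.fst g s.f', pullback.snd g s.f', IsPullback.of_hasPullback g s.f', inferInstance,
    (exists_subSq s g).choose, (exists_subSq s g).choose_spec.choose, (exists_subSq s g).choose_spec.choose_spec.1,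
    (exists_subSq s g).choose_spec.choose_spec.2⟩

theorem cl_zsmul {S : Scheme.{u}} {δ : S → ℤ} {k : ℤ} (n : ℤ) (γ : AlgebraicCycle S ℤ) (hγ : γ ∈ Cyc.Zk S δ k)
    {b : AlgebraicCycle S ℤ} (hb : b ∈ Cyc.Zk S δ k) (h : ∀ z, b z = n * γ z) :
    ChowOps.cl b hb = n • ChowOps.cl γ hγ := by
  refine Eq.trans ?_ (map_zsmul (ChowOps.clHom S δ k) n ⟨γ, hγ⟩)
  show ChowOps.clHom S δ k ⟨b, hb⟩ = _
  refine congrArg _ (Subtype.ext (DFunLike.ext _ _ fun z => ?_))
  show b z = n • γ z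
  rw [h, smul_eq_mul]

/-- A bivariant class killing a fundamental class of a birational modification of every integral test scheme is
zero. -/
theorem eq_zero_of_birational (hX : Cyc.IsSetup X δX) (hY : Cyc.IsSetup Y δY) {p : ℤ} (c : Bivar.Cl p f δX δY)
    (h3 : ∀ (s : Bivar.Sq f δX δY) [AlgebraicGeometry.IsIntegral s.Y'], ∃ (t : Bivar.Sq s.f' s.δX' s.δY')
      (_ : IrreducibleSpace t.Y') (_ : IsProper t.g), t.g (genericPoint t.Y') = genericPoint s.Y' ∧
        IsIso (t.g.stalkMap (genericPoint t.Y')) ∧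
        ∀ (k : ℤ) (α : AlgebraicCycle t.Y' ℤ) (hα : α ∈ Cyc.Zk t.Y' t.δY' k), α (genericPoint t.Y') = 1 →
          (∀ y : t.Y', y ≠ genericPoint t.Y' → α y = 0) → c.op (s.paste t) k (ChowOps.cl α hα) = 0) :
    c = 0 := by
  classical
  refine Bivar.Cl.ext (funext fun s => funext fun k => AddMonoidHom.ext fun a => ?_)
  obtain ⟨α, hα, rfl⟩ := Bivar.exists_rep a
  show c.op s k (ChowOps.cl α hα) = 0
  have S := sqFacts hX hY s
  haveI := S.noethY; haveI := S.noethX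
  let I : Type u := {ξ : s.Y' // α ξ ≠ 0}
  choose W iW hiW hiint hrW hgW using fun ξ : I => Cyc26.exists_closure_subscheme s.Y' ξ.1
  choose t hirr hprop hgen hiso hvan using fun ξ : I =>
    haveI := hiW ξ; haveI := hiint ξ
    @h3 (s.paste (subSq s (iW ξ))) (hiint ξ)
  haveI := hiW
  haveI := hiint
  haveI := hirr
  haveI := hprop
  let Z : I → Scheme.{u} := fun ξ => (t ξ).Y'
  let φ : ∀ ξ, Z ξ ⟶ s.Y' := fun ξ => (t ξ).g ≫ iW ξ
  haveI : ∀ ξ, IsProper (φ ξ) := fun ξ => by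
    haveI : IsProper (iW ξ) := inferInstance
    haveI : IsProper (t ξ).g := hprop ξ
    infer_instance
  have hφgen : ∀ ξ : I, φ ξ (genericPoint (Z ξ)) = ξ.1 := fun ξ => by
    refine (congrArg (iW ξ) (hgen ξ)).trans ?_
    exact hgW ξ
  haveI : IsProper (Sigma.desc φ) := by
    refine isProper_sigmaDesc_locFin Z φ fun U hU =>
      ((Cyc26.finite_support_inter α hU).preimage Subtype.val_injective.injOn).subset ?_
    rintro ξ ⟨z, hz⟩
    refine ⟨Specializes.mem_open ?_ U.isOpen hz, ξ.2⟩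
    exact specializes_iff_mem_closure.2 ((hrW ξ).le ⟨(t ξ).g z, rfl⟩)
  let T := subSq s (Sigma.desc φ)
  let T₀ := s.paste T
  let u : I → Bivar.Sq f δX δY := fun ξ => (s.paste (subSq s (iW ξ))).paste (t ξ)
  have TF := sqFacts hX hY T₀
  haveI : IsLocallyNoetherian T.Y' := TF.noethY
  haveI : IsLocallyNoetherian T.X' := TF.noethX
  haveI : IsLocallyNoetherian (∐ Z) := TF.noethY
  -- the inclusions of the pieces
  let h : ∀ ξ, Z ξ ⟶ ∐ Z := fun ξ => Sigma.ι Z ξ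
  have w₁ : ∀ ξ, h ξ ≫ T₀.g = (u ξ).g := fun ξ => by
    show Sigma.ι Z ξ ≫ Sigma.desc φ ≫ s.g = (t ξ).g ≫ iW ξ ≫ s.g
    rw [Sigma.ι_desc_assoc, Category.assoc]
  have hcond : ∀ ξ, ((t ξ).f' ≫ h ξ) ≫ Sigma.desc φ = ((t ξ).g' ≫ (subSq s (iW ξ)).g') ≫ s.f' := fun ξ => by
    rw [Category.assoc, Sigma.ι_desc, Category.assoc, ← (subSq s (iW ξ)).isPullback.w, ← Category.assoc,
      ← Category.assoc]
    exact congrArg (· ≫ iW ξ) (t ξ).isPullback.w
  let h' : ∀ ξ, (u ξ).X' ⟶ pullback (Sigma.desc φ) s.f' := fun ξ =>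
    pullback.lift ((t ξ).f' ≫ h ξ) ((t ξ).g' ≫ (subSq s (iW ξ)).g') (hcond ξ)
  have w₂ : ∀ ξ, h' ξ ≫ T₀.f' = (u ξ).f' ≫ h ξ := fun ξ => pullback.lift_fst _ _ _
  have w₃ : ∀ ξ, h' ξ ≫ T₀.g' = (u ξ).g' := fun ξ => by
    show h' ξ ≫ pullback.snd (Sigma.desc φ) s.f' ≫ s.g' = ((t ξ).g' ≫ (subSq s (iW ξ)).g' ≫ s.g')
    rw [← Category.assoc, pullback.lift_snd, Category.assoc]
  have hopen' : ∀ ξ, IsOpenImmersion (h' ξ) := fun ξ =>
    MorphismProperty.of_isPullback (P := @IsOpenImmersion)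
      (isPullback_of_over (s := T₀) (t := u ξ) (h ξ) (h' ξ) (w₁ ξ) (w₂ ξ) (w₃ ξ))
      (show IsOpenImmersion (Sigma.ι Z ξ) from inferInstance)
  haveI := hopen'
  have hrange : ∀ ξ, Set.range (h' ξ) = T₀.f' ⁻¹' Set.range (Sigma.ι Z ξ) := fun ξ =>
    Cyc26.range_of_isPullback
      (isPullback_of_over (s := T₀) (t := u ξ) (h ξ) (h' ξ) (w₁ ξ) (w₂ ξ) (w₃ ξ)).flip
  have hδY : ∀ ξ, (u ξ).δY' = fun z => T₀.δY' (h ξ z) := fun ξ =>
    delta_eq_comp (deltaCompat_of_over (s := T₀) (t := u ξ) (h ξ) (w₁ ξ)).2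
  have hδX : ∀ ξ, (u ξ).δX' = fun z => T₀.δX' (h' ξ z) := fun ξ =>
    delta_eq_comp (deltaCompat_of_over' (s := T₀) (t := u ξ) (h' ξ) (w₃ ξ)).2
  -- the cycle upstairs
  have hsig : ∀ y : ↥(∐ Z), ∃ (ξ : I) (z : Z ξ), Sigma.ι Z ξ z = y := fun y => by
    obtain ⟨ξ, z, hz⟩ := (sigmaOpenCover Z).exists_eq y
    exact ⟨ξ, z, hz⟩
  choose ρ ζ hζ using hsig
  have hinj : ∀ (ξ ξ' : I) (z : Z ξ) (z' : Z ξ'), Sigma.ι Z ξ z = Sigma.ι Z ξ' z' → ξ = ξ' := fun ξ ξ' z z' e => by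
    rw [← sigmaMk_mk, ← sigmaMk_mk] at e
    exact congrArg Sigma.fst ((sigmaMk Z).injective e)
  let fn : ↥(∐ Z) → ℤ := fun y => if ζ y = genericPoint (Z (ρ y)) then α (ρ y).1 else 0
  have hfn : ∀ (ξ : I) (z : Z ξ), fn (Sigma.ι Z ξ z) = if z = genericPoint (Z ξ) then α ξ.1 else 0 := by
    intro ξ z
    have key : ∀ (ξ' : I) (z' : Z ξ'), Sigma.ι Z ξ' z' = Sigma.ι Z ξ z →
        (if z' = genericPoint (Z ξ') then α ξ'.1 else 0) = if z = genericPoint (Z ξ) then α ξ.1 else 0 := by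
      intro ξ' z' e
      obtain rfl := hinj ξ' ξ z' z e
      rw [(Sigma.ι Z ξ').isOpenEmbedding.injective e]
    exact key _ _ (hζ _)
  let A : AlgebraicCycle T.Y' ℤ := ⟨fn, Set.subset_univ _, fun y _ => by
    refine ⟨Set.range (Sigma.ι Z (ρ y)),
      (Sigma.ι Z (ρ y)).isOpenEmbedding.isOpen_range.mem_nhds ⟨ζ y, hζ y⟩,
      (Set.finite_singleton (Sigma.ι Z (ρ y) (genericPoint (Z (ρ y))))).subset ?_⟩
    rintro _ ⟨⟨z, rfl⟩, hne⟩
    have hne' : fn (Sigma.ι Z (ρ y) z) ≠ 0 := hne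
    rw [hfn] at hne'
    rw [Set.mem_singleton_iff, (ite_ne_right_iff.1 hne').1]⟩
  have hdeg : ∀ ξ : I, (Sigma.desc φ).residueDegree (Sigma.ι Z ξ (genericPoint (Z ξ))) = 1 := fun ξ => by
    have e1 : (t ξ).g.residueDegree (genericPoint (Z ξ)) = 1 := residueDegree_eq_one_of_surjective _ _
      (haveI := hiso ξ; (ConcreteCategory.bijective_of_isIso ((t ξ).g.stalkMap (genericPoint (t ξ).Y'))).2)
    have e2 : (φ ξ).residueDegree (genericPoint (Z ξ)) = 1 := by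
      show ((t ξ).g ≫ iW ξ).residueDegree _ = 1
      rw [residueDegree_comp', e1, mul_one]
      exact residueDegree_eq_one_of_surjectiveOnStalks' (iW ξ) _
    have e3 : (Sigma.ι Z ξ ≫ Sigma.desc φ).residueDegree (genericPoint (Z ξ)) = 1 := by rwa [Sigma.ι_desc]
    rw [residueDegree_comp'] at e3
    exact Nat.eq_one_of_mul_eq_one_right e3
  have hcT : Cyc.DeltaCompat (Sigma.desc φ) T.δY' s.δY' := T.compatY
  have hgenpt : ∀ ξ : I, (Sigma.desc φ) (Sigma.ι Z ξ (genericPoint (Z ξ))) = ξ.1 := fun ξ => by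
    rw [← Scheme.Hom.comp_apply, Sigma.ι_desc]; exact hφgen ξ
  have hdel : ∀ ξ : I, T.δY' (Sigma.ι Z ξ (genericPoint (Z ξ))) = s.δY' ξ.1 := fun ξ => by
    rw [delta_eq_of_residueDegree_one hcT (hdeg ξ), hgenpt]
  have hA : A ∈ Cyc.Zk T.Y' T.δY' k := fun y hy => by
    show fn y = 0
    rw [← hζ y, hfn]
    split_ifs with hg
    · refine hα _ fun hk => hy ?_
      rw [← hζ y, hg, hdel, hk]
    · rfl
  have hmap : AlgebraicCycle.map (Sigma.desc φ) T.δY' s.δY' A = α := by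
    ext y
    by_cases hy : α y = 0
    · rw [hy, Cyc26.map_apply_eq_sum (Sigma.desc φ) _ _ A y ∅ (fun x hx => absurd hx (Finset.notMem_empty x))
        (fun x hx hne _ => ?_), Finset.sum_empty]
      obtain ⟨ξ, z, rfl⟩ : ∃ ξ z, Sigma.ι Z ξ z = x := ⟨_, _, hζ x⟩
      have hne' : fn (Sigma.ι Z ξ z) ≠ 0 := hne
      rw [hfn] at hne'
      rw [(ite_ne_right_iff.1 hne').1, hgenpt] at hx
      exact absurd (hx ▸ hy) ξ.2
    · rw [Cyc26.map_apply_eq_sum (Sigma.desc φ) _ _ A y {Sigma.ι Z ⟨y, hy⟩ (genericPoint (Z ⟨y, hy⟩))}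
        (fun x hx => by rw [Finset.mem_singleton.1 hx, hgenpt]) (fun x hx hne _ => ?_), Finset.sum_singleton]
      · unfold AlgebraicCycle.mapCoeff
        rw [if_pos (by rw [hdel, hgenpt]), hdeg, Nat.cast_one, mul_one]
        exact (hfn _ _).trans (if_pos rfl)
      · obtain ⟨ξ, z, rfl⟩ : ∃ ξ z, Sigma.ι Z ξ z = x := ⟨_, _, hζ x⟩
        have hne' : fn (Sigma.ι Z ξ z) ≠ 0 := hne
        rw [hfn] at hne'
        obtain rfl := (ite_ne_right_iff.1 hne').1
        obtain rfl : ξ = ⟨y, hy⟩ := Subtype.ext (by rw [← hgenpt ξ, hx])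
        exact Finset.mem_singleton_self _
  -- the class vanishes upstairs
  have hzero : c.op T₀ k (ChowOps.cl A hA) = 0 := by
    choose P hP using fun ξ =>
      haveI := (sqFacts hX hY (u ξ)).noethX
      exists_restrictHom (k := k - p) (l := k + ((0 : ℕ) : ℤ) - p) (h' ξ) TF.dimX (hδX ξ)
        (sqFacts hX hY (u ξ)).dimX (by ring)
    refine (bijective_restrict TF.dimX h' hopen' (fun ξ ξ' hne => ?_) (fun x => ?_) (fun ξ => (u ξ).δX') hδX
      (by simp) P hP).1 (funext fun ξ => ?_)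
    · refine ((hrange ξ).symm ▸ (hrange ξ').symm ▸ Disjoint.preimage _ (Set.disjoint_left.2 ?_) :
        Disjoint (Set.range (h' ξ)) (Set.range (h' ξ')))
      rintro _ ⟨z, rfl⟩ ⟨z', hz'⟩
      exact hne (hinj ξ ξ' z z' hz'.symm)
    · exact ⟨ρ (T₀.f' x), (hrange _).ge ⟨_, hζ _⟩⟩
    show P ξ (c.op T₀ k (ChowOps.cl A hA)) = P ξ 0
    rw [map_zero]
    have U := sqFacts hX hY (u ξ)
    haveI : IsLocallyNoetherian (u ξ).Y' := U.noethY
    obtain ⟨Q, hQ⟩ := exists_restrictHom (k := k) (l := k + ((0 : ℕ) : ℤ)) (h ξ) TF.dimY (hδY ξ) U.dimY rfl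
    have hc : Cyc.DeltaCompat (h ξ) (u ξ).δY' T₀.δY' := (deltaCompat_of_over (s := T₀) (t := u ξ) (h ξ) (w₁ ξ)).2
    refine (eq_of_pullOK U.dimY (Cyc26.shift_of_hasRelDim (h ξ) (hasRelDim_openImmersion _) hc) rfl hQ (hP ξ)
      (c.pull T₀ (u ξ) (h ξ) (h' ξ) 0 (hasRelDim_openImmersion _) (hasRelDim_openImmersion _) (w₁ ξ) (w₂ ξ) (w₃ ξ) k)
      (ChowOps.cl A hA)).symm.trans ?_
    obtain ⟨b, hb⟩ := Cyc26.exists_cycle_pullFun (h ξ) U.dimY
      (Cyc26.shift_of_hasRelDim (h ξ) (hasRelDim_openImmersion _) hc) A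
    have hbv : ∀ z, b z = if z = genericPoint (Z ξ) then α ξ.1 else 0 := fun z => by
      rw [hb, hδY ξ]
      exact (pullFun_openImmersion (h ξ) T₀.δY' ⇑A z).trans (hfn ξ z)
    have hbm := Cyc26.pullFun_mem_Zk (h ξ) hA hb
    rw [hQ A hA b hb hbm]
    let γ : AlgebraicCycle (Z ξ) ℤ := ⟨fun z => if z = genericPoint (Z ξ) then 1 else 0, Set.subset_univ _,
      fun z _ => ⟨Set.univ, Filter.univ_mem, (Set.finite_singleton (genericPoint (Z ξ))).subset fun z hz =>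
        (ite_ne_right_iff.1 hz.2).1⟩⟩
    have hγ : γ ∈ Cyc.Zk (Z ξ) (u ξ).δY' (k + ((0 : ℕ) : ℤ)) := fun z hz => by
      refine if_neg fun hzg => hz ?_
      subst hzg
      have hk : s.δY' ξ.1 = k := by by_contra hk'; exact ξ.2 (hα _ hk')
      rw [hδY ξ]
      show T.δY' (Sigma.ι Z ξ (genericPoint (Z ξ))) = _
      rw [hdel, hk]
      simp
    rw [cl_zsmul (α ξ.1) γ hγ hbm (fun z => ?_), map_zsmul,
      show c.op (u ξ) _ (ChowOps.cl γ hγ) = 0 from hvan ξ _ γ hγ (if_pos rfl) (fun z hz => if_neg hz), zsmul_zero]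
    rw [hbv]
    show _ = α ξ.1 * (if z = genericPoint (Z ξ) then (1 : ℤ) else 0)
    split_ifs <;> simp
  haveI : IsProper T.g' :=
    MorphismProperty.of_isPullback (P := @IsProper) T.isPullback (show IsProper (Sigma.desc φ) from inferInstance)
  haveI : IsProper T.g := show IsProper (Sigma.desc φ) from inferInstance
  obtain ⟨P, hP⟩ := exists_isPushMap T.g TF.dimY S.dimY T.compatY k
  obtain ⟨P', hP'⟩ := exists_isPushMap T.g' TF.dimX S.dimX T.compatX (k - p)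
  have key := eq_of_pushOK hP hP' (c.push s T₀ T.g T.g' rfl T.isPullback.w.symm rfl k) (ChowOps.cl A hA)
  have e : ChowOps.cl (AlgebraicCycle.map T.g T₀.δY' s.δY' A) (Bivar.cycMap_mem_Zk T.g T₀.δY' s.δY' k hA) =
      ChowOps.cl α hα := Bivar.cl_congr hmap _ _
  rw [hP, e, hzero, map_zero] at key
  exact key

end Groth.Agent.Bivar12
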