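import Groth.Agent.Lib.Cyc26.GysFun
import Groth.Agent.Lib.Cyc26.Stalk

/-!
# Zero schemes under base change and isomorphisms of modules
-/

set_option autoImplicit false
universe u
set_option linter.style.haveILetI false
set_option backward.isDefEq.respectTransparency false
set_option backward.isDefEq.respectTransparency.types false

open CategoryTheory CategoryTheory.Limits AlgebraicGeometry TopologicalSpace

noncomputable section

namespace Groth.Agent.Bivar12

variable {X X' D P : Scheme.{u}}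

theorem stalkLin_mem_mSmul {M N : X.Modules} (φ : M ⟶ N) (x : X) {a : M.presheaf.stalk x}
    (ha : a ∈ (IsLocalRing.maximalIdeal (X.presheaf.stalk x) •
      (⊤ : Submodule (X.presheaf.stalk x) (M.presheaf.stalk x)))) :
    Cyc26.stalkLin φ x a ∈ (IsLocalRing.maximalIdeal (X.presheaf.stalk x) •
      (⊤ : Submodule (X.presheaf.stalk x) (N.presheaf.stalk x))) := by
  refine (Submodule.map_smul'' _ ⊤ (Cyc26.stalkLin φ x)).trans_le (Submodule.smul_mono le_rfl le_top) ?_
  exact Submodule.mem_map_of_mem ha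

theorem stalkLin_hom_inv {M N : X.Modules} (e : M ≅ N) (x : X) (a : M.presheaf.stalk x) :
    Cyc26.stalkLin e.inv x (Cyc26.stalkLin e.hom x a) = a := by
  show (M1.stalkAb x).map e.inv ((M1.stalkAb x).map e.hom a) = a
  rw [← ConcreteCategory.comp_apply, ← Functor.map_comp, e.hom_inv_id, CategoryTheory.Functor.map_id]
  rfl

theorem stalkLin_germ {M N : X.Modules} (φ : M ⟶ N) {U : X.Opens} {x : X} (hx : x ∈ U) (s : Γ(M, U)) :
    Cyc26.stalkLin φ x (M.presheaf.germ U x hx s) = N.presheaf.germ U x hx (φ.app U s) :=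
  M1.germ_naturality ..

theorem isZeroSchemeOf_moduleIso {M N : X.Modules} (e : M ≅ N) {i : D ⟶ X} {s : M.presheaf.obj (Opposite.op ⊤)}
    (h : Cyc.IsZeroSchemeOf i M s) : Cyc.IsZeroSchemeOf i N (e.hom.app ⊤ s) := by
  refine ⟨h.1.trans (Set.ext fun x => ?_), fun d => ?_⟩
  · simp only [Set.mem_setOf_eq, Submodule.Quotient.mk_eq_zero]
    rw [← stalkLin_germ e.hom (U := ⊤) (x := x) trivial s]
    refine ⟨fun ha => stalkLin_mem_mSmul e.hom x ha, fun hb => ?_⟩
    have := stalkLin_mem_mSmul e.inv x hb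
    rwa [stalkLin_hom_inv] at this
  · obtain ⟨t, f, ht, hs, hk⟩ := h.2 d
    refine ⟨Cyc26.stalkLin e.hom (i d) t, f, ?_, ?_, hk⟩
    · rw [← Set.image_singleton, Submodule.span_image, ht, Submodule.map_top, LinearMap.range_eq_top]
      exact fun b => ⟨Cyc26.stalkLin e.inv (i d) b, stalkLin_hom_inv e.symm (i d) b⟩
    · rw [← stalkLin_germ e.hom (U := ⊤) (x := i d) trivial s, hs, map_smul]

theorem isZeroSchemeOf_pullback (f : X' ⟶ X) {i : D ⟶ X} [IsClosedImmersion i] {p : P ⟶ X'} {q : P ⟶ D}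
    (hpb : IsPullback p q f i) {L : X.Modules} (hL : PicF.IsInvertible L) {s : L.presheaf.obj (Opposite.op ⊤)}
    (h : Cyc.IsZeroSchemeOf i L s) :
    Cyc.IsZeroSchemeOf p ((Scheme.Modules.pullback f).obj L) (Groth.Agent.M2.pullSec f L s) := by
  haveI : IsClosedImmersion p := MorphismProperty.of_isPullback hpb.flip ‹IsClosedImmersion i›
  have hM := Groth.Agent.Twist.isInvertible_pullback f hL
  have hg : ∀ y : X', Cyc26.pst f L y ((L.presheaf.germ ⊤ (f y) trivial) s) =
      (((Scheme.Modules.pullback f).obj L).presheaf.germ ⊤ y trivial) (Groth.Agent.M2.pullSec f L s) := fun y => by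
    rw [Cyc26.pst_germ]; rfl
  refine ⟨Set.ext fun y => ?_, fun z => ?_⟩
  · have hr : y ∈ Set.range p ↔ f y ∈ Set.range i := by
      have hp : p = hpb.isoPullback.hom ≫ pullback.fst f i := hpb.isoPullback_hom_fst.symm
      have hrange : Set.range p = Set.range (pullback.fst f i) := by
        rw [hp, Scheme.Hom.comp_base, TopCat.coe_comp, Set.range_comp,
          Set.range_eq_univ.2 hpb.isoPullback.hom.surjective, Set.image_univ]
      rw [hrange, Scheme.Pullback.range_fst]
      rfl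
    rw [hr, h.1, Set.mem_setOf_eq, Set.mem_setOf_eq, ← hg]
    show (Cyc26.fmk L (f y) _ = 0) ↔ Cyc26.fmk _ y _ = 0
    rw [← Cyc26.secPull_fmk]
    refine ⟨fun h0 => ?_, fun h0 => by_contra fun hn => Cyc26.secPull_ne_zero f hL y hn h0⟩
    have hz : Cyc26.fmk L (f y) 0 = 0 := Submodule.Quotient.mk_zero _
    rw [h0, ← hz, Cyc26.secPull_fmk, show Cyc26.pst f L y 0 = 0 from map_zero (Groth.Agent.M2.stalkUnit f y L)]
    exact Submodule.Quotient.mk_zero _
  · obtain ⟨t, g, ht, hsg, hker⟩ := h.2 (q z)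
    have e : i (q z) = f (p z) := by
      rw [← Scheme.Hom.comp_apply, ← Scheme.Hom.comp_apply, hpb.w]
    have hs3 : (L.presheaf.germ ⊤ (f (p z)) trivial) s = X.presheaf.stalkSpecializes (specializes_of_eq e.symm) g •
        L.presheaf.stalkSpecializes (specializes_of_eq e.symm) t := by
      rw [← Cyc26.stalkSpecializes_smul, ← hsg, TopCat.Presheaf.germ_stalkSpecializes_apply]
    have hgen := Cyc26.gen_pst f hL (Cyc26.gen_stalkSpecializes hL (specializes_of_eq e.symm) (Cyc26.gen_of_span hL ht))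
    refine ⟨Cyc26.pst f L (p z) (L.presheaf.stalkSpecializes (specializes_of_eq e.symm) t),
      Cyc26.stalkTo f (p z) e g, Cyc26.span_eq_top_of_gen hgen, ?_, le_antisymm ?_ ?_⟩
    · rw [← hg, hs3, Cyc26.pst_smul]
      rfl
    · refine (Cyc26.ker_stalkMap_pullback_fst f i hpb z).trans ?_
      rw [hker, Ideal.map_span, Set.image_singleton]
    · rw [Ideal.span_singleton_le_iff_mem, RingHom.mem_ker]
      show p.stalkMap z (f.stalkMap (p z) (X.presheaf.stalkSpecializes (specializes_of_eq e.symm) g)) = 0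
      rw [show p.stalkMap z (f.stalkMap (p z) (X.presheaf.stalkSpecializes (specializes_of_eq e.symm) g)) =
        q.stalkMap z (i.stalkMap (q z) g) from Cyc26.stalkMap_square p q f i hpb.w z e g]
      have hz0 : i.stalkMap (q z) g = 0 := by
        rw [← RingHom.mem_ker, hker]
        exact Ideal.subset_span rfl
      rw [hz0, map_zero]

/-- The map of fibres of a morphism of modules. -/
def fibLin {M N : X.Modules} (φ : M ⟶ N) (x : X) : Cyc.secFibre M x →ₗ[X.presheaf.stalk x] Cyc.secFibre N x :=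
  Submodule.mapQ _ _ (Cyc26.stalkLin φ x) fun _ ha => stalkLin_mem_mSmul φ x ha

theorem fibLin_mk {M N : X.Modules} (φ : M ⟶ N) (x : X) (a : M.presheaf.stalk x) :
    fibLin φ x (Submodule.Quotient.mk a) = Submodule.Quotient.mk (Cyc26.stalkLin φ x a) := rfl

theorem fibLin_hom_inv {M N : X.Modules} (e : M ≅ N) (x : X) (v : Cyc.secFibre M x) :
    fibLin e.inv x (fibLin e.hom x v) = v := by
  obtain ⟨a, rfl⟩ := Submodule.Quotient.mk_surjective _ v
  rw [fibLin_mk, fibLin_mk, stalkLin_hom_inv]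

theorem fibLin_ne_zero {M N : X.Modules} (e : M ≅ N) (x : X) {v : Cyc.secFibre M x} (hv : v ≠ 0) :
    fibLin e.hom x v ≠ 0 := fun h => hv (by rw [← fibLin_hom_inv e x v, h, map_zero])

theorem stalkLin_stalkSpecializes {M N : X.Modules} (φ : M ⟶ N) {ξ x : X} (h : ξ ⤳ x) (a : M.presheaf.stalk x) :
    Cyc26.stalkLin φ ξ (M.presheaf.stalkSpecializes h a) = N.presheaf.stalkSpecializes h (Cyc26.stalkLin φ x a) := by
  obtain ⟨U, hU, t, rfl⟩ := M.presheaf.exists_germ_eq a
  rw [TopCat.Presheaf.germ_stalkSpecializes_apply, stalkLin_germ, stalkLin_germ,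
    TopCat.Presheaf.germ_stalkSpecializes_apply]

theorem secDivFun_moduleIso {M N : X.Modules} (e : M ≅ N) (hM : PicF.IsInvertible M) (δ : X → ℤ) (ξ : X)
    {v : Cyc.secFibre M ξ} (hv : v ≠ 0) (x : X) :
    Cyc.secDivFun δ N ξ (fibLin e.hom ξ v) x = Cyc.secDivFun δ M ξ v x := by
  simp only [Cyc.secDivFun]
  split_ifs with h
  swap; · rfl
  have hN := Groth.Agent.Twist.isInvertible_of_iso e hM
  obtain ⟨g, hg⟩ := Cyc26.exists_gen hM x
  obtain ⟨ψ, hψ, rfl⟩ := Cyc26.exists_rep_gen (Cyc26.gen_stalkSpecializes hM h.1 hg) hv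
  have hg' : Amp.Gen (Cyc26.stalkLin e.hom x g) := by
    refine Cyc26.gen_of_span hN ?_
    rw [← Set.image_singleton, Submodule.span_image, Cyc26.span_eq_top_of_gen hg, Submodule.map_top,
      LinearMap.range_eq_top]
    exact fun b => ⟨Cyc26.stalkLin e.inv x b, stalkLin_hom_inv e.symm x b⟩
  rw [map_smul, show fibLin e.hom ξ (Cyc26.fmk M ξ (M.presheaf.stalkSpecializes h.1 g)) =
    Cyc26.fmk N ξ (N.presheaf.stalkSpecializes h.1 (Cyc26.stalkLin e.hom x g)) from by
      rw [← stalkLin_stalkSpecializes]; rfl, Cyc26.secOrdAt_gen hN h.1 hg' ψ hψ,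
    Cyc26.secOrdAt_gen hM h.1 hg ψ hψ]

theorem c1CapFun_gysin_moduleIso {M N : X.Modules} (e : M ≅ N) (hM : PicF.IsInvertible M) (δ : X → ℤ) (α : X → ℤ)
    (s : M.presheaf.obj (Opposite.op ⊤)) {w : (ξ : X) → Cyc.secFibre M ξ} (hw : ∀ ξ, w ξ ≠ 0) :
    Cyc.c1CapFun δ N α (Cyc.gysinChoice N (e.hom.app ⊤ s) fun ξ => fibLin e.hom ξ (w ξ)) =
      Cyc.c1CapFun δ M α (Cyc.gysinChoice M s w) := by
  funext x
  refine finsum_congr fun ξ => congrArg (α ξ * ·) ?_
  rw [← secDivFun_moduleIso e hM δ ξ (Cyc26.gysinChoice_ne_zero s hw ξ) x]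
  refine congrArg (fun v => Cyc.secDivFun δ N ξ v x) ?_
  have hs : (Submodule.Quotient.mk ((N.presheaf.germ ⊤ ξ trivial) (e.hom.app ⊤ s)) : Cyc.secFibre N ξ) =
      fibLin e.hom ξ (Submodule.Quotient.mk ((M.presheaf.germ ⊤ ξ trivial) s)) := by
    rw [fibLin_mk, stalkLin_germ]
  simp only [Cyc.gysinChoice]
  by_cases h0 : (Submodule.Quotient.mk ((M.presheaf.germ ⊤ ξ trivial) s) : Cyc.secFibre M ξ) = 0
  · rw [if_neg (not_not.2 h0), if_neg (not_not.2 (by rw [hs, h0, map_zero]))]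
  · rw [if_pos h0, if_pos (by rw [hs]; exact fibLin_ne_zero e ξ h0), hs]

end Groth.Agent.Bivar12
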