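import Groth.Agent.Lib.Bivar12.Transport
import Groth.Agent.Lib.Bivar12.ZeroScheme
import Groth.Agent.Lib.Cyc26.C1Apps
import Groth.Agent.Lib.Cyc26.RatPull
import Groth.Agent.Lib.Cyc26.C1Flat

/-!
# The bivariant first Chern class
-/

set_option autoImplicit false
universe u
set_option linter.style.haveILetI false
set_option backward.isDefEq.respectTransparency false
set_option backward.isDefEq.respectTransparency.types false

open CategoryTheory CategoryTheory.Limits AlgebraicGeometry TopologicalSpace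

noncomputable section

namespace Groth.Agent.Bivar12

variable {X : Scheme.{u}} {δX : X → ℤ}

theorem c1CapFun_moduleIso {M N : X.Modules} (e : M ≅ N) (hM : PicF.IsInvertible M) (δ : X → ℤ) (α : X → ℤ)
    {v : (ξ : X) → Cyc.secFibre M ξ} (hv : ∀ ξ, v ξ ≠ 0) :
    Cyc.c1CapFun δ N α (fun ξ => fibLin e.hom ξ (v ξ)) = Cyc.c1CapFun δ M α v :=
  funext fun x => finsum_congr fun ξ => congrArg (α ξ * ·) (secDivFun_moduleIso e hM δ ξ (hv ξ) x)

theorem exists_c1Hom [IsLocallyNoetherian X] {δ : X → ℤ} (hd : Cyc.IsDimFun X δ) {L : X.Modules}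
    (hL : PicF.IsInvertible L) (k : ℤ) :
    ∃ φ : ChowOps.CH X δ k →+ ChowOps.CH X δ (k - 1), ∀ (α : AlgebraicCycle X ℤ) (hα : α ∈ Cyc.Zk X δ k)
      (v : (ξ : X) → Cyc.secFibre L ξ) (_ : ∀ ξ, v ξ ≠ 0) (γ : AlgebraicCycle X ℤ)
      (_ : ⇑γ = Cyc.c1CapFun δ L ⇑α v) (hγ : γ ∈ Cyc.Zk X δ (k - 1)),
      φ (ChowOps.cl α hα) = ChowOps.cl γ hγ := by
  obtain ⟨v, hv⟩ := Cyc26.exists_sections hL
  choose C hC using fun α : AlgebraicCycle X ℤ => Cyc26.exists_cycle_c1Cap hL hd α hv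
  have hk : ∀ a : ↥(ChowOps.zk X δ k), a.1 ∈ Cyc.Zk X δ (k - 1 + 1) := fun a => by
    rw [sub_add_cancel]; exact a.2
  have hm : ∀ a : ↥(ChowOps.zk X δ k), C a.1 ∈ Cyc.Zk X δ (k - 1) := fun a => Cyc26.c1Cap_mem_Zk (hk a) (hC _)
  let m : ↥(ChowOps.zk X δ k) →+ ChowOps.CH X δ (k - 1) :=
    AddMonoidHom.mk' (fun a => ChowOps.cl (C a.1) (hm a)) fun a b => by
      refine (Bivar.cl_congr (DFunLike.coe_injective ?_) _ _).trans (Bivar.cl_add _ _ (hm a) (hm b))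
      rw [hC, show ((a + b : ↥(ChowOps.zk X δ k)) : AlgebraicCycle X ℤ) = a.1 + b.1 from rfl,
        Function.locallyFinsuppWithin.coe_add, Bivar.c1CapFun_add, Function.locallyFinsuppWithin.coe_add, hC, hC]
  have hker : ChowOps.ratTriv X δ k ≤ m.ker := by
    refine (AddSubgroup.closure_le _).2 fun a ha => AddMonoidHom.mem_ker.2 ?_
    refine (QuotientAddGroup.eq_zero_iff _).2 (AddSubgroup.subset_closure ?_)
    refine Cyc26.c1Cap_ratEquivZero hd hL ?_ hv (hC _)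
    rw [sub_add_cancel]; exact ha
  refine ⟨QuotientAddGroup.lift _ m hker, fun α hα v' hv' γ hγ hγm => ?_⟩
  show ChowOps.cl (C α) (hm ⟨α, hα⟩) = _
  exact cl_eq_of_ratEquiv _ _ (Cyc26.ratEquiv_c1Cap hL (hk ⟨α, hα⟩) hv hv' (hC α) hγ)

/-- The modules pulled back to two test schemes over a morphism between them. -/
def pullIso {L : X.Modules} {S T : Scheme.{u}} (h : T ⟶ S) {g : S ⟶ X} {g' : T ⟶ X} (w : h ≫ g = g') :
    (Scheme.Modules.pullback h).obj ((Scheme.Modules.pullback g).obj L) ≅ (Scheme.Modules.pullback g').obj L :=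
  (Scheme.Modules.pullbackComp h g).app L ≪≫ (Scheme.Modules.pullbackCongr w).app L

theorem exists_isC1Class (hX : Cyc.IsSetup X δX) (L : X.Modules) (hL : PicF.IsInvertible L) :
    ∃ c : Bivar.OpCl 1 X δX, Bivar.IsC1Class L c := by
  haveI := hX.1
  have hN : ∀ s : Bivar.OSq X δX, IsLocallyNoetherian s.Y := fun s => by
    haveI := s.lft
    exact LocallyOfFiniteType.isLocallyNoetherian s.g
  have hd : ∀ s : Bivar.OSq X δX, Cyc.IsDimFun s.Y s.δ := fun s => by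
    haveI := s.lft
    exact UCat26.isDimFun_of_deltaCompat s.g hX.2.1 hX.2.2 s.compat
  have hM : ∀ s : Bivar.OSq X δX, PicF.IsInvertible ((Scheme.Modules.pullback s.g).obj L) := fun s =>
    Groth.Agent.Twist.isInvertible_pullback s.g hL
  have hex := fun (s : Bivar.OSq X δX) (k : ℤ) =>
    haveI := hN s
    exists_c1Hom (hd s) (hM s) k
  choose φ hφ using hex
  have hdc : ∀ (s t : Bivar.OSq X δX) (h : t.Y ⟶ s.Y), h ≫ s.g = t.g →
      LocallyOfFiniteType h ∧ Cyc.DeltaCompat h t.δ s.δ := fun s t h w => by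
    haveI := s.lft
    haveI : LocallyOfFiniteType (h ≫ s.g) := by rw [w]; exact t.lft
    haveI := locallyOfFiniteType_of_comp h s.g
    refine ⟨inferInstance, deltaCompat_cancel h s.g s.compat ?_⟩
    rw [w]; exact t.compat
  have hcyc : ∀ (s : Bivar.OSq X δX) (k : ℤ) (α : AlgebraicCycle s.Y ℤ), α ∈ Cyc.Zk s.Y s.δ k →
      ∀ (v : (ξ : s.Y) → Cyc.secFibre ((Scheme.Modules.pullback s.g).obj L) ξ), (∀ ξ, v ξ ≠ 0) →
      ∃ β : AlgebraicCycle s.Y ℤ, β ∈ Cyc.Zk s.Y s.δ (k - 1) ∧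
        ⇑β = Cyc.c1CapFun s.δ ((Scheme.Modules.pullback s.g).obj L) ⇑α v := fun s k α hα v hv => by
    haveI := hN s
    obtain ⟨β, hβ⟩ := Cyc26.exists_cycle_c1Cap (hM s) (hd s) α hv
    exact ⟨β, Cyc26.c1Cap_mem_Zk (by rwa [sub_add_cancel]) hβ, hβ⟩
  refine ⟨{ op := φ, push := ?_, pull := ?_, gysin := ?_ }, hL, fun s k α hα v hv γ hγ hγm => hφ s k α hα v hv γ hγ hγm⟩
  · intro s t h _ w k α hα
    haveI := hN s
    haveI := hN t
    obtain ⟨v, hv⟩ := Cyc26.exists_sections (hM s)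
    let e := pullIso (L := L) h w
    let v' : (ξ : t.Y) → Cyc.secFibre ((Scheme.Modules.pullback t.g).obj L) ξ := fun ξ =>
      fibLin e.hom ξ (Cyc26.secPull h _ ξ (v (h ξ)))
    have hv0 : ∀ ξ, Cyc26.secPull h _ ξ (v (h ξ)) ≠ 0 := fun ξ => Cyc26.secPull_ne_zero h (hM s) ξ (hv _)
    have hv' : ∀ ξ, v' ξ ≠ 0 := fun ξ => fibLin_ne_zero e ξ (hv0 ξ)
    obtain ⟨β, hβm, hβ⟩ := hcyc t k α hα v' hv'
    refine ⟨β, hβm, hφ t k α hα v' hv' β hβ hβm, hφ s k _ _ v hv _ ?_ _⟩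
    refine Cyc26.map_c1Cap_secPull h (hd t) (hd s) (hdc s t h w).2 (hM s) α v hv β ?_
    rw [hβ, c1CapFun_moduleIso e (Groth.Agent.Twist.isInvertible_pullback h (hM s)) _ _ hv0]
  · intro s t h _ r hr w k α hα
    haveI := hN s
    haveI := hN t
    obtain ⟨hl, hc⟩ := hdc s t h w
    haveI := hl
    obtain ⟨v, hv⟩ := Cyc26.exists_sections (hM s)
    let e := pullIso (L := L) h w
    have hv0 : ∀ ξ, Cyc26.secPull h _ ξ (v (h ξ)) ≠ 0 := fun ξ => Cyc26.secPull_ne_zero h (hM s) ξ (hv _)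
    let v' : (ξ : t.Y) → Cyc.secFibre ((Scheme.Modules.pullback t.g).obj L) ξ := fun ξ =>
      fibLin e.hom ξ (Cyc26.secPull h _ ξ (v (h ξ)))
    have hv' : ∀ ξ, v' ξ ≠ 0 := fun ξ => fibLin_ne_zero e ξ (hv0 ξ)
    obtain ⟨β, hβm, hβ⟩ := hcyc s k α hα v hv
    refine ⟨β, hβm, hφ s k α hα v hv β hβ hβm, fun α₁ h₁ hα₁ => ?_⟩
    obtain ⟨β₁, hβ₁m, hβ₁⟩ := hcyc t (k + r) α₁ hα₁ v' hv'
    refine ⟨β₁, hβ₁m, ?_, hφ t _ α₁ hα₁ v' hv' β₁ hβ₁ hβ₁m⟩
    rw [hβ₁, hβ, c1CapFun_moduleIso e (Groth.Agent.Twist.isInvertible_pullback h (hM s)) _ _ hv0,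
      Cyc26.pullFun_c1Cap_secPull h (hd t) (hd s) (Cyc26.shift_of_hasRelDim h hr hc) (hM s) α v hv, h₁]
  · intro s t i _ w N hN' σ hσ k α hα
    haveI := hN s
    haveI := hN t
    obtain ⟨v, hv⟩ := Cyc26.exists_sections (hM s)
    let e := pullIso (L := L) i w
    have hv0 : ∀ ξ, Cyc26.secPull i _ ξ (v (i ξ)) ≠ 0 := fun ξ => Cyc26.secPull_ne_zero i (hM s) ξ (hv _)
    let v' : (ξ : t.Y) → Cyc.secFibre ((Scheme.Modules.pullback t.g).obj L) ξ := fun ξ =>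
      fibLin e.hom ξ (Cyc26.secPull i _ ξ (v (i ξ)))
    have hv' : ∀ ξ, v' ξ ≠ 0 := fun ξ => fibLin_ne_zero e ξ (hv0 ξ)
    obtain ⟨β, hβm, hβ⟩ := hcyc s k α hα v hv
    refine ⟨β, hβm, hφ s k α hα v hv β hβ hβm, fun u hu γ hγ hγm => ?_⟩
    obtain ⟨C, hC⟩ := Cyc26.exists_cycle_c1Cap hN' (hd s) β (Cyc26.gysinChoice_ne_zero σ hu)
    obtain ⟨ζ, hζ⟩ := Cyc26.exists_cycle_restrict i C
    have hid := delta_eq_comp (hdc s t i w).2
    have hCm : C ∈ Cyc.Zk s.Y s.δ (k - 1 - 1) := Cyc26.c1Cap_mem_Zk (by rwa [sub_add_cancel]) hC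
    have hζm : ζ ∈ Cyc.Zk t.Y t.δ (k - 1 - 1) := fun x hx => by
      rw [hζ]
      exact hCm _ (by rwa [hid] at hx)
    obtain ⟨ζ₂, hζ₂m, hζ₂⟩ := hcyc t (k - 1) γ hγm v' hv'
    refine ⟨ζ, hζm, fun x => by rw [hζ, hC], ?_⟩
    rw [hφ t (k - 1) γ hγm v' hv' ζ₂ hζ₂ hζ₂m]
    refine (cl_eq_of_ratEquiv hζm hζ₂m ?_).symm
    have key := Cyc26.gysin_c1Cap (hd s) hN' (hM s) i hσ hα hu hv hv0 hβ (γ := ⇑γ) (funext hγ)
      (ζ₁ := ζ) (ζ₂ := ζ₂) (fun x => by rw [hζ, hC]) ?_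
    · rw [← hid, show k - 2 = k - 1 - 1 by ring] at key
      exact key
    · rw [← hid, hζ₂, c1CapFun_moduleIso e (Groth.Agent.Twist.isInvertible_pullback i (hM s)) _ _ hv0]

end Groth.Agent.Bivar12
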