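import Groth.Agent.Lib.Bivar12.Transport
import Groth.Agent.Lib.Cyc26.PullPush
import Groth.Agent.Lib.Cyc26.PushRat

/-!
# Functoriality of proper pushforward of cycles
-/

set_option autoImplicit false
universe u
set_option linter.style.haveILetI false
set_option backward.isDefEq.respectTransparency false
set_option backward.isDefEq.respectTransparency.types false

open CategoryTheory CategoryTheory.Limits AlgebraicGeometry TopologicalSpace

noncomputable section

namespace Groth.Agent.Bivar12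

variable {X Y Z : Scheme.{u}}

theorem mapCoeff_comp (p : X ⟶ Y) (q : Y ⟶ Z) {δX : X → ℤ} {δY : Y → ℤ} {δZ : Z → ℤ}
    (hp : Cyc.DeltaCompat p δX δY) (hq : Cyc.DeltaCompat q δY δZ) (x : X) :
    (AlgebraicCycle.mapCoeff (p ≫ q) δX δZ x : ℤ) =
      AlgebraicCycle.mapCoeff p δX δY x * AlgebraicCycle.mapCoeff q δY δZ (p x) := by
  obtain ⟨n, -, hn⟩ := hp x
  obtain ⟨m, -, hm⟩ := hq (p x)
  unfold AlgebraicCycle.mapCoeff
  rw [Scheme.Hom.comp_apply, residueDegree_comp']
  split_ifs with a b c <;> first | omega | (push_cast; ring)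

/-- Pushforward of cycles is functorial. -/
theorem map_comp (p : X ⟶ Y) (q : Y ⟶ Z) [QuasiCompact p] [QuasiCompact q] {δX : X → ℤ} {δY : Y → ℤ} {δZ : Z → ℤ}
    (hp : Cyc.DeltaCompat p δX δY) (hq : Cyc.DeltaCompat q δY δZ) (a : AlgebraicCycle X ℤ) :
    AlgebraicCycle.map (p ≫ q) δX δZ a = AlgebraicCycle.map q δY δZ (AlgebraicCycle.map p δX δY a) := by
  classical
  ext z
  obtain ⟨W, hW, hzW, -⟩ := exists_isAffineOpen_mem_and_subset (U := (⊤ : Z.Opens)) (x := z) trivial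
  have hfin := a.locallyFiniteSupport.finite_inter_support_of_isCompact ((p ≫ q).isCompact_preimage hW.isCompact)
  let T : Finset X := hfin.toFinset.filter fun x => q (p x) = z
  have hTmem : ∀ x, q (p x) = z → a x ≠ 0 → x ∈ T := fun x hx ha =>
    Finset.mem_filter.2 ⟨hfin.mem_toFinset.2 ⟨show (p ≫ q) x ∈ (W : Set Z) by
      rw [Scheme.Hom.comp_apply, hx]; exact hzW, ha⟩, hx⟩
  have hTz : ∀ x ∈ T, q (p x) = z := fun x hx => (Finset.mem_filter.1 hx).2
  rw [Cyc26.map_apply_eq_sum (p ≫ q) δX δZ a z T hTz (fun x hx ha _ => hTmem x hx ha),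
    Cyc26.map_apply_eq_sum q δY δZ _ z (T.image p)
      (fun y hy => by obtain ⟨x, hx, rfl⟩ := Finset.mem_image.1 hy; exact hTz x hx)
      (fun y hy hne _ => by
        by_contra hn
        refine hne ?_
        rw [Cyc26.map_apply_eq_sum p δX δY a y ∅ (fun x hx => absurd hx (Finset.notMem_empty x))
          (fun x hx ha _ => absurd (Finset.mem_image.2 ⟨x, hTmem x (by rw [hx, hy]) ha, hx⟩) hn), Finset.sum_empty])]
  refine (Finset.sum_fiberwise_of_maps_to (fun x hx => Finset.mem_image_of_mem p hx) _).symm.trans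
    (Finset.sum_congr rfl fun y hy => ?_)
  have hyz : q y = z := by obtain ⟨x, hx, rfl⟩ := Finset.mem_image.1 hy; exact hTz x hx
  rw [Cyc26.map_apply_eq_sum p δX δY a y (T.filter fun x => p x = y) (fun x hx => (Finset.mem_filter.1 hx).2)
      (fun x hx ha _ => Finset.mem_filter.2 ⟨hTmem x (by rw [hx, hyz]) ha, hx⟩), Finset.sum_mul]
  refine Finset.sum_congr rfl fun x hx => ?_
  rw [mapCoeff_comp p q hp hq x, show p x = y from (Finset.mem_filter.1 hx).2]
  ring

theorem map_id (δ : X → ℤ) (a : AlgebraicCycle X ℤ) : AlgebraicCycle.map (𝟙 X) δ δ a = a := by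
  ext y
  rw [Cyc26.map_apply_eq_sum (𝟙 X) δ δ a y {y} (fun x hx => by rw [Finset.mem_singleton.1 hx]; rfl)
    (fun x hx _ _ => Finset.mem_singleton.2 hx), Finset.sum_singleton]
  unfold AlgebraicCycle.mapCoeff
  rw [if_pos (show δ y = δ ((𝟙 X : X ⟶ X) y) from rfl), residueDegree_eq_one_of_surjectiveOnStalks' (𝟙 X),
    Nat.cast_one, mul_one]

theorem map_iso_apply (e : X ≅ Y) (δY : Y → ℤ) (a : AlgebraicCycle X ℤ) (x : X) :
    AlgebraicCycle.map e.hom (fun z => δY (e.hom z)) δY a (e.hom x) = a x := by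
  rw [Cyc26.map_apply_eq_sum e.hom _ δY a _ {x} (fun z hz => by rw [Finset.mem_singleton.1 hz])
    (fun z hz _ _ => Finset.mem_singleton.2 (e.hom.isOpenEmbedding.injective hz)), Finset.sum_singleton]
  unfold AlgebraicCycle.mapCoeff
  rw [if_pos rfl, residueDegree_eq_one_of_surjectiveOnStalks' e.hom, Nat.cast_one, mul_one]

/-- Proper pushforward on Chow groups. -/
theorem exists_pushHom [IsLocallyNoetherian X] [IsLocallyNoetherian Y] (p : X ⟶ Y) [IsProper p] {δX : X → ℤ}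
    {δY : Y → ℤ} (hdX : Cyc.IsDimFun X δX) (hdY : Cyc.IsDimFun Y δY) (hc : Cyc.DeltaCompat p δX δY) (k : ℤ) :
    ∃ φ : ChowOps.CH X δX k →+ ChowOps.CH Y δY k, ∀ (α : AlgebraicCycle X ℤ) (hα : α ∈ Cyc.Zk X δX k),
      φ (ChowOps.cl α hα) = ChowOps.cl (AlgebraicCycle.map p δX δY α) (Bivar.cycMap_mem_Zk p δX δY k hα) := by
  let m : ↥(ChowOps.zk X δX k) →+ ChowOps.CH Y δY k :=
    { toFun := fun a => ChowOps.cl (AlgebraicCycle.map p δX δY a.1) (Bivar.cycMap_mem_Zk p δX δY k a.2)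
      map_zero' := (Bivar.cl_congr (Bivar.cycMap_zero p δX δY) _ _).trans Bivar.cl_zero
      map_add' := fun a b => (Bivar.cl_congr (Bivar.cycMap_add p δX δY a.1 b.1) _ _).trans (Bivar.cl_add _ _ _ _) }
  have hm : ChowOps.ratTriv X δX k ≤ m.ker := by
    refine (AddSubgroup.closure_le _).2 fun a ha => ?_
    refine AddMonoidHom.mem_ker.2 ((QuotientAddGroup.eq_zero_iff _).2 (AddSubgroup.subset_closure ?_))
    exact Cyc26.ratEquivZero_map p hdX hdY hc ha
  exact ⟨QuotientAddGroup.lift _ m hm, fun α hα => rfl⟩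

/-- Pushforward then flat pullback, for an arbitrary cartesian square. -/
theorem pullFun_map_of_isPullback {A B C S : Scheme.{u}} {p' : A ⟶ B} {f' : A ⟶ C} {f : B ⟶ S} {p : C ⟶ S}
    (hpb : IsPullback p' f' f p) [IsProper f] [QuasiCompact f'] [Flat p] [LocallyOfFiniteType f'] [IsLocallyNoetherian C]
    {δA : A → ℤ} {δB : B → ℤ} {δC : C → ℤ} {δS : S → ℤ} (hdC : Cyc.IsDimFun C δC) (hf : Cyc.DeltaCompat f δB δS)
    (hf' : Cyc.DeltaCompat f' δA δC) {r : ℤ}
    (hc : ∀ x : C, (∀ y, p y = p x → y ⤳ x → y = x) → δC x = δS (p x) + r) {k : ℤ}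
    (α : AlgebraicCycle B ℤ) (hα : α ∈ Cyc.Zk B δB k) (α' : AlgebraicCycle A ℤ)
    (hα' : ⇑α' = Cyc.pullFun p' δA δB r ⇑α) :
    Cyc.pullFun p δC δS r ⇑(AlgebraicCycle.map f δB δS α) = ⇑(AlgebraicCycle.map f' δA δC α') := by
  let e := hpb.isoPullback
  obtain ⟨A', hA⟩ := exists_cycle_comp_inv e α'
  let δP : ↥(pullback f p) → ℤ := fun q => δA (e.inv q)
  have hδP : (fun x => δP (e.hom x)) = δA := funext fun x => by
    show δA (e.inv (e.hom x)) = _
    rw [← Scheme.Hom.comp_apply, e.hom_inv_id]; rfl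
  have hsnd : Cyc.DeltaCompat (pullback.snd f p) δP δC := by
    have hcc := Bivar.deltaCompat_comp e.inv f' _ _ _ (deltaCompat_surjStalks e.inv δA) hf'
    rwa [hpb.isoPullback_inv_snd] at hcc
  have hA' : ⇑A' = Cyc.pullFun (pullback.fst f p) δP δB r ⇑α := funext fun q => by
    have hq : e.hom (e.inv q) = q := by rw [← Scheme.Hom.comp_apply, e.inv_hom_id]; rfl
    have hx := pullFun_iso_comp e (pullback.fst f p) δP δB r ⇑α (e.inv q)
    rw [hδP, hpb.isoPullback_hom_fst, hq] at hx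
    rw [← hx, ← hα', ← hA, hq]
  rw [Cyc26.pullFun_map_eq f p hdC hf hsnd hc α hα A' hA']
  refine congrArg DFunLike.coe ?_
  rw [← map_iso_comp e (pullback.snd f p) δP δC α' A' hA, hδP]
  congr 1
  exact hpb.isoPullback_hom_snd

end Groth.Agent.Bivar12
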