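import Groth.Agent.Lib.Bivar12.FlatClass
import Groth.Agent.Lib.Bivar12.PushMap
import Groth.Agent.Lib.Bivar12.ZeroScheme
import Groth.Agent.Lib.Cyc26.C1Apps

/-!
# The bivariant Gysin class
-/

set_option autoImplicit false
universe u
set_option linter.style.haveILetI false
set_option backward.isDefEq.respectTransparency false
set_option backward.isDefEq.respectTransparency.types false

open CategoryTheory CategoryTheory.Limits AlgebraicGeometry TopologicalSpace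

noncomputable section

namespace Groth.Agent.Bivar12

variable {X D : Scheme.{u}}

/-- Gysin cycles do not depend on the section defining the zero scheme. -/
theorem c1Cap_gysin_sameZero {S E : Scheme.{u}} [IsLocallyNoetherian S] (g : S ⟶ X) {i : D ⟶ X} [IsClosedImmersion i]
    {f : E ⟶ S} {q : E ⟶ D} (hpb : IsPullback f q g i) {L : X.Modules} (hL : PicF.IsInvertible L)
    {σ : L.presheaf.obj (Opposite.op ⊤)} (hσ : Cyc.IsZeroSchemeOf i L σ)
    {τ : ((Scheme.Modules.pullback g).obj L).presheaf.obj (Opposite.op ⊤)}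
    (hτ : Cyc.IsZeroSchemeOf f ((Scheme.Modules.pullback g).obj L) τ) (w : (η : X) → Cyc.secFibre L η)
    (δ : S → ℤ) (α : S → ℤ) :
    Cyc.c1CapFun δ ((Scheme.Modules.pullback g).obj L) α
        (fun ξ => Cyc26.secPull g L ξ (Cyc.gysinChoice L σ w (g ξ))) =
      Cyc.c1CapFun δ ((Scheme.Modules.pullback g).obj L) α (Cyc.gysinChoice ((Scheme.Modules.pullback g).obj L) τ
        fun ξ => Cyc26.secPull g L ξ (Cyc.gysinChoice L σ w (g ξ))) := by
  have hD' : Cyc.IsZeroSchemeOf (pullback.fst g i) ((Scheme.Modules.pullback g).obj L) τ := by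
    have h := isZeroSchemeOf_iso_comp hpb.isoPullback.symm hτ
    rwa [show hpb.isoPullback.symm.hom ≫ f = pullback.fst g i from hpb.isoPullback_inv_fst] at h
  funext x
  refine finsum_congr fun ξ => congrArg _ ?_
  by_cases hr : ξ ∈ Set.range (pullback.fst g i)
  · obtain ⟨z, rfl⟩ := hr
    rw [Cyc26.gysinChoice_of_mem hD' _ z]
  · have hfξ : g ξ ∉ Set.range i := fun h => hr (by rw [Scheme.Pullback.range_fst]; exact h)
    simp only
    rw [Cyc26.gysinChoice_of_notMem hD' _ hr, Cyc26.gysinChoice_of_notMem hσ w hfξ,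
      Cyc26.secDivFun_sameZero g hL i hσ hD' hfξ]

theorem exists_gysinHom {S E : Scheme.{u}} [IsLocallyNoetherian S] (g : S ⟶ X) {i : D ⟶ X} [IsClosedImmersion i]
    {f : E ⟶ S} [IsClosedImmersion f] {q : E ⟶ D} (hpb : IsPullback f q g i) {L : X.Modules}
    (hL : PicF.IsInvertible L) {σ : L.presheaf.obj (Opposite.op ⊤)} (hσ : Cyc.IsZeroSchemeOf i L σ) {δ : S → ℤ}
    (hd : Cyc.IsDimFun S δ) {δE : E → ℤ} (hδE : δE = fun e => δ (f e)) (k : ℤ) :
    ∃ φ : ChowOps.CH S δ k →+ ChowOps.CH E δE (k - 1),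
      ∀ (τ : ((Scheme.Modules.pullback g).obj L).presheaf.obj (Opposite.op ⊤)),
        Cyc.IsZeroSchemeOf f ((Scheme.Modules.pullback g).obj L) τ →
      ∀ (α : AlgebraicCycle S ℤ) (hα : α ∈ Cyc.Zk S δ k)
        (w : (ξ : S) → Cyc.secFibre ((Scheme.Modules.pullback g).obj L) ξ) (_ : ∀ ξ, w ξ ≠ 0) (γ : AlgebraicCycle E ℤ)
        (_ : ∀ e, γ e = Cyc.c1CapFun δ ((Scheme.Modules.pullback g).obj L) ⇑α
          (Cyc.gysinChoice ((Scheme.Modules.pullback g).obj L) τ w) (f e))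
        (hγ : γ ∈ Cyc.Zk E δE (k - 1)), φ (ChowOps.cl α hα) = ChowOps.cl γ hγ := by
  subst hδE
  obtain ⟨w₀, hw₀⟩ := Cyc26.exists_sections hL
  let M := (Scheme.Modules.pullback g).obj L
  have hM : PicF.IsInvertible M := Groth.Agent.Twist.isInvertible_pullback g hL
  let u : (ξ : S) → Cyc.secFibre M ξ := fun ξ => Cyc26.secPull g L ξ (Cyc.gysinChoice L σ w₀ (g ξ))
  have hu : ∀ ξ, u ξ ≠ 0 := fun ξ => Cyc26.secPull_ne_zero g hL ξ (Cyc26.gysinChoice_ne_zero σ hw₀ _)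
  choose C hC using fun α : AlgebraicCycle S ℤ => Cyc26.exists_cycle_c1Cap hM hd α hu
  choose B hB using fun α : AlgebraicCycle S ℤ => Cyc26.exists_cycle_restrict f (C α)
  have hk : ∀ a : ↥(ChowOps.zk S δ k), a.1 ∈ Cyc.Zk S δ (k - 1 + 1) := fun a => by
    rw [sub_add_cancel]; exact a.2
  have hm : ∀ a : ↥(ChowOps.zk S δ k), B a.1 ∈ Cyc.Zk E (fun e => δ (f e)) (k - 1) := fun a e he => by
    rw [hB]
    exact Cyc26.c1Cap_mem_Zk (hk a) (hC _) (f e) he
  let m : ↥(ChowOps.zk S δ k) →+ ChowOps.CH E (fun e => δ (f e)) (k - 1) :=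
    AddMonoidHom.mk' (fun a => ChowOps.cl (B a.1) (hm a)) fun a b => by
      refine (Bivar.cl_congr (DFunLike.ext _ _ fun e => ?_) _ _).trans (Bivar.cl_add _ _ (hm a) (hm b))
      rw [Function.locallyFinsuppWithin.coe_add, Pi.add_apply, hB, hB, hB, hC,
        show ((a + b : ↥(ChowOps.zk S δ k)) : AlgebraicCycle S ℤ) = a.1 + b.1 from rfl,
        Function.locallyFinsuppWithin.coe_add, Bivar.c1CapFun_add, Pi.add_apply, hC, hC]
  have hker : ChowOps.ratTriv S δ k ≤ m.ker := by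
    refine (AddSubgroup.closure_le _).2 fun a ha => AddMonoidHom.mem_ker.2 ?_
    refine (QuotientAddGroup.eq_zero_iff _).2 (AddSubgroup.subset_closure ?_)
    have hτ₀ := isZeroSchemeOf_pullback g hpb hL hσ
    refine Cyc26.gysin_ratEquivZero hd hM f hτ₀ (α := a.1) ?_ hu (γ := B a.1) fun e => ?_
    · rw [sub_add_cancel]; exact ha
    · rw [hB, hC, c1Cap_gysin_sameZero g hpb hL hσ hτ₀]
  refine ⟨QuotientAddGroup.lift _ m hker, fun τ hτ α hα w hw γ hγ hγm => ?_⟩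
  show ChowOps.cl (B α) (hm ⟨α, hα⟩) = _
  refine cl_eq_of_ratEquiv _ _ ?_
  refine Cyc26.ratEquiv_c1Cap_on hM f (hk ⟨α, hα⟩) (Cyc26.gysinChoice_ne_zero τ hu)
    (Cyc26.gysinChoice_ne_zero τ hw) ?_ (fun e => ?_) hγ
  · intro ξ _ hξ
    rw [Cyc26.gysinChoice_of_notMem hτ u hξ, Cyc26.gysinChoice_of_notMem hτ w hξ]
  · rw [hB, hC, c1Cap_gysin_sameZero g hpb hL hσ hτ]

variable {δX : X → ℤ} {δD : D → ℤ}

theorem exists_isGysinClass (hX : Cyc.IsSetup X δX) (hD : Cyc.IsSetup D δD) (i : D ⟶ X) [IsClosedImmersion i]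
    (hδ : Cyc.DeltaCompat i δD δX) (L : X.Modules) (hL : PicF.IsInvertible L)
    (σ : L.presheaf.obj (Opposite.op ⊤)) (hσ : Cyc.IsZeroSchemeOf i L σ) :
    ∃ c : Bivar.Cl 1 i δD δX, Bivar.IsGysinClass i L σ c := by
  haveI := hX.1
  have hci : ∀ s : Bivar.Sq i δD δX, IsClosedImmersion s.f' := fun s =>
    MorphismProperty.of_isPullback (P := @IsClosedImmersion) s.isPullback.flip ‹IsClosedImmersion i›
  have hnY : ∀ s : Bivar.Sq i δD δX, IsLocallyNoetherian s.Y' := fun s => by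
    haveI := s.lft
    exact LocallyOfFiniteType.isLocallyNoetherian s.g
  have hnX : ∀ s : Bivar.Sq i δD δX, IsLocallyNoetherian s.X' := fun s => by
    haveI := hci s
    haveI := hnY s
    exact LocallyOfFiniteType.isLocallyNoetherian s.f'
  have hdY : ∀ s : Bivar.Sq i δD δX, Cyc.IsDimFun s.Y' s.δY' := fun s => by
    haveI := s.lft
    exact UCat26.isDimFun_of_deltaCompat s.g hX.2.1 hX.2.2 s.compatY
  have hcf : ∀ s : Bivar.Sq i δD δX, Cyc.DeltaCompat s.f' s.δX' s.δY' := fun s => by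
    haveI := hci s
    refine deltaCompat_cancel s.f' s.g s.compatY ?_
    rw [s.isPullback.w]
    exact Bivar.deltaCompat_comp s.g' i _ _ _ s.compatX hδ
  have hdf : ∀ s : Bivar.Sq i δD δX, s.δX' = fun e => s.δY' (s.f' e) := fun s => by
    haveI := hci s
    exact delta_eq_comp (hcf s)
  have hdX : ∀ s : Bivar.Sq i δD δX, Cyc.IsDimFun s.X' s.δX' := fun s => by
    haveI := hci s
    rw [hdf s]
    exact Cyc26.isDimFun_closed s.f' (hdY s)
  have hM : ∀ s : Bivar.Sq i δD δX, PicF.IsInvertible ((Scheme.Modules.pullback s.g).obj L) := fun s =>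
    Groth.Agent.Twist.isInvertible_pullback s.g hL
  have hex := fun (s : Bivar.Sq i δD δX) (k : ℤ) =>
    haveI := hnY s
    haveI := hci s
    exists_gysinHom s.g s.isPullback hL hσ (hdY s) (hdf s) k
  choose φ hφ using hex
  have hcyc : ∀ (s : Bivar.Sq i δD δX) (k : ℤ) (α : AlgebraicCycle s.Y' ℤ), α ∈ Cyc.Zk s.Y' s.δY' k →
      ∀ (v : (ξ : s.Y') → Cyc.secFibre ((Scheme.Modules.pullback s.g).obj L) ξ), (∀ ξ, v ξ ≠ 0) →
      ∃ β : AlgebraicCycle s.X' ℤ, β ∈ Cyc.Zk s.X' s.δX' (k - 1) ∧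
        ∀ e, β e = Cyc.c1CapFun s.δY' ((Scheme.Modules.pullback s.g).obj L) ⇑α v (s.f' e) := fun s k α hα v hv => by
    haveI := hnY s
    haveI := hci s
    obtain ⟨C, hC⟩ := Cyc26.exists_cycle_c1Cap (hM s) (hdY s) α hv
    obtain ⟨β, hβ⟩ := Cyc26.exists_cycle_restrict s.f' C
    refine ⟨β, fun e he => ?_, fun e => by rw [hβ, hC]⟩
    rw [hβ]
    exact Cyc26.c1Cap_mem_Zk (α := α) (by rwa [sub_add_cancel]) hC (s.f' e) (by rwa [hdf s] at he)
  have hτs : ∀ s : Bivar.Sq i δD δX,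
      Cyc.IsZeroSchemeOf s.f' ((Scheme.Modules.pullback s.g).obj L) (Groth.Agent.M2.pullSec s.g L σ) := fun s =>
    isZeroSchemeOf_pullback s.g s.isPullback hL hσ
  refine ⟨{ op := φ, push := ?_, pull := ?_, gysin := ?_ }, hL, hσ, hδ,
    fun s τ hτ k α hα w hw γ hγ hγm => hφ s k τ hτ α hα w hw γ hγ hγm⟩
  · intro s t h _ h' _ w₁ w₂ w₃ k α hα
    haveI := hnY s
    haveI := hnY t
    haveI := hci s
    haveI := hci t
    have hpb := isPullback_of_over h h' w₁ w₂ w₃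
    let e := (Scheme.Modules.pullbackComp h s.g).app L ≪≫ (Scheme.Modules.pullbackCongr w₁).app L
    have hM' := Groth.Agent.Twist.isInvertible_pullback h (hM s)
    have hz := isZeroSchemeOf_pullback h hpb (hM s) (hτs s)
    obtain ⟨v, hv⟩ := Cyc26.exists_sections hM'
    obtain ⟨w, hw⟩ := Cyc26.exists_sections (hM s)
    have hv' : ∀ ξ, fibLin e.hom ξ (v ξ) ≠ 0 := fun ξ => fibLin_ne_zero e ξ (hv ξ)
    obtain ⟨β, hβm, hβ⟩ := hcyc t k α hα _ (Cyc26.gysinChoice_ne_zero (e.hom.app ⊤ (Groth.Agent.M2.pullSec h _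
      (Groth.Agent.M2.pullSec s.g L σ))) hv')
    refine ⟨β, hβm, hφ t k _ (isZeroSchemeOf_moduleIso e hz) α hα _ hv' β hβ hβm, ?_⟩
    have hmap := Bivar.cycMap_mem_Zk h t.δY' s.δY' k hα
    obtain ⟨ζ, hζm, hζ⟩ := hcyc s k _ hmap _ (Cyc26.gysinChoice_ne_zero (Groth.Agent.M2.pullSec s.g L σ) hw)
    rw [hφ s k _ (hτs s) _ hmap w hw ζ hζ hζm]
    refine cl_eq_of_ratEquiv _ _ ?_
    let ep := hpb.isoPullback
    obtain ⟨A, hA⟩ := exists_cycle_comp_inv ep β
    let δP : ↥(pullback h s.f') → ℤ := fun z => t.δY' (pullback.fst h s.f' z)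
    have hδP : (fun x => δP (ep.hom x)) = t.δX' := by
      rw [hdf t]
      funext x
      show t.δY' ((ep.hom ≫ pullback.fst h s.f') x) = _
      rw [hpb.isoPullback_hom_fst]
    have hD' : Cyc.IsZeroSchemeOf (pullback.fst h s.f')
        ((Scheme.Modules.pullback h).obj ((Scheme.Modules.pullback s.g).obj L))
        (Groth.Agent.M2.pullSec h _ (Groth.Agent.M2.pullSec s.g L σ)) :=
      isZeroSchemeOf_pullback h (IsPullback.of_hasPullback h s.f') (hM s) (hτs s)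
    have key := Cyc26.gysin_map h (hdY t) (hdY s) (deltaCompat_of_over h w₁).2 (hM s) s.f' (hτs s) hD'
      (k := k - 1) (α := α) (show α ∈ Cyc.Zk _ t.δY' (k - 1 + 1) by rwa [sub_add_cancel]) hw hv
      (γ := ζ) hζ (γ' := A) fun z => ?_
    · rw [← hdf s] at key
      have hAm : AlgebraicCycle.map h' t.δX' s.δX' β = AlgebraicCycle.map (pullback.snd h s.f') δP s.δX' A := by
        rw [← map_iso_comp ep (pullback.snd h s.f') δP s.δX' β A hA, hδP]
        congr 1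
        exact hpb.isoPullback_hom_snd.symm
      rw [hAm]
      exact key
    · have hz' : ep.hom (ep.inv z) = z := by rw [← Scheme.Hom.comp_apply, ep.inv_hom_id]; rfl
      conv_lhs => rw [← hz', hA, hβ]
      rw [← Scheme.Hom.comp_apply, hpb.isoPullback_inv_fst, c1CapFun_gysin_moduleIso e hM' _ _ _ hv]
      rfl
  · intro s t h _ h' _ r hr hr' w₁ w₂ w₃ k α hα
    haveI := hnY s
    haveI := hnY t
    haveI := hnX t
    haveI := hci s
    haveI := hci t
    obtain ⟨hl, hc⟩ := deltaCompat_of_over h w₁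
    obtain ⟨hl', hc'⟩ := deltaCompat_of_over' h' w₃
    haveI := hl
    haveI := hl'
    have hpb := isPullback_of_over h h' w₁ w₂ w₃
    let e := (Scheme.Modules.pullbackComp h s.g).app L ≪≫ (Scheme.Modules.pullbackCongr w₁).app L
    have hM' := Groth.Agent.Twist.isInvertible_pullback h (hM s)
    have hz := isZeroSchemeOf_pullback h hpb (hM s) (hτs s)
    obtain ⟨v, hv⟩ := Cyc26.exists_sections hM'
    obtain ⟨w, hw⟩ := Cyc26.exists_sections (hM s)
    have hv' : ∀ ξ, fibLin e.hom ξ (v ξ) ≠ 0 := fun ξ => fibLin_ne_zero e ξ (hv ξ)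
    obtain ⟨β, hβm, hβ⟩ := hcyc s k α hα _ (Cyc26.gysinChoice_ne_zero (Groth.Agent.M2.pullSec s.g L σ) hw)
    refine ⟨β, hβm, hφ s k _ (hτs s) α hα w hw β hβ hβm, fun α₁ h₁ hα₁ => ?_⟩
    obtain ⟨β₁, hβ₁⟩ := Cyc26.exists_cycle_pullFun h' (hdX t) (Cyc26.shift_of_hasRelDim h' hr' hc') β
    have hβ₁m : β₁ ∈ Cyc.Zk t.X' t.δX' (k + r - 1) := by
      rw [show k + (r : ℤ) - 1 = k - 1 + r by ring]
      exact Cyc26.pullFun_mem_Zk h' hβm hβ₁
    obtain ⟨ζ₁, hζ₁m, hζ₁⟩ := hcyc t (k + r) α₁ hα₁ _ (Cyc26.gysinChoice_ne_zero (e.hom.app ⊤ (Groth.Agent.M2.pullSec h _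
      (Groth.Agent.M2.pullSec s.g L σ))) hv')
    refine ⟨β₁, hβ₁m, hβ₁, ?_⟩
    rw [hφ t _ _ (isZeroSchemeOf_moduleIso e hz) α₁ hα₁ _ hv' ζ₁ hζ₁ hζ₁m]
    refine cl_eq_of_ratEquiv _ _ ?_
    let ep := hpb.isoPullback
    obtain ⟨A₁, hA₁⟩ := exists_cycle_comp_inv ep ζ₁
    obtain ⟨A₂, hA₂⟩ := exists_cycle_comp_inv ep β₁
    let δP : ↥(pullback h s.f') → ℤ := fun z => t.δY' (pullback.fst h s.f' z)
    have hδP : (fun x => δP (ep.hom x)) = t.δX' := by
      rw [hdf t]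
      funext x
      show t.δY' ((ep.hom ≫ pullback.fst h s.f') x) = _
      rw [hpb.isoPullback_hom_fst]
    haveI : IsLocallyNoetherian (pullback h s.f' : Scheme.{u}) :=
      LocallyOfFiniteType.isLocallyNoetherian (pullback.fst h s.f')
    have hD' : Cyc.IsZeroSchemeOf (pullback.fst h s.f')
        ((Scheme.Modules.pullback h).obj ((Scheme.Modules.pullback s.g).obj L))
        (Groth.Agent.M2.pullSec h _ (Groth.Agent.M2.pullSec s.g L σ)) :=
      isZeroSchemeOf_pullback h (IsPullback.of_hasPullback h s.f') (hM s) (hτs s)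
    have key := Cyc26.gysin_pullFun (k := k - 1) h (hdY t) (hdY s) (Cyc26.shift_of_hasRelDim h hr hc) (hM s) s.f'
      (hτs s) hD' (show α ∈ Cyc.Zk _ s.δY' (k - 1 + 1) by rwa [sub_add_cancel]) hw hv (ζ₁ := A₁) (ζ₂ := A₂)
      (fun z => ?_) ?_
    · have := ratEquiv_iso ep (δP := δP) (Cyc26.isDimFun_closed (pullback.fst h s.f') (hdY t)) hA₁ hA₂ key
      rwa [hδP, show k - 1 + (r : ℤ) = k + r - 1 by ring] at this
    · have hz' : ep.hom (ep.inv z) = z := by rw [← Scheme.Hom.comp_apply, ep.inv_hom_id]; rfl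
      conv_lhs => rw [← hz', hA₁, hζ₁]
      rw [← Scheme.Hom.comp_apply, hpb.isoPullback_inv_fst, c1CapFun_gysin_moduleIso e hM' _ _ _ hv, h₁]
      rfl
    · funext p
      have hp : ep.hom (ep.inv p) = p := by rw [← Scheme.Hom.comp_apply, ep.inv_hom_id]; rfl
      have hx := pullFun_iso_comp ep (pullback.snd h s.f') δP s.δX' r ⇑β (ep.inv p)
      rw [hδP, hpb.isoPullback_hom_snd, hp] at hx
      rw [← funext hβ, ← hdf s, ← hx, ← hβ₁, ← hA₂, hp]
  · intro s t j' _ j _ w₁ w₂ w₃ N hN ν hν ρ hρ k α hα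
    haveI := hnY s
    haveI := hnY t
    haveI := hnX t
    haveI := hci s
    haveI := hci t
    have hpb := (isPullback_of_over j' j w₁ w₂ w₃).flip
    let e := (Scheme.Modules.pullbackComp j' s.g).app L ≪≫ (Scheme.Modules.pullbackCongr w₁).app L
    have hM' := Groth.Agent.Twist.isInvertible_pullback j' (hM s)
    have hN' := Groth.Agent.Twist.isInvertible_pullback s.f' hN
    have hz := isZeroSchemeOf_pullback j' hpb.flip (hM s) (hτs s)
    obtain ⟨v, hv⟩ := Cyc26.exists_sections hM'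
    obtain ⟨w, hw⟩ := Cyc26.exists_sections (hM s)
    have hv' : ∀ ξ, fibLin e.hom ξ (v ξ) ≠ 0 := fun ξ => fibLin_ne_zero e ξ (hv ξ)
    obtain ⟨β, hβm, hβ⟩ := hcyc s k α hα _ (Cyc26.gysinChoice_ne_zero (Groth.Agent.M2.pullSec s.g L σ) hw)
    refine ⟨β, hβm, hφ s k _ (hτs s) α hα w hw β hβ hβm, fun u hu γ hγ hγm u' hu' => ?_⟩
    have hjd : t.δX' = fun x => s.δX' (j x) := delta_eq_comp (deltaCompat_of_over' j w₃).2
    have hid : t.δY' = fun x => s.δY' (j' x) := delta_eq_comp (deltaCompat_of_over j' w₁).2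
    haveI := hnX s
    obtain ⟨C, hC⟩ := Cyc26.exists_cycle_c1Cap hN' (hdX s) β (Cyc26.gysinChoice_ne_zero ρ hu')
    obtain ⟨ζ, hζ⟩ := Cyc26.exists_cycle_restrict j C
    have hCm : C ∈ Cyc.Zk s.X' s.δX' (k - 1 - 1) := Cyc26.c1Cap_mem_Zk (by rwa [sub_add_cancel]) hC
    have hζm : ζ ∈ Cyc.Zk t.X' t.δX' (k - 1 - 1) := fun x hx => by
      rw [hζ]
      exact hCm _ (by rwa [hjd] at hx)
    obtain ⟨ζ₂, hζ₂m, hζ₂⟩ := hcyc t (k - 1) γ hγm _ (Cyc26.gysinChoice_ne_zero (e.hom.app ⊤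
      (Groth.Agent.M2.pullSec j' _ (Groth.Agent.M2.pullSec s.g L σ))) hv')
    refine ⟨ζ, hζm, fun x => by rw [hζ, hC], ?_⟩
    rw [hφ t _ _ (isZeroSchemeOf_moduleIso e hz) γ hγm _ hv' ζ₂ hζ₂ hζ₂m]
    refine (cl_eq_of_ratEquiv hζm hζ₂m ?_).symm
    let ep := hpb.isoPullback
    obtain ⟨A₁, hA₁⟩ := exists_cycle_comp_inv ep ζ
    obtain ⟨A₂, hA₂⟩ := exists_cycle_comp_inv ep ζ₂
    let δP : ↥(pullback s.f' j') → ℤ := fun z => s.δY' (s.f' (pullback.fst s.f' j' z))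
    have hδP : (fun x => δP (ep.hom x)) = t.δX' := by
      rw [hjd, hdf s]
      funext x
      show s.δY' (s.f' ((ep.hom ≫ pullback.fst s.f' j') x)) = _
      rw [hpb.isoPullback_hom_fst]
    haveI : IsLocallyNoetherian (pullback s.f' j' : Scheme.{u}) :=
      LocallyOfFiniteType.isLocallyNoetherian (pullback.fst s.f' j')
    have hρ' : Cyc.IsZeroSchemeOf (pullback.fst s.f' j') ((Scheme.Modules.pullback s.f').obj N) ρ := by
      have h := isZeroSchemeOf_iso_comp ep.symm hρ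
      rwa [show ep.symm.hom ≫ j = pullback.fst s.f' j' from hpb.isoPullback_inv_fst] at h
    have hσ' : Cyc.IsZeroSchemeOf (pullback.snd s.f' j')
        ((Scheme.Modules.pullback j').obj ((Scheme.Modules.pullback s.g).obj L))
        (Groth.Agent.M2.pullSec j' _ (Groth.Agent.M2.pullSec s.g L σ)) :=
      isZeroSchemeOf_pullback j' (IsPullback.of_hasPullback s.f' j').flip (hM s) (hτs s)
    have key := Cyc26.gysin_gysin_pullback (hdY s) (hM s) hN s.f' j' (hτs s) hν hρ' hσ' hα hw hu hu' hv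
      (γ := ⇑β) (funext hβ) (γ' := ⇑γ) (funext hγ) (ζ₁ := A₁) (ζ₂ := A₂) (fun z => ?_) fun z => ?_
    · have := ratEquiv_iso ep (δP := δP)
        (Cyc26.isDimFun_closed (pullback.fst s.f' j') (Cyc26.isDimFun_closed s.f' (hdY s))) hA₁ hA₂ key
      rwa [hδP, show k - 2 = k - 1 - 1 by ring] at this
    · have hz' : ep.hom (ep.inv z) = z := by rw [← Scheme.Hom.comp_apply, ep.inv_hom_id]; rfl
      conv_lhs => rw [← hz', hA₁, hζ, hC]
      rw [← Scheme.Hom.comp_apply, hpb.isoPullback_inv_fst, ← hdf s]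
    · have hz' : ep.hom (ep.inv z) = z := by rw [← Scheme.Hom.comp_apply, ep.inv_hom_id]; rfl
      conv_lhs => rw [← hz', hA₂, hζ₂]
      rw [← Scheme.Hom.comp_apply, hpb.isoPullback_inv_snd, c1CapFun_gysin_moduleIso e hM' _ _ _ hv, ← hid]
      rfl

end Groth.Agent.Bivar12
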