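import Groth.Agent.Lib.Bivar12.C1Class
import Groth.Agent.Lib.Bivar12.GysinClass

/-!
# The compatibilities of bivariant classes as equations of maps
-/

set_option autoImplicit false
universe u
set_option linter.style.haveILetI false
set_option backward.isDefEq.respectTransparency false
set_option backward.isDefEq.respectTransparency.types false

open CategoryTheory CategoryTheory.Limits AlgebraicGeometry TopologicalSpace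

noncomputable section

namespace Groth.Agent.Bivar12

variable {X Y T T' S S' D E : Scheme.{u}}

/-- `φ` is flat pullback with dimension shift `r`. -/
def IsPullMap (f : X ⟶ Y) (δX : X → ℤ) (δY : Y → ℤ) (r : ℤ) {k l : ℤ}
    (φ : ChowOps.CH Y δY k →+ ChowOps.CH X δX l) : Prop :=
  ∀ (α : AlgebraicCycle Y ℤ) (hα : α ∈ Cyc.Zk Y δY k) (β : AlgebraicCycle X ℤ),
    ⇑β = Cyc.pullFun f δX δY r ⇑α → ∀ (hβ : β ∈ Cyc.Zk X δX l), φ (ChowOps.cl α hα) = ChowOps.cl β hβ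

/-- `φ` is proper pushforward. -/
def IsPushMap (f : X ⟶ Y) [QuasiCompact f] (δX : X → ℤ) (δY : Y → ℤ) {k : ℤ}
    (φ : ChowOps.CH X δX k →+ ChowOps.CH Y δY k) : Prop :=
  ∀ (α : AlgebraicCycle X ℤ) (hα : α ∈ Cyc.Zk X δX k),
    φ (ChowOps.cl α hα) = ChowOps.cl (AlgebraicCycle.map f δX δY α) (Bivar.cycMap_mem_Zk f δX δY k hα)

/-- `φ` is the Gysin map of the triples `(M, τ, j)` with `M ≅ N`. -/
def IsGysinMap (j : E ⟶ S) (δS : S → ℤ) (δE : E → ℤ) (N : S.Modules) {k l : ℤ}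
    (φ : ChowOps.CH S δS k →+ ChowOps.CH E δE l) : Prop :=
  ∀ (M : S.Modules), Nonempty (M ≅ N) → ∀ (τ : M.presheaf.obj (Opposite.op ⊤)), Cyc.IsZeroSchemeOf j M τ →
    ∀ (α : AlgebraicCycle S ℤ) (hα : α ∈ Cyc.Zk S δS k) (w : (ξ : S) → Cyc.secFibre M ξ), (∀ ξ, w ξ ≠ 0) →
      ∀ (γ : AlgebraicCycle E ℤ), (∀ e, γ e = Cyc.c1CapFun δS M ⇑α (Cyc.gysinChoice M τ w) (j e)) →
        ∀ (hγ : γ ∈ Cyc.Zk E δE l), φ (ChowOps.cl α hα) = ChowOps.cl γ hγ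

/-! ### Existence -/

theorem exists_isPullMap [IsLocallyNoetherian X] [IsLocallyNoetherian Y] (f : X ⟶ Y) [Flat f] {δX : X → ℤ} {δY : Y → ℤ}
    (hdX : Cyc.IsDimFun X δX) (hdY : Cyc.IsDimFun Y δY) {c : ℤ}
    (hc : ∀ z, (∀ w, f w = f z → w ⤳ z → w = z) → δX z = δY (f z) + c) {k l : ℤ} (e : l = k + c) :
    ∃ φ : ChowOps.CH Y δY k →+ ChowOps.CH X δX l, IsPullMap f δX δY c φ :=
  exists_pullHom f hdX hdY hc k l e

theorem exists_isPushMap [IsLocallyNoetherian X] [IsLocallyNoetherian Y] (p : X ⟶ Y) [IsProper p] {δX : X → ℤ}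
    {δY : Y → ℤ} (hdX : Cyc.IsDimFun X δX) (hdY : Cyc.IsDimFun Y δY) (hc : Cyc.DeltaCompat p δX δY) (k : ℤ) :
    ∃ φ : ChowOps.CH X δX k →+ ChowOps.CH Y δY k, IsPushMap p δX δY φ :=
  exists_pushHom p hdX hdY hc k

theorem exists_isGysinMap [IsLocallyNoetherian S] (j : E ⟶ S) [IsClosedImmersion j] {δS : S → ℤ}
    (hd : Cyc.IsDimFun S δS) {δE : E → ℤ} (hδE : δE = fun e => δS (j e)) {N : S.Modules} (hN : PicF.IsInvertible N)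
    {σ : N.presheaf.obj (Opposite.op ⊤)} (hσ : Cyc.IsZeroSchemeOf j N σ) {k l : ℤ} (e : l = k - 1) :
    ∃ φ : ChowOps.CH S δS k →+ ChowOps.CH E δE l, IsGysinMap j δS δE N φ := by
  subst e
  obtain ⟨φ, hφ⟩ := exists_gysinHom (𝟙 S) (f := j) (q := 𝟙 E) (i := j)
    (IsPullback.of_vert_isIso ⟨by simp⟩) hN hσ hd hδE k
  refine ⟨φ, fun M ⟨eM⟩ τ hτ α hα w hw γ hγ hγm => ?_⟩
  let ε : M ≅ (Scheme.Modules.pullback (𝟙 S)).obj N := eM ≪≫ ((Scheme.Modules.pullbackId S).app N).symm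
  have hM : PicF.IsInvertible M := Groth.Agent.Twist.isInvertible_of_iso eM.symm hN
  refine hφ (ε.hom.app ⊤ τ) (isZeroSchemeOf_moduleIso ε hτ) α hα (fun ξ => fibLin ε.hom ξ (w ξ))
    (fun ξ => fibLin_ne_zero ε ξ (hw ξ)) γ (fun e => ?_) hγm
  rw [hγ, c1CapFun_gysin_moduleIso ε hM δS ⇑α τ hw]

/-! ### Uniqueness -/

theorem IsPushMap.eq {f : X ⟶ Y} [QuasiCompact f] {δX : X → ℤ} {δY : Y → ℤ} {k : ℤ}
    {φ φ' : ChowOps.CH X δX k →+ ChowOps.CH Y δY k} (h : IsPushMap f δX δY φ) (h' : IsPushMap f δX δY φ') :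
    φ = φ' := by
  refine AddMonoidHom.ext fun x => ?_
  obtain ⟨a, ha, rfl⟩ := Bivar.exists_rep x
  exact (h a ha).trans (h' a ha).symm

theorem IsPullMap.eq [IsLocallyNoetherian X] {f : X ⟶ Y} [Flat f] {δX : X → ℤ} {δY : Y → ℤ}
    (hdX : Cyc.IsDimFun X δX) {c : ℤ} (hc : ∀ z, (∀ w, f w = f z → w ⤳ z → w = z) → δX z = δY (f z) + c) {k l : ℤ}
    (e : l = k + c) {φ φ' : ChowOps.CH Y δY k →+ ChowOps.CH X δX l} (h : IsPullMap f δX δY c φ)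
    (h' : IsPullMap f δX δY c φ') : φ = φ' := by
  subst e
  refine AddMonoidHom.ext fun x => ?_
  obtain ⟨a, ha, rfl⟩ := Bivar.exists_rep x
  obtain ⟨β, hβ⟩ := Cyc26.exists_cycle_pullFun f hdX hc a
  have hm := Cyc26.pullFun_mem_Zk f ha hβ
  exact (h a ha β hβ hm).trans (h' a ha β hβ hm).symm

/-! ### The three compatibilities -/

variable {δT : T → ℤ} {δT' : T' → ℤ} {δS : S → ℤ} {δS' : S' → ℤ} {δD : D → ℤ} {δE : E → ℤ}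

theorem eq_of_pushOK {h : T ⟶ S} [QuasiCompact h] {h' : T' ⟶ S'} [QuasiCompact h'] {k l : ℤ}
    {φ : ChowOps.CH T δT k →+ ChowOps.CH T' δT' l} {ψ : ChowOps.CH S δS k →+ ChowOps.CH S' δS' l}
    {P : ChowOps.CH T δT k →+ ChowOps.CH S δS k} {P' : ChowOps.CH T' δT' l →+ ChowOps.CH S' δS' l}
    (hP : IsPushMap h δT δS P) (hP' : IsPushMap h' δT' δS' P')
    (hok : Bivar.PushOK δT δT' δS δS' h h' φ ψ) (x : ChowOps.CH T δT k) : ψ (P x) = P' (φ x) := by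
  obtain ⟨α, hα, rfl⟩ := Bivar.exists_rep x
  obtain ⟨β, hβ, e, e'⟩ := hok α hα
  rw [hP, e', e, hP']

theorem pushOK_of_eq {h : T ⟶ S} [QuasiCompact h] {h' : T' ⟶ S'} [QuasiCompact h'] {k l : ℤ}
    {φ : ChowOps.CH T δT k →+ ChowOps.CH T' δT' l} {ψ : ChowOps.CH S δS k →+ ChowOps.CH S' δS' l}
    {P : ChowOps.CH T δT k →+ ChowOps.CH S δS k} {P' : ChowOps.CH T' δT' l →+ ChowOps.CH S' δS' l}
    (hP : IsPushMap h δT δS P) (hP' : IsPushMap h' δT' δS' P') (heq : ∀ x, ψ (P x) = P' (φ x)) :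
    Bivar.PushOK δT δT' δS δS' h h' φ ψ := by
  intro α hα
  obtain ⟨β, hβ, e⟩ := Bivar.exists_rep (φ (ChowOps.cl α hα))
  refine ⟨β, hβ, e.symm, ?_⟩
  rw [← hP α hα, heq, ← e, hP']

theorem eq_of_pullOK [IsLocallyNoetherian T] {h : T ⟶ S} [Flat h] {h' : T' ⟶ S'} (hdT : Cyc.IsDimFun T δT) {r : ℤ}
    (hc : ∀ z, (∀ w, h w = h z → w ⤳ z → w = z) → δT z = δS (h z) + r) {k l k₁ l₁ : ℤ} (hk : k₁ = k + r)
    {φ : ChowOps.CH S δS k →+ ChowOps.CH S' δS' l} {ψ : ChowOps.CH T δT k₁ →+ ChowOps.CH T' δT' l₁}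
    {P : ChowOps.CH S δS k →+ ChowOps.CH T δT k₁} {P' : ChowOps.CH S' δS' l →+ ChowOps.CH T' δT' l₁}
    (hP : IsPullMap h δT δS r P) (hP' : IsPullMap h' δT' δS' r P')
    (hok : Bivar.PullOK δS δS' δT δT' h h' r φ ψ) (x : ChowOps.CH S δS k) : ψ (P x) = P' (φ x) := by
  subst hk
  obtain ⟨α, hα, rfl⟩ := Bivar.exists_rep x
  obtain ⟨β, hβ, e, H⟩ := hok α hα
  obtain ⟨α₁, hα₁⟩ := Cyc26.exists_cycle_pullFun h hdT hc α
  have hm := Cyc26.pullFun_mem_Zk h hα hα₁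
  obtain ⟨β₁, hβ₁, e₁, e₂⟩ := H α₁ hα₁ hm
  rw [hP α hα α₁ hα₁ hm, e₂, e, hP' β hβ β₁ e₁ hβ₁]

theorem pullOK_of_eq [IsLocallyNoetherian T'] {h : T ⟶ S} {h' : T' ⟶ S'} [Flat h'] (hdT' : Cyc.IsDimFun T' δT') {r : ℤ}
    (hc : ∀ z, (∀ w, h' w = h' z → w ⤳ z → w = z) → δT' z = δS' (h' z) + r) {k l k₁ l₁ : ℤ} (hl : l₁ = l + r)
    {φ : ChowOps.CH S δS k →+ ChowOps.CH S' δS' l} {ψ : ChowOps.CH T δT k₁ →+ ChowOps.CH T' δT' l₁}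
    {P : ChowOps.CH S δS k →+ ChowOps.CH T δT k₁} {P' : ChowOps.CH S' δS' l →+ ChowOps.CH T' δT' l₁}
    (hP : IsPullMap h δT δS r P) (hP' : IsPullMap h' δT' δS' r P') (heq : ∀ x, ψ (P x) = P' (φ x)) :
    Bivar.PullOK δS δS' δT δT' h h' r φ ψ := by
  subst hl
  intro α hα
  obtain ⟨β, hβ, e⟩ := Bivar.exists_rep (φ (ChowOps.cl α hα))
  refine ⟨β, hβ, e.symm, fun α₁ hα₁ hm => ?_⟩
  obtain ⟨β₁, hβ₁⟩ := Cyc26.exists_cycle_pullFun h' hdT' hc β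
  have hm' := Cyc26.pullFun_mem_Zk h' hβ hβ₁
  exact ⟨β₁, hm', hβ₁, by rw [← hP α hα α₁ hα₁ hm, heq, ← e, hP' β hβ β₁ hβ₁ hm']⟩

theorem exists_gysinCycle [IsLocallyNoetherian S] (i : D ⟶ S) [IsClosedImmersion i] (hd : Cyc.IsDimFun S δS)
    (hδD : δD = fun e => δS (i e)) {L : S.Modules} (hL : PicF.IsInvertible L) (σ : L.presheaf.obj (Opposite.op ⊤))
    {w : (ξ : S) → Cyc.secFibre L ξ} (hw : ∀ ξ, w ξ ≠ 0) {k l : ℤ} (hl : l = k - 1) {α : AlgebraicCycle S ℤ}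
    (hα : α ∈ Cyc.Zk S δS k) :
    ∃ γ : AlgebraicCycle D ℤ, γ ∈ Cyc.Zk D δD l ∧
      ∀ d, γ d = Cyc.c1CapFun δS L ⇑α (Cyc.gysinChoice L σ w) (i d) := by
  subst hl hδD
  obtain ⟨C, hC⟩ := Cyc26.exists_cycle_c1Cap hL hd α (Cyc26.gysinChoice_ne_zero σ hw)
  obtain ⟨G, hG⟩ := Cyc26.exists_cycle_restrict i C
  refine ⟨G, fun x hx => ?_, fun d => by rw [hG, hC]⟩
  rw [hG]
  refine Cyc26.c1Cap_mem_Zk (k := k - 1) (α := α) ?_ hC (i x) hx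
  rwa [sub_add_cancel]

theorem eq_of_gysinOK [IsLocallyNoetherian S] {i : D ⟶ S} [IsClosedImmersion i] (hd : Cyc.IsDimFun S δS)
    (hδD : δD = fun e => δS (i e)) {L L₀ : S.Modules} (hL : PicF.IsInvertible L) (eL : L ≅ L₀)
    {σ : L.presheaf.obj (Opposite.op ⊤)} (hσ : Cyc.IsZeroSchemeOf i L σ) {j : E ⟶ S'} {N N₀ : S'.Modules}
    (hN : PicF.IsInvertible N) (eN : N ≅ N₀)
    {τ : N.presheaf.obj (Opposite.op ⊤)} (hτ : Cyc.IsZeroSchemeOf j N τ) {k l k₁ l₁ : ℤ} (hk : k₁ = k - 1)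
    {φ : ChowOps.CH S δS k →+ ChowOps.CH S' δS' l} {ψ : ChowOps.CH D δD k₁ →+ ChowOps.CH E δE l₁}
    {G : ChowOps.CH S δS k →+ ChowOps.CH D δD k₁} {G' : ChowOps.CH S' δS' l →+ ChowOps.CH E δE l₁}
    (hG : IsGysinMap i δS δD L₀ G) (hG' : IsGysinMap j δS' δE N₀ G')
    (hok : Bivar.GysinOK δS δD δS' δE i L σ j N τ φ ψ) (x : ChowOps.CH S δS k) : ψ (G x) = G' (φ x) := by
  obtain ⟨α, hα, rfl⟩ := Bivar.exists_rep x
  obtain ⟨β, hβ, e, H⟩ := hok α hα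
  obtain ⟨w, hw⟩ := Cyc26.exists_sections hL
  obtain ⟨w', hw'⟩ := Cyc26.exists_sections hN
  obtain ⟨γ, hγm, hγ⟩ := exists_gysinCycle i hd hδD hL σ hw hk hα
  obtain ⟨ζ, hζm, hζ, e'⟩ := H w hw γ hγ hγm w' hw'
  rw [hG L ⟨eL⟩ σ hσ α hα w hw γ hγ hγm, e', e, hG' N ⟨eN⟩ τ hτ β hβ w' hw' ζ hζ hζm]

theorem gysinOK_of_eq [IsLocallyNoetherian S'] {i : D ⟶ S} {L : S.Modules}
    {σ : L.presheaf.obj (Opposite.op ⊤)} (hσ : Cyc.IsZeroSchemeOf i L σ) {j : E ⟶ S'} [IsClosedImmersion j]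
    (hd : Cyc.IsDimFun S' δS') (hδE : δE = fun e => δS' (j e)) {N : S'.Modules}
    (hN : PicF.IsInvertible N) {τ : N.presheaf.obj (Opposite.op ⊤)} (hτ : Cyc.IsZeroSchemeOf j N τ)
    {k l k₁ l₁ : ℤ} (hl : l₁ = l - 1)
    {φ : ChowOps.CH S δS k →+ ChowOps.CH S' δS' l} {ψ : ChowOps.CH D δD k₁ →+ ChowOps.CH E δE l₁}
    {G : ChowOps.CH S δS k →+ ChowOps.CH D δD k₁} {G' : ChowOps.CH S' δS' l →+ ChowOps.CH E δE l₁}
    (hG : IsGysinMap i δS δD L G) (hG' : IsGysinMap j δS' δE N G') (heq : ∀ x, ψ (G x) = G' (φ x)) :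
    Bivar.GysinOK δS δD δS' δE i L σ j N τ φ ψ := by
  intro α hα
  obtain ⟨β, hβ, e⟩ := Bivar.exists_rep (φ (ChowOps.cl α hα))
  refine ⟨β, hβ, e.symm, fun w hw γ hγ hγm w' hw' => ?_⟩
  obtain ⟨ζ, hζm, hζ⟩ := exists_gysinCycle j hd hδE hN τ hw' hl hβ
  exact ⟨ζ, hζm, hζ, by
    rw [← hG L ⟨Iso.refl L⟩ σ hσ α hα w hw γ hγ hγm, heq, ← e, hG' N ⟨Iso.refl N⟩ τ hτ β hβ w' hw' ζ hζ hζm]⟩

/-! ### Flat pullback commutes with the three operations -/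

variable {δX : X → ℤ} {δY : Y → ℤ} {f : X ⟶ Y}

/-- The operation of a flat pullback class is flat pullback. -/
theorem isPullMap_op {r : ℕ} {c : Bivar.Cl (-(r : ℤ)) f δX δY} (hc : Bivar.IsFlatPullClass f r c)
    (s : Bivar.Sq f δX δY) (k : ℤ) : IsPullMap s.f' s.δX' s.δY' r (c.op s k) :=
  fun α hα β hβ hβm => hc.2.2.2.2 s k α hα β hβ hβm

theorem op_eq_of_isPullMap (hX : Cyc.IsSetup X δX) (hY : Cyc.IsSetup Y δY) [Flat f] [LocallyOfFiniteType f] {r : ℕ}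
    (hr : Cyc.HasRelDim f r) (hδ : Cyc.DeltaCompat f δX δY) {c : Bivar.Cl (-(r : ℤ)) f δX δY}
    (hc : Bivar.IsFlatPullClass f r c) (s : Bivar.Sq f δX δY) (k : ℤ)
    {φ : ChowOps.CH s.Y' s.δY' k →+ ChowOps.CH s.X' s.δX' (k - -(r : ℤ))} (hφ : IsPullMap s.f' s.δX' s.δY' r φ) :
    φ = c.op s k := by
  have F := flatFacts hX hY hr hδ s
  haveI := F.flat
  haveI := F.lftf
  haveI := F.noethX
  exact IsPullMap.eq F.dimX (Cyc26.shift_of_hasRelDim s.f' F.rel F.comp) (sub_neg_eq_add _ _) hφ (isPullMap_op hc s k)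

theorem pull_push_comm (hX : Cyc.IsSetup X δX) (hY : Cyc.IsSetup Y δY) [Flat f] [LocallyOfFiniteType f] {r : ℕ}
    (hr : Cyc.HasRelDim f r) (hδ : Cyc.DeltaCompat f δX δY) (s t : Bivar.Sq f δX δY) (h : t.Y' ⟶ s.Y') [IsProper h]
    (h' : t.X' ⟶ s.X') [IsProper h'] (w₁ : h ≫ s.g = t.g) (w₂ : h' ≫ s.f' = t.f' ≫ h) (w₃ : h' ≫ s.g' = t.g')
    {k l : ℤ} (e : l = k + r)
    {A : ChowOps.CH t.Y' t.δY' k →+ ChowOps.CH s.Y' s.δY' k} {B : ChowOps.CH t.X' t.δX' l →+ ChowOps.CH s.X' s.δX' l}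
    (hA : IsPushMap h t.δY' s.δY' A) (hB : IsPushMap h' t.δX' s.δX' B)
    {P : ChowOps.CH t.Y' t.δY' k →+ ChowOps.CH t.X' t.δX' l} (hP : IsPullMap t.f' t.δX' t.δY' r P)
    {Q : ChowOps.CH s.Y' s.δY' k →+ ChowOps.CH s.X' s.δX' l} (hQ : IsPullMap s.f' s.δX' s.δY' r Q)
    (x : ChowOps.CH t.Y' t.δY' k) : Q (A x) = B (P x) := by
  obtain ⟨c, hc⟩ := exists_isFlatPullClass hX hY f r hr hδ
  obtain rfl : l = k - -(r : ℤ) := e.trans (sub_neg_eq_add _ _).symm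
  rw [op_eq_of_isPullMap hX hY hr hδ hc t k hP, op_eq_of_isPullMap hX hY hr hδ hc s k hQ]
  exact eq_of_pushOK hA hB (c.push s t h h' w₁ w₂ w₃ k) x

theorem pull_pull_comm (hX : Cyc.IsSetup X δX) (hY : Cyc.IsSetup Y δY) [Flat f] [LocallyOfFiniteType f] {r : ℕ}
    (hr : Cyc.HasRelDim f r) (hδ : Cyc.DeltaCompat f δX δY) (s t : Bivar.Sq f δX δY) (h : t.Y' ⟶ s.Y') [Flat h]
    (h' : t.X' ⟶ s.X') [Flat h'] {m : ℕ} (hm : Cyc.HasRelDim h m) (hm' : Cyc.HasRelDim h' m) (w₁ : h ≫ s.g = t.g)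
    (w₂ : h' ≫ s.f' = t.f' ≫ h) (w₃ : h' ≫ s.g' = t.g') {k l k₁ l₁ : ℤ} (e : l = k + r) (ek : k₁ = k + m)
    (e₁ : l₁ = k₁ + r)
    {A : ChowOps.CH s.Y' s.δY' k →+ ChowOps.CH t.Y' t.δY' k₁} {B : ChowOps.CH s.X' s.δX' l →+ ChowOps.CH t.X' t.δX' l₁}
    (hA : IsPullMap h t.δY' s.δY' m A) (hB : IsPullMap h' t.δX' s.δX' m B)
    {P : ChowOps.CH t.Y' t.δY' k₁ →+ ChowOps.CH t.X' t.δX' l₁} (hP : IsPullMap t.f' t.δX' t.δY' r P)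
    {Q : ChowOps.CH s.Y' s.δY' k →+ ChowOps.CH s.X' s.δX' l} (hQ : IsPullMap s.f' s.δX' s.δY' r Q)
    (x : ChowOps.CH s.Y' s.δY' k) : P (A x) = B (Q x) := by
  subst ek
  obtain ⟨c, hc⟩ := exists_isFlatPullClass hX hY f r hr hδ
  obtain rfl : l = k - -(r : ℤ) := e.trans (sub_neg_eq_add _ _).symm
  obtain rfl : l₁ = k + m - -(r : ℤ) := e₁.trans (sub_neg_eq_add _ _).symm
  have F := flatFacts hX hY hr hδ t
  haveI := F.noethY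
  obtain ⟨hl, hhc⟩ := deltaCompat_of_over h w₁
  haveI := hl
  rw [op_eq_of_isPullMap hX hY hr hδ hc t _ hP, op_eq_of_isPullMap hX hY hr hδ hc s k hQ]
  exact eq_of_pullOK F.dimY (Cyc26.shift_of_hasRelDim h hm hhc) rfl hA hB (c.pull s t h h' m hm hm' w₁ w₂ w₃ k) x

theorem pull_gysin_comm (hX : Cyc.IsSetup X δX) (hY : Cyc.IsSetup Y δY) [Flat f] [LocallyOfFiniteType f] {r : ℕ}
    (hr : Cyc.HasRelDim f r) (hδ : Cyc.DeltaCompat f δX δY) (s t : Bivar.Sq f δX δY) (i : t.Y' ⟶ s.Y')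
    [IsClosedImmersion i] (j : t.X' ⟶ s.X') [IsClosedImmersion j] (w₁ : i ≫ s.g = t.g) (w₂ : j ≫ s.f' = t.f' ≫ i)
    (w₃ : j ≫ s.g' = t.g') {L : s.Y'.Modules} (hL : PicF.IsInvertible L) {σ : L.presheaf.obj (Opposite.op ⊤)}
    (hσ : Cyc.IsZeroSchemeOf i L σ) {N : s.X'.Modules} (eN : (Scheme.Modules.pullback s.f').obj L ≅ N)
    {k l k₁ l₁ : ℤ} (e : l = k + r) (ek : k₁ = k - 1) (e₁ : l₁ = k₁ + r)
    {A : ChowOps.CH s.Y' s.δY' k →+ ChowOps.CH t.Y' t.δY' k₁} {B : ChowOps.CH s.X' s.δX' l →+ ChowOps.CH t.X' t.δX' l₁}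
    (hA : IsGysinMap i s.δY' t.δY' L A) (hB : IsGysinMap j s.δX' t.δX' N B)
    {P : ChowOps.CH t.Y' t.δY' k₁ →+ ChowOps.CH t.X' t.δX' l₁} (hP : IsPullMap t.f' t.δX' t.δY' r P)
    {Q : ChowOps.CH s.Y' s.δY' k →+ ChowOps.CH s.X' s.δX' l} (hQ : IsPullMap s.f' s.δX' s.δY' r Q)
    (x : ChowOps.CH s.Y' s.δY' k) : P (A x) = B (Q x) := by
  subst ek
  obtain ⟨c, hc⟩ := exists_isFlatPullClass hX hY f r hr hδ
  obtain rfl : l = k - -(r : ℤ) := e.trans (sub_neg_eq_add _ _).symm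
  obtain rfl : l₁ = k - 1 - -(r : ℤ) := e₁.trans (sub_neg_eq_add _ _).symm
  have F := flatFacts hX hY hr hδ s
  haveI := F.noethY
  rw [op_eq_of_isPullMap hX hY hr hδ hc t _ hP, op_eq_of_isPullMap hX hY hr hδ hc s k hQ]
  have hτ := isZeroSchemeOf_pullback s.f' (isPullback_of_over i j w₁ w₂ w₃).flip hL hσ
  exact eq_of_gysinOK F.dimY (delta_eq_comp (deltaCompat_of_over i w₁).2) hL (Iso.refl L) hσ
    (Groth.Agent.Twist.isInvertible_pullback s.f' hL) eN hτ rfl hA hB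
    (c.gysin s t i j w₁ w₂ w₃ L hL σ hσ _ hτ k) x

end Groth.Agent.Bivar12
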