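import Groth.Agent.Lib.Bivar12.AmpleSec
import Groth.Agent.Lib.Bivar12.Maps
import Groth.Agent.Lib.Cyc26.C1Tensor
import Groth.Agent.Lib.Cyc26.ClosedSetup
import Groth.Agent.Lib.TensorMod.PullTensor

/-!
# Products of more first Chern classes than the dimension vanish
-/

set_option autoImplicit false
universe u
set_option linter.style.haveILetI false
set_option backward.isDefEq.respectTransparency false
set_option backward.isDefEq.respectTransparency.types false

open CategoryTheory CategoryTheory.Limits AlgebraicGeometry TopologicalSpace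

noncomputable section

namespace Groth.Agent.Bivar12

variable {X : Scheme.{u}}

/-- `φ` is capping with the first Chern class of `L`. -/
def IsC1Map (δ : X → ℤ) (L : X.Modules) {k l : ℤ} (φ : ChowOps.CH X δ k →+ ChowOps.CH X δ l) : Prop :=
  ∀ (α : AlgebraicCycle X ℤ) (hα : α ∈ Cyc.Zk X δ k) (v : (ξ : X) → Cyc.secFibre L ξ), (∀ ξ, v ξ ≠ 0) →
    ∀ (γ : AlgebraicCycle X ℤ), ⇑γ = Cyc.c1CapFun δ L ⇑α v → ∀ (hγ : γ ∈ Cyc.Zk X δ l),
      φ (ChowOps.cl α hα) = ChowOps.cl γ hγ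

variable [IsLocallyNoetherian X] {δ : X → ℤ}

theorem exists_isC1Map (hd : Cyc.IsDimFun X δ) {L : X.Modules} (hL : PicF.IsInvertible L) {k l : ℤ} (e : l = k - 1) :
    ∃ φ : ChowOps.CH X δ k →+ ChowOps.CH X δ l, IsC1Map δ L φ := by
  subst e
  exact exists_c1Hom hd hL k

theorem exists_c1Cycle (hd : Cyc.IsDimFun X δ) {L : X.Modules} (hL : PicF.IsInvertible L)
    {v : (ξ : X) → Cyc.secFibre L ξ} (hv : ∀ ξ, v ξ ≠ 0) {k l : ℤ} (e : l = k - 1) {α : AlgebraicCycle X ℤ}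
    (hα : α ∈ Cyc.Zk X δ k) : ∃ γ : AlgebraicCycle X ℤ, γ ∈ Cyc.Zk X δ l ∧ ⇑γ = Cyc.c1CapFun δ L ⇑α v := by
  subst e
  obtain ⟨C, hC⟩ := Cyc26.exists_cycle_c1Cap hL hd α hv
  refine ⟨C, Cyc26.c1Cap_mem_Zk ?_ hC, hC⟩
  rwa [sub_add_cancel]

theorem IsC1Map.eq (hd : Cyc.IsDimFun X δ) {L : X.Modules} (hL : PicF.IsInvertible L) {k l : ℤ} (e : l = k - 1)
    {φ φ' : ChowOps.CH X δ k →+ ChowOps.CH X δ l} (h : IsC1Map δ L φ) (h' : IsC1Map δ L φ') : φ = φ' := by
  refine AddMonoidHom.ext fun x => ?_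
  obtain ⟨a, ha, rfl⟩ := Bivar.exists_rep x
  obtain ⟨v, hv⟩ := Cyc26.exists_sections hL
  obtain ⟨γ, hγm, hγ⟩ := exists_c1Cycle hd hL hv e ha
  rw [h a ha v hv γ hγ hγm, h' a ha v hv γ hγ hγm]

omit [IsLocallyNoetherian X] in
theorem IsC1Map.iso {L M : X.Modules} (ε : L ≅ M) (hL : PicF.IsInvertible L) {k l : ℤ}
    {φ : ChowOps.CH X δ k →+ ChowOps.CH X δ l} (h : IsC1Map δ L φ) : IsC1Map δ M φ := by
  intro α hα v hv γ hγ hγm
  have hu : ∀ ξ, fibLin ε.inv ξ (v ξ) ≠ 0 := fun ξ => fibLin_ne_zero ε.symm ξ (hv ξ)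
  refine h α hα _ hu γ ?_ hγm
  rw [hγ, ← c1CapFun_moduleIso ε hL δ ⇑α hu]
  exact congrArg _ (funext fun ξ => (fibLin_hom_inv ε.symm ξ (v ξ)).symm)

/-- The first Chern class of a tensor product. -/
theorem IsC1Map.tensor (hd : Cyc.IsDimFun X δ) {L B : X.Modules} (hL : PicF.IsInvertible L) (hB : PicF.IsInvertible B)
    {k l : ℤ} (e : l = k - 1) {φ₁ φ₂ φ : ChowOps.CH X δ k →+ ChowOps.CH X δ l} (h₁ : IsC1Map δ L φ₁)
    (h₂ : IsC1Map δ B φ₂) (h : IsC1Map δ (CohB1.tensorMod L B) φ) : φ = φ₁ + φ₂ := by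
  refine AddMonoidHom.ext fun x => ?_
  obtain ⟨a, ha, rfl⟩ := Bivar.exists_rep x
  obtain ⟨v, hv⟩ := Cyc26.exists_sections hL
  obtain ⟨w, hw⟩ := Cyc26.exists_sections hB
  obtain ⟨γ₁, hγ₁m, hγ₁⟩ := exists_c1Cycle hd hL hv e ha
  obtain ⟨γ₂, hγ₂m, hγ₂⟩ := exists_c1Cycle hd hB hw e ha
  have hsum : ⇑(γ₁ + γ₂) =
      Cyc.c1CapFun δ (CohB1.tensorMod L B) ⇑a fun ξ => Cyc26.secTensor L B ξ (v ξ) (w ξ) := by
    funext y
    rw [Function.locallyFinsuppWithin.coe_add, Pi.add_apply, hγ₁, hγ₂]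
    simp only [Cyc.c1CapFun]
    rw [← finsum_add_distrib]
    · exact finsum_congr fun ξ => by rw [← mul_add, ← Cyc26.secDivFun_secTensor hL hB δ (hv ξ) (hw ξ) y]
    · exact (Bivar.finite_support_specializes a y).subset fun ξ hξ =>
        ⟨(Cyc26.specializes_of_secDivFun_ne_zero (right_ne_zero_of_mul hξ)).1, left_ne_zero_of_mul hξ⟩
    · exact (Bivar.finite_support_specializes a y).subset fun ξ hξ =>
        ⟨(Cyc26.specializes_of_secDivFun_ne_zero (right_ne_zero_of_mul hξ)).1, left_ne_zero_of_mul hξ⟩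
  rw [AddMonoidHom.add_apply, h₁ a ha v hv γ₁ hγ₁ hγ₁m, h₂ a ha w hw γ₂ hγ₂ hγ₂m, ← Bivar.cl_add,
    h a ha _ (fun ξ => Cyc26.secTensor_ne_zero hL hB (hv ξ) (hw ξ)) (γ₁ + γ₂) hsum
      ((ChowOps.zk X δ l).add_mem hγ₁m hγ₂m)]

/-- The first Chern class commutes with pushforward along a closed immersion. -/
theorem IsC1Map.push (hd : Cyc.IsDimFun X δ) {Y : Scheme.{u}} [IsLocallyNoetherian Y] (z : Y ⟶ X)
    [IsClosedImmersion z] {δY : Y → ℤ} (hδ : δY = fun y => δ (z y)) {L : X.Modules} (hL : PicF.IsInvertible L)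
    {k l : ℤ} (e : l = k - 1) {φ : ChowOps.CH X δ k →+ ChowOps.CH X δ l}
    {ψ : ChowOps.CH Y δY k →+ ChowOps.CH Y δY l} (hφ : IsC1Map δ L φ)
    (hψ : IsC1Map δY ((Scheme.Modules.pullback z).obj L) ψ)
    {P : ChowOps.CH Y δY k →+ ChowOps.CH X δ k} {Q : ChowOps.CH Y δY l →+ ChowOps.CH X δ l}
    (hP : IsPushMap z δY δ P) (hQ : IsPushMap z δY δ Q) (y : ChowOps.CH Y δY k) : φ (P y) = Q (ψ y) := by
  subst hδ
  have hdY := Cyc26.isDimFun_closed z hd
  obtain ⟨a, ha, rfl⟩ := Bivar.exists_rep y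
  obtain ⟨v, hv⟩ := Cyc26.exists_sections hL
  have hu : ∀ ξ, Cyc26.secPull z L ξ (v (z ξ)) ≠ 0 := fun ξ => Cyc26.secPull_ne_zero z hL ξ (hv _)
  obtain ⟨γ, hγm, hγ⟩ := exists_c1Cycle hdY (Groth.Agent.Twist.isInvertible_pullback z hL) hu e ha
  rw [hP a ha, hψ a ha _ hu γ hγ hγm, hQ γ hγm,
    hφ _ (Bivar.cycMap_mem_Zk z _ δ k ha) v hv (AlgebraicCycle.map z _ δ γ)
      (Cyc26.map_c1Cap_secPull z hdY hd (Cyc26.deltaCompat_closed z δ) hL a v hv γ hγ)
      (Bivar.cycMap_mem_Zk z _ δ l hγm)]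

/-- The first Chern class of a module with a section is supported on the zero scheme. -/
theorem IsC1Map.mem_range (hd : Cyc.IsDimFun X δ) {Y : Scheme.{u}} [IsLocallyNoetherian Y] (z : Y ⟶ X)
    [IsClosedImmersion z] {δY : Y → ℤ} (hδ : δY = fun y => δ (z y)) {L : X.Modules} (hL : PicF.IsInvertible L)
    {σ : L.presheaf.obj (Opposite.op ⊤)} (hσ : Cyc.IsZeroSchemeOf z L σ)
    {k l : ℤ} (e : l = k - 1) {φ : ChowOps.CH X δ k →+ ChowOps.CH X δ l} (hφ : IsC1Map δ L φ)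
    {Q : ChowOps.CH Y δY l →+ ChowOps.CH X δ l} (hQ : IsPushMap z δY δ Q) (x : ChowOps.CH X δ k) :
    ∃ y, Q y = φ x := by
  subst hδ
  obtain ⟨a, ha, rfl⟩ := Bivar.exists_rep x
  obtain ⟨w, hw⟩ := Cyc26.exists_sections hL
  obtain ⟨C, hCm, hC⟩ := exists_c1Cycle hd hL (Cyc26.gysinChoice_ne_zero σ hw) e ha
  obtain ⟨G, hG⟩ := Cyc26.exists_cycle_restrict z C
  have hGm : G ∈ Cyc.Zk Y (fun y => δ (z y)) l := fun y hy => by rw [hG]; exact hCm _ hy
  refine ⟨ChowOps.cl G hGm, ?_⟩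
  rw [hQ G hGm, hφ a ha _ (Cyc26.gysinChoice_ne_zero σ hw) C hC hCm]
  refine Bivar.cl_congr (DFunLike.ext _ _ fun p => ?_) _ _
  by_cases hp : p ∈ Set.range z
  · obtain ⟨d, rfl⟩ := hp
    rw [Cyc26.map_apply_eq_sum z _ δ G _ {d} (fun x hx => by rw [Finset.mem_singleton.1 hx])
      (fun x hx _ _ => Finset.mem_singleton.2 (z.isClosedEmbedding.injective hx)), Finset.sum_singleton]
    unfold AlgebraicCycle.mapCoeff
    rw [if_pos rfl, residueDegree_eq_one_of_surjectiveOnStalks' z, Nat.cast_one, mul_one, hG]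
  · rw [Cyc26.map_apply_eq_sum z _ δ G p ∅ (fun x hx => absurd hx (Finset.notMem_empty x))
      (fun x hx _ _ => absurd ⟨x, hx⟩ hp), Finset.sum_empty]
    by_contra hne
    refine hp (Cyc26.c1Cap_gysin_support (δ := δ) hL hσ w ⇑a ?_)
    rw [← hC]
    exact fun h0 => hne h0.symm

omit [IsLocallyNoetherian X] in
/-- The composite of the first `n` maps of a sequence. -/
def chain {l : ℕ → ℤ} (φ : ∀ j, ChowOps.CH X δ (l j) →+ ChowOps.CH X δ (l (j + 1))) :
    ∀ n, ChowOps.CH X δ (l 0) →+ ChowOps.CH X δ (l n)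
  | 0 => AddMonoidHom.id _
  | n + 1 => (φ n).comp (chain φ n)

omit [IsLocallyNoetherian X] in
theorem chain_succ' {l : ℕ → ℤ} (φ : ∀ j, ChowOps.CH X δ (l j) →+ ChowOps.CH X δ (l (j + 1))) :
    ∀ n x, chain φ (n + 1) x = chain (l := fun j => l (j + 1)) (fun j => φ (j + 1)) n (φ 0 x)
  | 0, _ => rfl
  | n + 1, x => congrArg (φ (n + 1)) (chain_succ' φ n x)

omit [IsLocallyNoetherian X] in
theorem chain_push {Y : Scheme.{u}} {δY : Y → ℤ} {l : ℕ → ℤ}
    (φ : ∀ j, ChowOps.CH X δ (l j) →+ ChowOps.CH X δ (l (j + 1)))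
    (ψ : ∀ j, ChowOps.CH Y δY (l j) →+ ChowOps.CH Y δY (l (j + 1)))
    (P : ∀ j, ChowOps.CH Y δY (l j) →+ ChowOps.CH X δ (l j)) (h : ∀ j y, φ j (P j y) = P (j + 1) (ψ j y)) :
    ∀ n y, chain φ n (P 0 y) = P n (chain ψ n y)
  | 0, _ => rfl
  | n + 1, y => (congrArg (φ n) (chain_push φ ψ P h n y)).trans (h n _)

/-- A product of `n` first Chern classes vanishes on a scheme with an ample module and dimension less than `n`. -/
theorem chain_eq_zero : ∀ (n : ℕ) (X : Scheme.{u}) [IsLocallyNoetherian X] (A : X.Modules) (_ : CohB1.IsAmple A)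
    (_ : topologicalKrullDim X < (n : WithBot ℕ∞)) (L : ℕ → X.Modules) (_ : ∀ j, PicF.IsInvertible (L j))
    (Y : Scheme.{u}) (g : Y ⟶ X) [LocallyOfFiniteType g] (δ : Y → ℤ) (_ : Cyc.IsDimFun Y δ) (l : ℕ → ℤ)
    (_ : ∀ j, l (j + 1) = l j - 1) (φ : ∀ j, ChowOps.CH Y δ (l j) →+ ChowOps.CH Y δ (l (j + 1)))
    (_ : ∀ j, IsC1Map δ ((Scheme.Modules.pullback g).obj (L j)) (φ j)) (x : ChowOps.CH Y δ (l 0)),
    chain φ n x = 0 := by
  intro n
  induction n with
  | zero =>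
    intro X _ A hA hd L hL Y g _ δ hdY l hl φ hφ x
    haveI : IsEmpty ↥Y := ⟨fun y => not_le.2 hd (Nat.cast_zero.trans_le
      (haveI : Nonempty (IrreducibleCloseds X) :=
        ⟨⟨closure {g y}, isIrreducible_singleton.closure, isClosed_closure⟩⟩
       Order.krullDim_nonneg))⟩
    obtain ⟨a, ha, rfl⟩ := Bivar.exists_rep x
    show ChowOps.cl a ha = 0
    rw [← Bivar.cl_zero]
    exact Bivar.cl_congr (DFunLike.ext _ _ fun z => isEmptyElim z) _ _
  | succ n ih =>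
    intro X _ A hA hd L hL Y g _ δ hdY l hl φ hφ x
    haveI := hA.2.1
    haveI : IsNoetherian X := {}
    have hfin : (genericPoints X).Finite := by
      refine Set.Finite.of_finite_image (f := fun x => closure {x})
        ((NoetherianSpace.finite_irreducibleComponents (α := X)).subset ?_) fun a _ b _ h =>
          (inseparable_iff_closure_eq.2 h).eq
      rintro _ ⟨a, ha, rfl⟩
      exact ha
    obtain ⟨B, hB, t, b, htb⟩ := exists_gen_sections hA (hL 0) hfin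
    haveI : IsLocallyNoetherian Y := LocallyOfFiniteType.isLocallyNoetherian g
    have step : ∀ (M : X.Modules) (hM : PicF.IsInvertible M) (σ : M.presheaf.obj (Opposite.op ⊤)),
        (∀ z ∈ genericPoints X, Amp.Gen (Amp.gm M z (U := ⊤) trivial σ)) →
        ∀ (ψ₀ : ChowOps.CH Y δ (l 0) →+ ChowOps.CH Y δ (l 1)), IsC1Map δ ((Scheme.Modules.pullback g).obj M) ψ₀ →
          chain (l := fun j => l (j + 1)) (fun j => φ (j + 1)) n (ψ₀ x) = 0 := by
      intro M hM σ hσg ψ₀ hψ₀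
      obtain ⟨D, i, hi, hzero, hrange⟩ := exists_zeroScheme hM σ
      haveI := hi
      haveI : IsLocallyNoetherian D := LocallyOfFiniteType.isLocallyNoetherian i
      have hdD : topologicalKrullDim D < (n : WithBot ℕ∞) := by
        refine krullDim_closed_lt i i.isClosedEmbedding (fun z hz hzr => ?_) hd
        rw [hrange] at hzr
        exact hzr (hσg z hz)
      let z := pullback.fst g i
      let q := pullback.snd g i
      have hσ' := isZeroSchemeOf_pullback g (IsPullback.of_hasPullback g i) hM hzero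
      haveI : IsLocallyNoetherian (pullback g i : Scheme.{u}) := LocallyOfFiniteType.isLocallyNoetherian z
      have hdP := Cyc26.isDimFun_closed z hdY
      choose P hP using fun j => exists_isPushMap z hdP hdY (Cyc26.deltaCompat_closed z δ) (l (j + 1))
      obtain ⟨y, hy⟩ := hψ₀.mem_range hdY z rfl (Groth.Agent.Twist.isInvertible_pullback g hM) hσ' (hl 0) (hP 0) x
      let L' : ℕ → D.Modules := fun j => (Scheme.Modules.pullback i).obj (L (j + 1))
      have hL' : ∀ j, PicF.IsInvertible (L' j) := fun j => Groth.Agent.Twist.isInvertible_pullback i (hL (j + 1))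
      choose ψ hψ using fun j => exists_isC1Map (δ := fun p => δ (z p)) hdP
        (Groth.Agent.Twist.isInvertible_pullback q (hL' j)) (k := l (j + 1)) (l := l (j + 1 + 1)) (hl (j + 1))
      have hcomm : ∀ j (w : ChowOps.CH (pullback g i : Scheme.{u}) (fun p => δ (z p)) (l (j + 1))),
          φ (j + 1) (P j w) = P (j + 1) (ψ j w) := fun j w => by
        refine (hφ (j + 1)).push hdY z rfl (Groth.Agent.Twist.isInvertible_pullback g (hL (j + 1))) (hl (j + 1))
          ((hψ j).iso ?_ (Groth.Agent.Twist.isInvertible_pullback q (hL' j))) (hP j) (hP (j + 1)) w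
        exact (Scheme.Modules.pullbackComp q i).app (L (j + 1)) ≪≫
          (Scheme.Modules.pullbackCongr pullback.condition.symm).app (L (j + 1)) ≪≫
          ((Scheme.Modules.pullbackComp z g).app (L (j + 1))).symm
      rw [← hy, chain_push (l := fun j => l (j + 1)) (fun j => φ (j + 1)) ψ P hcomm n y,
        ih D ((Scheme.Modules.pullback i).obj A) (Amp.isAmple_pullback_of_isAffineHom i hA) hdD L' hL'
          (pullback g i) q (fun p => δ (z p)) hdP (fun j => l (j + 1)) (fun j => hl (j + 1)) ψ hψ y,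
        map_zero]
    have hLg := Groth.Agent.Twist.isInvertible_pullback g (hL 0)
    have hBg := Groth.Agent.Twist.isInvertible_pullback g hB
    have hLB := Groth.Agent.M2.isInvertible_tensor (hL 0) hB
    obtain ⟨φB, hφB⟩ := exists_isC1Map hdY hBg (hl 0)
    obtain ⟨φT, hφT⟩ := exists_isC1Map hdY (Groth.Agent.Twist.isInvertible_pullback g hLB) (hl 0)
    have hsum : φT = φ 0 + φB := IsC1Map.tensor hdY hLg hBg (hl 0) (hφ 0) hφB
      (hφT.iso (Groth.Agent.M2.pullTensorIso g (L 0) B) (Groth.Agent.Twist.isInvertible_pullback g hLB))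
    have h1 := step (CohB1.tensorMod (L 0) B) hLB t (fun z hz => (htb z hz).1) φT hφT
    have h2 := step B hB b (fun z hz => (htb z hz).2) φB hφB
    rw [hsum, AddMonoidHom.add_apply, map_add, h2, add_zero] at h1
    rw [chain_succ']
    exact h1

omit [IsLocallyNoetherian X] in
theorem isC1Map_chCast {L : X.Modules} {k l m : ℤ} (e : l = m) {φ : ChowOps.CH X δ k →+ ChowOps.CH X δ l}
    (h : IsC1Map δ L φ) : IsC1Map δ L ((Bivar.chCast X δ e).toAddMonoidHom.comp φ) := by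
  subst e
  exact h

end Groth.Agent.Bivar12
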