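import Groth.Agent.Lib.Bivar12.FlatClass
import Groth.Agent.Lib.Bivar12.PushMap
import Groth.Agent.Lib.Bivar12.ZeroScheme

/-!
# Proper pushforward of bivariant classes
-/

set_option autoImplicit false
universe u
set_option linter.style.haveILetI false
set_option backward.isDefEq.respectTransparency false
set_option backward.isDefEq.respectTransparency.types false

open CategoryTheory CategoryTheory.Limits AlgebraicGeometry TopologicalSpace

noncomputable section

namespace Groth.Agent.Bivar12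

variable {X Y Z : Scheme.{u}} {δX : X → ℤ} {δY : Y → ℤ} {δZ : Z → ℤ}

/-- What a square provides. -/
structure SqFacts {f : X ⟶ Y} (s : Bivar.Sq f δX δY) : Prop where
  lftg : LocallyOfFiniteType s.g'
  noethY : IsLocallyNoetherian s.Y'
  noethX : IsLocallyNoetherian s.X'
  dimY : Cyc.IsDimFun s.Y' s.δY'
  dimX : Cyc.IsDimFun s.X' s.δX'

theorem sqFacts {f : X ⟶ Y} (hX : Cyc.IsSetup X δX) (hY : Cyc.IsSetup Y δY) (s : Bivar.Sq f δX δY) : SqFacts s := by
  haveI := hX.1
  haveI := hY.1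
  haveI := s.lft
  haveI h1 : LocallyOfFiniteType s.g' := MorphismProperty.of_isPullback (P := @LocallyOfFiniteType) s.isPullback s.lft
  exact ⟨h1, LocallyOfFiniteType.isLocallyNoetherian s.g, LocallyOfFiniteType.isLocallyNoetherian s.g',
    UCat26.isDimFun_of_deltaCompat s.g hY.2.1 hY.2.2 s.compatY,
    UCat26.isDimFun_of_deltaCompat s.g' hX.2.1 hX.2.2 s.compatX⟩

variable {f : X ⟶ Y} {g : Y ⟶ Z}

theorem exists_ext_delta (s : Bivar.Sq g δY δZ) :
    ∃ δ : ↥(pullback s.g' f) → ℤ, Cyc.DeltaCompat (pullback.snd s.g' f) δ δX := by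
  haveI : LocallyOfFiniteType s.g' := MorphismProperty.of_isPullback (P := @LocallyOfFiniteType) s.isPullback s.lft
  exact exists_deltaCompat _ _

variable (f) (δX) in
/-- The dimension function of the chosen extended square. -/
def extδ (s : Bivar.Sq g δY δZ) : ↥(pullback s.g' f) → ℤ := (exists_ext_delta (δX := δX) (f := f) s).choose

variable (f) (δX) in
/-- A square over `g` and the chosen fibre product with `f` give a square over `f ≫ g`. -/
abbrev ext (s : Bivar.Sq g δY δZ) : Bivar.Sq (f ≫ g) δX δZ :=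
  ⟨s.Y', pullback s.g' f, s.g, pullback.fst s.g' f ≫ s.f', pullback.snd s.g' f,
    (IsPullback.of_hasPullback s.g' f).paste_horiz s.isPullback, s.lft, s.δY', extδ δX f s, s.compatY,
    (exists_ext_delta (δX := δX) (f := f) s).choose_spec⟩

theorem ext_fst_compat (hδf : Cyc.DeltaCompat f δX δY) [IsProper f] (s : Bivar.Sq g δY δZ) :
    Cyc.DeltaCompat (pullback.fst s.g' f) (extδ δX f s) s.δX' := by
  refine deltaCompat_cancel _ s.g' s.compatX ?_
  rw [pullback.condition]
  exact Bivar.deltaCompat_comp _ f _ _ _ (exists_ext_delta (δX := δX) (f := f) s).choose_spec hδf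

theorem exists_isProperPushClass (hX : Cyc.IsSetup X δX) (hY : Cyc.IsSetup Y δY) (hZ : Cyc.IsSetup Z δZ) (f : X ⟶ Y)
    [IsProper f] (g : Y ⟶ Z) (hδf : Cyc.DeltaCompat f δX δY) (p : ℤ) (c : Bivar.Cl p (f ≫ g) δX δZ) :
    ∃ c' : Bivar.Cl p g δY δZ, Bivar.IsProperPushClass f g c c' := by
  have F := sqFacts (f := g) hY hZ
  have G := fun s : Bivar.Sq g δY δZ => sqFacts (f := f ≫ g) hX hZ (ext δX f s)
  have hex : ∀ (s : Bivar.Sq g δY δZ) (k : ℤ),
      ∃ φ : ChowOps.CH s.Y' s.δY' k →+ ChowOps.CH s.X' s.δX' (k - p),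
      ∀ (α : AlgebraicCycle s.Y' ℤ) (hα : α ∈ Cyc.Zk s.Y' s.δY' k)
        (β : AlgebraicCycle (pullback s.g' f : Scheme.{u}) ℤ) (hβ : β ∈ Cyc.Zk _ (extδ δX f s) (k - p)),
        c.op (ext δX f s) k (ChowOps.cl α hα) = ChowOps.cl β hβ →
          φ (ChowOps.cl α hα) = ChowOps.cl (AlgebraicCycle.map (pullback.fst s.g' f) (extδ δX f s) s.δX' β)
            (Bivar.cycMap_mem_Zk _ _ _ _ hβ) := fun s k => by
    haveI := (F s).noethX
    haveI : IsLocallyNoetherian (pullback s.g' f : Scheme.{u}) := (G s).noethX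
    obtain ⟨ψ, hψ⟩ := exists_pushHom (pullback.fst s.g' f) (G s).dimX (F s).dimX (ext_fst_compat hδf s) (k - p)
    refine ⟨ψ.comp (c.op (ext δX f s) k), fun α hα β hβ e => ?_⟩
    show ψ (c.op (ext δX f s) k (ChowOps.cl α hα)) = _
    exact (congrArg ψ e).trans (hψ β hβ)
  choose φ hφ using hex
  refine ⟨{ op := φ, push := ?_, pull := ?_, gysin := ?_ }, inferInstance, hδf, ?_⟩
  · intro s t h _ h' _ w₁ w₂ w₃ k α hα
    let h'' : pullback t.g' f ⟶ pullback s.g' f :=
      pullback.lift (pullback.fst t.g' f ≫ h') (pullback.snd t.g' f) (by rw [Category.assoc, w₃, pullback.condition])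
    have e₁ : h'' ≫ pullback.fst s.g' f = pullback.fst t.g' f ≫ h' := pullback.lift_fst _ _ _
    have e₂ : h'' ≫ pullback.snd s.g' f = pullback.snd t.g' f := pullback.lift_snd _ _ _
    have hpb : IsPullback (pullback.fst t.g' f) h'' h' (pullback.fst s.g' f) := by
      refine IsPullback.of_bot ?_ e₁.symm (IsPullback.of_hasPullback s.g' f)
      rw [w₃, e₂]; exact IsPullback.of_hasPullback t.g' f
    haveI : IsProper h'' := MorphismProperty.of_isPullback (P := @IsProper) hpb inferInstance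
    obtain ⟨β, hβ, eb, eb'⟩ := c.push (ext δX f s) (ext δX f t) h h'' w₁
      (by show h'' ≫ pullback.fst s.g' f ≫ s.f' = (pullback.fst t.g' f ≫ t.f') ≫ h
          rw [reassoc_of% e₁, w₂, Category.assoc]) e₂ k α hα
    refine ⟨_, Bivar.cycMap_mem_Zk (pullback.fst t.g' f) _ t.δX' _ hβ, hφ t k α hα β hβ eb, ?_⟩
    refine (hφ s k _ _ _ _ eb').trans (Bivar.cl_congr ?_ _ _)
    have c₂ := (deltaCompat_of_over' h' w₃).2
    have c₃ : Cyc.DeltaCompat h'' (extδ δX f t) (extδ δX f s) :=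
      (deltaCompat_of_over' (s := ext δX f s) (t := ext δX f t) h'' e₂).2
    rw [← map_comp h'' (pullback.fst s.g' f) c₃ (ext_fst_compat hδf s) β,
      ← map_comp (pullback.fst t.g' f) h' (ext_fst_compat hδf t) c₂ β]
    congr 1
  · intro s t h _ h' _ m hm hm' w₁ w₂ w₃ k α hα
    let h'' : pullback t.g' f ⟶ pullback s.g' f :=
      pullback.lift (pullback.fst t.g' f ≫ h') (pullback.snd t.g' f) (by rw [Category.assoc, w₃, pullback.condition])
    have e₁ : h'' ≫ pullback.fst s.g' f = pullback.fst t.g' f ≫ h' := pullback.lift_fst _ _ _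
    have e₂ : h'' ≫ pullback.snd s.g' f = pullback.snd t.g' f := pullback.lift_snd _ _ _
    have hpb : IsPullback (pullback.fst t.g' f) h'' h' (pullback.fst s.g' f) := by
      refine IsPullback.of_bot ?_ e₁.symm (IsPullback.of_hasPullback s.g' f)
      rw [w₃, e₂]; exact IsPullback.of_hasPullback t.g' f
    haveI : Flat h'' := MorphismProperty.of_isPullback (P := @Flat) hpb inferInstance
    obtain ⟨hh'l, c₂⟩ := deltaCompat_of_over' h' w₃
    haveI := hh'l
    haveI : LocallyOfFiniteType h'' := MorphismProperty.of_isPullback (P := @LocallyOfFiniteType) hpb hh'l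
    haveI : IsLocallyNoetherian t.X' := (F t).noethX
    obtain ⟨β, hβ, eb, H⟩ := c.pull (ext δX f s) (ext δX f t) h h'' m hm (FibDim14.hasRelDim_baseChange hpb hm') w₁
      (by show h'' ≫ pullback.fst s.g' f ≫ s.f' = (pullback.fst t.g' f ≫ t.f') ≫ h
          rw [reassoc_of% e₁, w₂, Category.assoc]) e₂ k α hα
    refine ⟨_, Bivar.cycMap_mem_Zk (pullback.fst s.g' f) _ s.δX' _ hβ, hφ s k α hα β hβ eb, fun α₁ h₁ hα₁ => ?_⟩
    obtain ⟨β₁, hβ₁, eβ₁, eb₁⟩ := H α₁ h₁ hα₁
    refine ⟨_, Bivar.cycMap_mem_Zk (pullback.fst t.g' f) _ t.δX' _ hβ₁, ?_, hφ t _ α₁ hα₁ β₁ hβ₁ eb₁⟩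
    exact (pullFun_map_of_isPullback (p' := h'') (f' := pullback.fst t.g' f) (f := pullback.fst s.g' f) (p := h')
      hpb.flip (F t).dimX (ext_fst_compat hδf s) (ext_fst_compat hδf t)
      (Cyc26.shift_of_hasRelDim h' hm' c₂) β hβ β₁ eβ₁).symm
  · intro s t i _ j _ w₁ w₂ w₃ L hL σ hσ τ hτ k α hα
    let J : pullback t.g' f ⟶ pullback s.g' f :=
      pullback.lift (pullback.fst t.g' f ≫ j) (pullback.snd t.g' f) (by rw [Category.assoc, w₃, pullback.condition])
    have e₁ : J ≫ pullback.fst s.g' f = pullback.fst t.g' f ≫ j := pullback.lift_fst _ _ _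
    have e₂ : J ≫ pullback.snd s.g' f = pullback.snd t.g' f := pullback.lift_snd _ _ _
    have hpb : IsPullback (pullback.fst t.g' f) J j (pullback.fst s.g' f) := by
      refine IsPullback.of_bot ?_ e₁.symm (IsPullback.of_hasPullback s.g' f)
      rw [w₃, e₂]; exact IsPullback.of_hasPullback t.g' f
    haveI : IsClosedImmersion J := MorphismProperty.of_isPullback (P := @IsClosedImmersion) hpb inferInstance
    haveI : IsLocallyNoetherian s.X' := (F s).noethX
    haveI : IsLocallyNoetherian (pullback s.g' f : Scheme.{u}) := (G s).noethX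
    haveI : IsLocallyNoetherian t.X' := (F t).noethX
    let q := pullback.fst s.g' f
    have hN := Groth.Agent.Twist.isInvertible_pullback s.f' hL
    have hM := Groth.Agent.Twist.isInvertible_pullback q hN
    let e := (Scheme.Modules.pullbackComp q s.f').app L
    have hzJ : Cyc.IsZeroSchemeOf J ((Scheme.Modules.pullback q).obj ((Scheme.Modules.pullback s.f').obj L))
        (Groth.Agent.M2.pullSec q _ τ) := isZeroSchemeOf_pullback q hpb.flip hN hτ
    have hzJ' := isZeroSchemeOf_moduleIso e hzJ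
    obtain ⟨β, hβ, eb, H⟩ := c.gysin (ext δX f s) (ext δX f t) i J w₁
      (by show J ≫ pullback.fst s.g' f ≫ s.f' = (pullback.fst t.g' f ≫ t.f') ≫ i
          rw [reassoc_of% e₁, w₂, Category.assoc]) e₂ L hL σ hσ _ hzJ' k α hα
    refine ⟨_, Bivar.cycMap_mem_Zk q _ s.δX' _ hβ, hφ s k α hα β hβ eb, fun w hw γ hγ hγm w' hw' => ?_⟩
    obtain ⟨v, hv⟩ := Cyc26.exists_sections hM
    obtain ⟨ζ, hζm, hζ, eζ⟩ := H w hw γ hγ hγm (fun ξ => fibLin e.hom ξ (v ξ)) fun ξ => fibLin_ne_zero e ξ (hv ξ)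
    obtain ⟨C, hC⟩ := Cyc26.exists_cycle_c1Cap hN (F s).dimX (AlgebraicCycle.map q (extδ δX f s) s.δX' β)
      (Cyc26.gysinChoice_ne_zero τ hw')
    obtain ⟨ζ', hζ'⟩ := Cyc26.exists_cycle_restrict j C
    have hjd := delta_eq_comp (deltaCompat_of_over' j w₃).2
    have hJd : extδ δX f t = fun x => extδ δX f s (J x) :=
      delta_eq_comp (deltaCompat_of_over' (s := ext δX f s) (t := ext δX f t) J e₂).2
    have hCm : C ∈ Cyc.Zk s.X' s.δX' (k - 1 - p) := by
      refine Cyc26.c1Cap_mem_Zk (α := AlgebraicCycle.map q (extδ δX f s) s.δX' β) ?_ hC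
      rw [show k - 1 - p + 1 = k - p by ring]
      exact Bivar.cycMap_mem_Zk q _ s.δX' _ hβ
    have hζ'm : ζ' ∈ Cyc.Zk t.X' t.δX' (k - 1 - p) := fun x hx => by
      rw [hζ']
      exact hCm _ (by rwa [hjd] at hx)
    refine ⟨ζ', hζ'm, fun x => by rw [hζ', hC], (hφ t (k - 1) γ hγm ζ hζm eζ).trans (Eq.symm ?_)⟩
    refine cl_eq_of_ratEquiv _ _ ?_
    let ep := hpb.flip.isoPullback
    obtain ⟨A, hA⟩ := exists_cycle_comp_inv ep ζ
    let δP : ↥(pullback q j) → ℤ := fun z => extδ δX f s (pullback.fst q j z)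
    have hδP : (fun x => δP (ep.hom x)) = extδ δX f t := by
      rw [hJd]
      funext x
      show extδ δX f s ((ep.hom ≫ pullback.fst q j) x) = _
      rw [hpb.flip.isoPullback_hom_fst]
    have hD' : Cyc.IsZeroSchemeOf (pullback.fst q j)
        ((Scheme.Modules.pullback q).obj ((Scheme.Modules.pullback s.f').obj L)) (Groth.Agent.M2.pullSec q _ τ) :=
      isZeroSchemeOf_pullback q (IsPullback.of_hasPullback q j) hN hτ
    have key := Cyc26.gysin_map q (G s).dimX (F s).dimX (ext_fst_compat hδf s) hN j hτ hD'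
      (k := k - 1 - p) (α := β) (show β ∈ Cyc.Zk _ (extδ δX f s) (k - 1 - p + 1) by
        rw [show k - 1 - p + 1 = k - p by ring]; exact hβ) hw' hv
      (γ := ζ') (fun x => by rw [hζ', hC]) (γ' := A) fun z => ?_
    · rw [← hjd] at key
      have hAm : AlgebraicCycle.map (pullback.fst t.g' f) (extδ δX f t) t.δX' ζ =
          AlgebraicCycle.map (pullback.snd q j) δP t.δX' A := by
        rw [← map_iso_comp ep (pullback.snd q j) δP t.δX' ζ A hA, hδP]
        congr 1
        exact hpb.flip.isoPullback_hom_snd.symm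
      rw [hAm]
      exact key
    · have hz : ep.hom (ep.inv z) = z := by rw [← Scheme.Hom.comp_apply, ep.inv_hom_id]; rfl
      conv_lhs => rw [← hz, hA, hζ]
      rw [← Scheme.Hom.comp_apply, hpb.flip.isoPullback_inv_fst, c1CapFun_gysin_moduleIso e hM _ _ _ hv]
      rfl
  · intro s X' f' _ gX hp δX' hX' k α hα β hβ heq
    let S' : Bivar.Sq (f ≫ g) δX δZ :=
      ⟨s.Y', X', s.g, f' ≫ s.f', gX, hp.paste_horiz s.isPullback, s.lft, s.δY', δX', s.compatY, hX'⟩
    haveI : IsLocallyNoetherian X' := (sqFacts (f := f ≫ g) hX hZ S').noethX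
    haveI : IsLocallyNoetherian s.X' := (F s).noethX
    let e := hp.isoPullback
    obtain ⟨β₀, hβ₀, eb, eb'⟩ := c.push (ext δX f s) S' (𝟙 s.Y') e.hom (Category.id_comp _)
      (by show e.hom ≫ pullback.fst s.g' f ≫ s.f' = (f' ≫ s.f') ≫ 𝟙 _
          rw [Category.comp_id, ← Category.assoc, hp.isoPullback_hom_fst]) hp.isoPullback_hom_snd k α hα
    rw [Bivar.cl_congr (map_id s.δY' α) (Bivar.cycMap_mem_Zk (𝟙 s.Y') _ _ k hα) hα] at eb'
    refine (hφ s k α hα _ _ eb').trans ?_
    have c₁ : Cyc.DeltaCompat e.hom δX' (extδ δX f s) :=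
      (deltaCompat_of_over' (s := ext δX f s) (t := S') e.hom hp.isoPullback_hom_snd).2
    have hc' : Cyc.DeltaCompat f' δX' s.δX' := by
      have := Bivar.deltaCompat_comp e.hom _ _ _ _ c₁ (ext_fst_compat hδf s)
      rwa [hp.isoPullback_hom_fst] at this
    have hmap : AlgebraicCycle.map (pullback.fst s.g' f) (extδ δX f s) s.δX'
        (AlgebraicCycle.map e.hom δX' (extδ δX f s) β₀) = AlgebraicCycle.map f' δX' s.δX' β₀ := by
      rw [← map_comp e.hom (pullback.fst s.g' f) c₁ (ext_fst_compat hδf s) β₀]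
      congr 1
      exact hp.isoPullback_hom_fst
    refine (Bivar.cl_congr hmap _ (Bivar.cycMap_mem_Zk f' δX' s.δX' _ hβ₀)).trans ?_
    exact cl_map_eq f' (sqFacts (f := f ≫ g) hX hZ S').dimX (F s).dimX hc' (eb.symm.trans heq)

end Groth.Agent.Bivar12
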