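import Groth.Agent.Lib.Bivar12.Pieces
import Groth.Agent.Lib.Bivar12.PushClass

/-!
# Bivariant classes over a disjoint union
-/

set_option autoImplicit false
universe u
set_option linter.style.haveILetI false
set_option backward.isDefEq.respectTransparency false
set_option backward.isDefEq.respectTransparency.types false

open CategoryTheory CategoryTheory.Limits AlgebraicGeometry TopologicalSpace

noncomputable section

namespace Groth.Agent.Bivar12

variable {X Y : Scheme.{u}} {f : X ⟶ Y} {δX : X → ℤ} {δY : Y → ℤ}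

theorem isSetup_sqY (hY : Cyc.IsSetup Y δY) (s : Bivar.Sq f δX δY) [IsOpenImmersion s.g] :
    Cyc.IsSetup s.Y' s.δY' := by
  rw [delta_eq_comp s.compatY]
  exact isSetup_openImmersion s.g hY

theorem isSetup_sqX (hX : Cyc.IsSetup X δX) (s : Bivar.Sq f δX δY) [IsOpenImmersion s.g] :
    Cyc.IsSetup s.X' s.δX' := by
  haveI := isOpenImmersion_g' s
  rw [delta_eq_comp s.compatX]
  exact isSetup_openImmersion s.g' hX

theorem exists_restrictHom {U S : Scheme.{u}} [IsLocallyNoetherian U] [IsLocallyNoetherian S] (a : U ⟶ S)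
    [IsOpenImmersion a] {δS : S → ℤ} (hdS : Cyc.IsDimFun S δS) {δU : U → ℤ} (hδ : δU = fun z => δS (a z))
    (hdU : Cyc.IsDimFun U δU) {k l : ℤ} (e : l = k + ((0 : ℕ) : ℤ)) :
    ∃ φ : ChowOps.CH S δS k →+ ChowOps.CH U δU l, IsPullMap a δU δS ((0 : ℕ) : ℤ) φ := by
  subst hδ
  exact exists_isPullMap a hdU hdS
    (Cyc26.shift_of_hasRelDim a (hasRelDim_openImmersion a) (deltaCompat_surjStalks a δS)) e

theorem exists_restrictY (hX : Cyc.IsSetup X δX) (hY : Cyc.IsSetup Y δY) (s t : Bivar.Sq f δX δY)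
    [IsOpenImmersion s.g] {k l : ℤ} (e : l = k + ((0 : ℕ) : ℤ)) :
    ∃ φ : ChowOps.CH t.Y' t.δY' k →+ ChowOps.CH (piece s t).Y' (piece s t).δY' l,
      IsPullMap (incY s t) (piece s t).δY' t.δY' ((0 : ℕ) : ℤ) φ := by
  have T := sqFacts hX hY t
  have P := sqFacts (isSetup_sqX hX s) (isSetup_sqY hY s) (piece s t)
  haveI := T.noethY
  haveI := P.noethY
  exact exists_restrictHom (incY s t) T.dimY rfl P.dimY e

theorem exists_restrictX (hX : Cyc.IsSetup X δX) (hY : Cyc.IsSetup Y δY) (s t : Bivar.Sq f δX δY)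
    [IsOpenImmersion s.g] {k l : ℤ} (e : l = k + ((0 : ℕ) : ℤ)) :
    ∃ φ : ChowOps.CH t.X' t.δX' k →+ ChowOps.CH (piece s t).X' (piece s t).δX' l,
      IsPullMap (incX s t) (piece s t).δX' t.δX' ((0 : ℕ) : ℤ) φ := by
  have T := sqFacts hX hY t
  have P := sqFacts (isSetup_sqX hX s) (isSetup_sqY hY s) (piece s t)
  haveI := T.noethX
  haveI := P.noethX
  exact exists_restrictHom (incX s t) T.dimX rfl P.dimX e

theorem bijective_pieces (hX : Cyc.IsSetup X δX) (hY : Cyc.IsSetup Y δY) {J : Type u}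
    (s : J → Bivar.Sq f δX δY) [∀ j, IsOpenImmersion (s j).g]
    (hdisj : ∀ j j', j ≠ j' → Disjoint (Set.range (s j).g.base) (Set.range (s j').g.base))
    (hcov : ∀ y : Y, ∃ j, y ∈ Set.range (s j).g.base) (t : Bivar.Sq f δX δY) {k l : ℤ} (e : l = k)
    (P : ∀ j, ChowOps.CH t.X' t.δX' k →+ ChowOps.CH (piece (s j) t).X' (piece (s j) t).δX' l)
    (hP : ∀ j, IsPullMap (incX (s j) t) (piece (s j) t).δX' t.δX' ((0 : ℕ) : ℤ) (P j)) :
    Function.Bijective fun x j => P j x := by
  have T := sqFacts hX hY t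
  haveI := T.noethX
  refine bijective_restrict T.dimX (fun j => incX (s j) t) (fun j => inferInstance) (fun j j' hne => ?_)
    (fun x => ?_) (fun j => (piece (s j) t).δX') (fun j => rfl) e P hP
  · rw [range_incX, range_incX]
    exact (Disjoint.preimage _ (hdisj j j' hne)).preimage _
  · obtain ⟨j, hj⟩ := hcov (f (t.g' x))
    exact ⟨j, by rw [range_incX]; exact hj⟩

theorem res_eq (hX : Cyc.IsSetup X δX) (hY : Cyc.IsSetup Y δY) {p : ℤ} (c : Bivar.Cl p f δX δY)
    (s t : Bivar.Sq f δX δY) [IsOpenImmersion s.g] {k k₁ : ℤ} (e : k₁ = k + ((0 : ℕ) : ℤ))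
    {A : ChowOps.CH t.Y' t.δY' k →+ ChowOps.CH (piece s t).Y' (piece s t).δY' k₁}
    (hA : IsPullMap (incY s t) (piece s t).δY' t.δY' ((0 : ℕ) : ℤ) A)
    {B : ChowOps.CH t.X' t.δX' (k - p) →+ ChowOps.CH (piece s t).X' (piece s t).δX' (k₁ - p)}
    (hB : IsPullMap (incX s t) (piece s t).δX' t.δX' ((0 : ℕ) : ℤ) B) (x : ChowOps.CH t.Y' t.δY' k) :
    (c.res s).op (piece s t) k₁ (A x) = B (c.op t k x) := by
  subst e
  have P := sqFacts (isSetup_sqX hX s) (isSetup_sqY hY s) (piece s t)
  haveI := P.noethY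
  exact eq_of_pullOK P.dimY
    (Cyc26.shift_of_hasRelDim (incY s t) (hasRelDim_openImmersion _) (deltaCompat_surjStalks _ t.δY')) rfl hA hB
    (c.pull t (s.paste (piece s t)) (incY s t) (incX s t) 0 (hasRelDim_openImmersion _) (hasRelDim_openImmersion _)
      (incY_comp s t) (incX_f' s t) (incX_comp s t) k) x

theorem op_piece_eq (hX : Cyc.IsSetup X δX) (hY : Cyc.IsSetup Y δY) {p : ℤ} (s : Bivar.Sq f δX δY)
    [IsOpenImmersion s.g] (c : Bivar.Cl p s.f' s.δX' s.δY') (t : Bivar.Sq s.f' s.δX' s.δY') {k k₁ : ℤ}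
    (e : k₁ = k + ((0 : ℕ) : ℤ))
    {A : ChowOps.CH t.Y' t.δY' k →+ ChowOps.CH (piece s (s.paste t)).Y' (piece s (s.paste t)).δY' k₁}
    (hA : IsPullMap (incY s (s.paste t)) (piece s (s.paste t)).δY' t.δY' ((0 : ℕ) : ℤ) A)
    {B : ChowOps.CH t.X' t.δX' (k - p) →+ ChowOps.CH (piece s (s.paste t)).X' (piece s (s.paste t)).δX' (k₁ - p)}
    (hB : IsPullMap (incX s (s.paste t)) (piece s (s.paste t)).δX' t.δX' ((0 : ℕ) : ℤ) B)
    (x : ChowOps.CH t.Y' t.δY' k) : c.op (piece s (s.paste t)) k₁ (A x) = B (c.op t k x) := by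
  subst e
  haveI := isOpenImmersion_g' s
  have P := sqFacts (isSetup_sqX hX s) (isSetup_sqY hY s) (piece s (s.paste t))
  haveI := P.noethY
  refine eq_of_pullOK P.dimY
    (Cyc26.shift_of_hasRelDim (incY s (s.paste t)) (hasRelDim_openImmersion _) (deltaCompat_surjStalks _ t.δY'))
    rfl hA hB (c.pull t (piece s (s.paste t)) (incY s (s.paste t)) (incX s (s.paste t)) 0 (hasRelDim_openImmersion _)
      (hasRelDim_openImmersion _) ?_ (incX_f' s (s.paste t)) ?_ k) x
  · rw [← cancel_mono s.g, Category.assoc]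
    exact incY_comp s (s.paste t)
  · rw [← cancel_mono s.g', Category.assoc]
    exact incX_comp s (s.paste t)

/-- Bivariant classes over a disjoint union are families of bivariant classes. -/
theorem res_bijective (hX : Cyc.IsSetup X δX) (hY : Cyc.IsSetup Y δY) (p : ℤ) {J : Type u}
    (s : J → Bivar.Sq f δX δY) [∀ j, IsOpenImmersion (s j).g]
    (hdisj : ∀ j j', j ≠ j' → Disjoint (Set.range (s j).g.base) (Set.range (s j').g.base))
    (hcov : ∀ y : Y, ∃ j, y ∈ Set.range (s j).g.base) :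
    Function.Bijective fun c : Bivar.Cl p f δX δY => fun j : J => c.res (s j) := by
  choose PY hPY using fun (j : J) (t : Bivar.Sq f δX δY) (k : ℤ) =>
    exists_restrictY (l := k) hX hY (s j) t (k := k) (by simp)
  choose PX hPX using fun (j : J) (t : Bivar.Sq f δX δY) (k : ℤ) =>
    exists_restrictX (l := k) hX hY (s j) t (k := k) (by simp)
  have hbij := fun (t : Bivar.Sq f δX δY) (k : ℤ) =>
    bijective_pieces hX hY s hdisj hcov t (k := k) rfl (fun j => PX j t k) (fun j => hPX j t k)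
  refine ⟨fun c d hcd => Bivar.Cl.ext (funext fun t => funext fun k => AddMonoidHom.ext fun x =>
    (hbij t (k - p)).1 (funext fun j => ?_)), fun cj => ?_⟩
  · show PX j t (k - p) (c.op t k x) = PX j t (k - p) (d.op t k x)
    rw [← res_eq hX hY c (s j) t (by simp) (hPY j t k) (hPX j t (k - p)) x,
      ← res_eq hX hY d (s j) t (by simp) (hPY j t k) (hPX j t (k - p)) x, show c.res (s j) = d.res (s j) from congrFun hcd j]
  -- the class built from the pieces
  let E := fun (t : Bivar.Sq f δX δY) (k : ℤ) => AddEquiv.ofBijective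
    (AddMonoidHom.mk' (fun x j => PX j t k x) fun x y => funext fun j => map_add (PX j t k) x y) (hbij t k)
  let op : ∀ (t : Bivar.Sq f δX δY) (k : ℤ), ChowOps.CH t.Y' t.δY' k →+ ChowOps.CH t.X' t.δX' (k - p) := fun t k =>
    (E t (k - p)).symm.toAddMonoidHom.comp (AddMonoidHom.mk' (fun x j => (cj j).op (piece (s j) t) k (PY j t k x))
      fun x y => funext fun j => (congrArg ((cj j).op (piece (s j) t) k) (map_add (PY j t k) x y)).trans (map_add _ _ _))
  have hop : ∀ (t : Bivar.Sq f δX δY) (k : ℤ) (x : ChowOps.CH t.Y' t.δY' k) (j : J),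
      PX j t (k - p) (op t k x) = (cj j).op (piece (s j) t) k (PY j t k x) := fun t k x j =>
    congrFun ((E t (k - p)).apply_symm_apply _) j
  have hsY := fun j => isSetup_sqY hY (s j)
  have hsX := fun j => isSetup_sqX hX (s j)
  refine ⟨{ op := op, push := ?_, pull := ?_, gysin := ?_ }, funext fun j => Bivar.Cl.ext (funext fun t => funext
    fun k => ?_)⟩
  · intro u t h _ h' _ w₁ w₂ w₃ k
    have U := sqFacts hX hY u
    have T := sqFacts hX hY t
    haveI := U.noethY; haveI := U.noethX; haveI := T.noethY; haveI := T.noethX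
    obtain ⟨A, hA⟩ := exists_isPushMap h T.dimY U.dimY (deltaCompat_of_over h w₁).2 k
    obtain ⟨B, hB⟩ := exists_isPushMap h' T.dimX U.dimX (deltaCompat_of_over' h' w₃).2 (k - p)
    refine pushOK_of_eq hA hB fun x => (hbij u (k - p)).1 (funext fun j => ?_)
    show PX j u (k - p) (op u k (A x)) = PX j u (k - p) (B (op t k x))
    haveI := isOpenImmersion_g' (s j)
    have U' := sqFacts (hsX j) (hsY j) (piece (s j) u)
    have T' := sqFacts (hsX j) (hsY j) (piece (s j) t)
    haveI := U'.noethY; haveI := U'.noethX; haveI := T'.noethY; haveI := T'.noethX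
    haveI : IsProper (mapY (s j) t h w₁) :=
      MorphismProperty.of_isPullback (P := @IsProper) (isPullback_mapY (s j) t h w₁) ‹IsProper h›
    haveI : IsProper (mapX (s j) t h' w₃) :=
      MorphismProperty.of_isPullback (P := @IsProper) (isPullback_mapX (s j) t h' w₃) ‹IsProper h'›
    obtain ⟨A', hA'⟩ := exists_isPushMap (mapY (s j) t h w₁) T'.dimY U'.dimY
      (deltaCompat_of_over _ (mapY_g (s j) t h w₁)).2 k
    obtain ⟨B', hB'⟩ := exists_isPushMap (mapX (s j) t h' w₃) T'.dimX U'.dimX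
      (deltaCompat_of_over' _ (mapX_g (s j) t h' w₃)).2 (k - p)
    have e₁ := pull_push_comm (hsY j) hY (hasRelDim_openImmersion (s j).g) (s j).compatY (sqY (s j) u) (sqY (s j) t)
      h (mapY (s j) t h w₁) w₁ (mapY_inc (s j) t h w₁) (mapY_g (s j) t h w₁) (l := k) (by simp) hA hA'
      (hPY j t k) (hPY j u k) x
    have e₂ := pull_push_comm (hsX j) hX (hasRelDim_openImmersion (s j).g') (s j).compatX (sqX (s j) u) (sqX (s j) t)
      h' (mapX (s j) t h' w₃) w₃ (mapX_inc (s j) t h' w₃) (mapX_g (s j) t h' w₃) (l := k - p) (by simp) hB hB'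
      (hPX j t (k - p)) (hPX j u (k - p)) (op t k x)
    have e₃ := eq_of_pushOK hA' hB' ((cj j).push (piece (s j) u) (piece (s j) t) (mapY (s j) t h w₁)
      (mapX (s j) t h' w₃) (mapY_g (s j) t h w₁) (map_w (s j) t h h' w₁ w₂ w₃) (mapX_g (s j) t h' w₃) k) (PY j t k x)
    exact (hop u k _ j).trans ((congrArg _ e₁).trans (e₃.trans ((congrArg _ (hop t k x j).symm).trans e₂.symm)))
  · intro u t h _ h' _ m hm hm' w₁ w₂ w₃ k
    have U := sqFacts hX hY u
    have T := sqFacts hX hY t
    haveI := U.noethY; haveI := U.noethX; haveI := T.noethY; haveI := T.noethX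
    haveI := (deltaCompat_of_over h w₁).1
    haveI := (deltaCompat_of_over' h' w₃).1
    have sA := Cyc26.shift_of_hasRelDim h hm (deltaCompat_of_over h w₁).2
    have sB := Cyc26.shift_of_hasRelDim h' hm' (deltaCompat_of_over' h' w₃).2
    obtain ⟨A, hA⟩ := exists_isPullMap (k := k) (l := k + (m : ℤ)) h T.dimY U.dimY sA rfl
    obtain ⟨B, hB⟩ := exists_isPullMap (k := k - p) (l := k + (m : ℤ) - p) h' T.dimX U.dimX sB (by ring)
    refine pullOK_of_eq T.dimX sB (by ring) hA hB fun x => (hbij t _).1 (funext fun j => ?_)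
    show PX j t (k + (m : ℤ) - p) (op t (k + m) (A x)) = PX j t (k + (m : ℤ) - p) (B (op u k x))
    haveI := isOpenImmersion_g' (s j)
    have U' := sqFacts (hsX j) (hsY j) (piece (s j) u)
    have T' := sqFacts (hsX j) (hsY j) (piece (s j) t)
    haveI := U'.noethY; haveI := U'.noethX; haveI := T'.noethY; haveI := T'.noethX
    haveI : Flat (mapY (s j) t h w₁) :=
      MorphismProperty.of_isPullback (P := @Flat) (isPullback_mapY (s j) t h w₁) ‹Flat h›
    haveI : Flat (mapX (s j) t h' w₃) :=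
      MorphismProperty.of_isPullback (P := @Flat) (isPullback_mapX (s j) t h' w₃) ‹Flat h'›
    haveI := (deltaCompat_of_over _ (mapY_g (s j) t h w₁)).1
    haveI := (deltaCompat_of_over' _ (mapX_g (s j) t h' w₃)).1
    have rY := FibDim14.hasRelDim_baseChange (isPullback_mapY (s j) t h w₁) hm
    have rX := FibDim14.hasRelDim_baseChange (isPullback_mapX (s j) t h' w₃) hm'
    have sA' := Cyc26.shift_of_hasRelDim _ rY (deltaCompat_of_over _ (mapY_g (s j) t h w₁)).2
    have sB' := Cyc26.shift_of_hasRelDim _ rX (deltaCompat_of_over' _ (mapX_g (s j) t h' w₃)).2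
    obtain ⟨A', hA'⟩ := exists_isPullMap (k := k) (l := k + (m : ℤ)) _ T'.dimY U'.dimY sA' rfl
    obtain ⟨B', hB'⟩ := exists_isPullMap (k := k - p) (l := k + (m : ℤ) - p) _ T'.dimX U'.dimX sB' (by ring)
    have e₁ := pull_pull_comm (hsY j) hY (hasRelDim_openImmersion (s j).g) (s j).compatY (sqY (s j) u) (sqY (s j) t)
      h (mapY (s j) t h w₁) hm rY w₁ (mapY_inc (s j) t h w₁) (mapY_g (s j) t h w₁) (l := k) (k₁ := k + (m : ℤ))
      (l₁ := k + (m : ℤ)) (by simp) rfl (by simp) hA hA' (hPY j t _) (hPY j u k) x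
    have e₂ := pull_pull_comm (hsX j) hX (hasRelDim_openImmersion (s j).g') (s j).compatX (sqX (s j) u) (sqX (s j) t)
      h' (mapX (s j) t h' w₃) hm' rX w₃ (mapX_inc (s j) t h' w₃) (mapX_g (s j) t h' w₃) (l := k - p)
      (k₁ := k + (m : ℤ) - p) (l₁ := k + (m : ℤ) - p) (by simp) (by ring) (by simp) hB hB' (hPX j t _)
      (hPX j u (k - p)) (op u k x)
    have e₃ := eq_of_pullOK T'.dimY sA' rfl hA' hB' ((cj j).pull (piece (s j) u) (piece (s j) t) (mapY (s j) t h w₁)
      (mapX (s j) t h' w₃) m rY rX (mapY_g (s j) t h w₁) (map_w (s j) t h h' w₁ w₂ w₃) (mapX_g (s j) t h' w₃) k)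
      (PY j u k x)
    exact (hop t _ _ j).trans ((congrArg _ e₁).trans (e₃.trans ((congrArg _ (hop u k x j).symm).trans e₂.symm)))
  · intro u t i _ i' _ w₁ w₂ w₃ L hL σ hσ τ hτ k
    have U := sqFacts hX hY u
    haveI := U.noethY; haveI := U.noethX
    have hN := Groth.Agent.Twist.isInvertible_pullback u.f' hL
    obtain ⟨A, hA⟩ := exists_isGysinMap (k := k) (l := k - 1) i U.dimY
      (delta_eq_comp (deltaCompat_of_over i w₁).2) hL hσ rfl
    obtain ⟨B, hB⟩ := exists_isGysinMap (k := k - p) (l := k - 1 - p) i' U.dimX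
      (delta_eq_comp (deltaCompat_of_over' i' w₃).2) hN hτ (by ring)
    refine gysinOK_of_eq hσ U.dimX (delta_eq_comp (deltaCompat_of_over' i' w₃).2) hN hτ (by ring) hA hB
      fun x => (hbij t _).1 (funext fun j => ?_)
    show PX j t (k - 1 - p) (op t (k - 1) (A x)) = PX j t (k - 1 - p) (B (op u k x))
    haveI := isOpenImmersion_g' (s j)
    have U' := sqFacts (hsX j) (hsY j) (piece (s j) u)
    haveI := U'.noethY; haveI := U'.noethX
    haveI : IsClosedImmersion (mapY (s j) t i w₁) :=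
      MorphismProperty.of_isPullback (P := @IsClosedImmersion) (isPullback_mapY (s j) t i w₁) ‹IsClosedImmersion i›
    haveI : IsClosedImmersion (mapX (s j) t i' w₃) :=
      MorphismProperty.of_isPullback (P := @IsClosedImmersion) (isPullback_mapX (s j) t i' w₃) ‹IsClosedImmersion i'›
    let Lj := (Scheme.Modules.pullback (incY (s j) u)).obj L
    let Nj := (Scheme.Modules.pullback (incX (s j) u)).obj ((Scheme.Modules.pullback u.f').obj L)
    have hLj : PicF.IsInvertible Lj := Groth.Agent.Twist.isInvertible_pullback _ hL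
    have hNj : PicF.IsInvertible Nj := Groth.Agent.Twist.isInvertible_pullback _ hN
    have hσj := isZeroSchemeOf_pullback (incY (s j) u) (isPullback_mapY (s j) t i w₁).flip hL hσ
    have hτj := isZeroSchemeOf_pullback (incX (s j) u) (isPullback_mapX (s j) t i' w₃).flip hN hτ
    obtain ⟨A', hA'⟩ := exists_isGysinMap (k := k) (l := k - 1) (mapY (s j) t i w₁) U'.dimY
      (delta_eq_comp (deltaCompat_of_over _ (mapY_g (s j) t i w₁)).2) hLj hσj rfl
    obtain ⟨B', hB'⟩ := exists_isGysinMap (k := k - p) (l := k - 1 - p) (mapX (s j) t i' w₃) U'.dimX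
      (delta_eq_comp (deltaCompat_of_over' _ (mapX_g (s j) t i' w₃)).2) hNj hτj (by ring)
    have e₁ := pull_gysin_comm (hsY j) hY (hasRelDim_openImmersion (s j).g) (s j).compatY (sqY (s j) u) (sqY (s j) t)
      i (mapY (s j) t i w₁) w₁ (mapY_inc (s j) t i w₁) (mapY_g (s j) t i w₁) hL hσ (N := Lj) (Iso.refl _) (l := k)
      (k₁ := k - 1) (l₁ := k - 1) (by simp) rfl (by simp) hA hA' (hPY j t _) (hPY j u k) x
    have e₂ := pull_gysin_comm (hsX j) hX (hasRelDim_openImmersion (s j).g') (s j).compatX (sqX (s j) u) (sqX (s j) t)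
      i' (mapX (s j) t i' w₃) w₃ (mapX_inc (s j) t i' w₃) (mapX_g (s j) t i' w₃) hN hτ (N := Nj) (Iso.refl _)
      (l := k - p) (k₁ := k - 1 - p) (l₁ := k - 1 - p) (by simp) (by ring) (by simp) hB hB' (hPX j t _)
      (hPX j u (k - p)) (op u k x)
    let ε : Nj ≅ (Scheme.Modules.pullback (piece (s j) u).f').obj Lj :=
      (Scheme.Modules.pullbackComp (incX (s j) u) u.f').app L ≪≫
        (Scheme.Modules.pullbackCongr (incX_f' (s j) u)).app L ≪≫
        ((Scheme.Modules.pullbackComp (piece (s j) u).f' (incY (s j) u)).app L).symm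
    have e₃ := eq_of_gysinOK (L := Lj) (N := (Scheme.Modules.pullback (piece (s j) u).f').obj Lj) U'.dimY
      (delta_eq_comp (deltaCompat_of_over _ (mapY_g (s j) t i w₁)).2) hLj (Iso.refl _) hσj
      (Groth.Agent.Twist.isInvertible_pullback _ hLj) ε.symm (isZeroSchemeOf_moduleIso ε hτj) rfl hA' hB'
      ((cj j).gysin (piece (s j) u) (piece (s j) t) (mapY (s j) t i w₁) (mapX (s j) t i' w₃) (mapY_g (s j) t i w₁)
        (map_w (s j) t i i' w₁ w₂ w₃) (mapX_g (s j) t i' w₃) Lj hLj _ hσj _ (isZeroSchemeOf_moduleIso ε hτj) k)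
      (PY j u k x)
    exact (hop t _ _ j).trans ((congrArg _ e₁).trans (e₃.trans ((congrArg _ (hop u k x j).symm).trans e₂.symm)))
  · refine AddMonoidHom.ext fun x => ?_
    refine (hbij ((s j).paste t) (k - p)).1 (funext fun j' => ?_)
    show PX j' ((s j).paste t) (k - p) (op ((s j).paste t) k x) =
      PX j' ((s j).paste t) (k - p) ((cj j).op t k x)
    rw [hop]
    haveI := isOpenImmersion_g' (s j)
    rcases eq_or_ne j' j with rfl | hne
    · exact op_piece_eq hX hY (s j') (cj j') t (by simp) (hPY j' ((s j').paste t) k) (hPX j' ((s j').paste t) (k - p)) x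
    · haveI : IsEmpty ↥(piece (s j') ((s j).paste t)).X' := ⟨fun z => by
        obtain ⟨y, hy⟩ := show incX (s j') ((s j).paste t) z ∈ _ from
          (range_incX (s j') ((s j).paste t)).le ⟨z, rfl⟩
        refine Set.disjoint_left.1 (hdisj j' j hne) ⟨y, hy⟩
          ⟨(s j).f' (t.g' (incX (s j') ((s j).paste t) z)), ?_⟩
        exact congrArg (fun F => F.base (t.g' (incX (s j') ((s j).paste t) z))) (s j).isPullback.w⟩
      obtain ⟨a, ha, e⟩ := Bivar.exists_rep ((cj j').op (piece (s j') ((s j).paste t)) k (PY j' ((s j).paste t) k x))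
      obtain ⟨b, hb, e'⟩ := Bivar.exists_rep (PX j' ((s j).paste t) (k - p) ((cj j).op t k x))
      rw [← e, ← e']
      exact Bivar.cl_congr (DFunLike.ext _ _ fun z => isEmptyElim z) _ _

end Groth.Agent.Bivar12
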