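import Groth.Agent.Lib.Bivar12.Transport
import Groth.Agent.Lib.Cyc26.RatPull
import Groth.Agent.Lib.Cyc26.PullPush
import Groth.Agent.Lib.Cyc26.GysFun
import Groth.Agent.Lib.FibDim14.BaseChange

/-!
# The bivariant class of flat pullback
-/

set_option autoImplicit false
universe u
set_option linter.style.haveILetI false
set_option backward.isDefEq.respectTransparency false
set_option backward.isDefEq.respectTransparency.types false

open CategoryTheory CategoryTheory.Limits AlgebraicGeometry TopologicalSpace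

noncomputable section

namespace Groth.Agent.Bivar12

variable {X Y : Scheme.{u}}

/-- Flat pullback on Chow groups. -/
theorem exists_pullHom [IsLocallyNoetherian X] [IsLocallyNoetherian Y] (f : X ⟶ Y) [Flat f] {δX : X → ℤ} {δY : Y → ℤ}
    (hdX : Cyc.IsDimFun X δX) (hdY : Cyc.IsDimFun Y δY) {c : ℤ}
    (hc : ∀ z, (∀ w, f w = f z → w ⤳ z → w = z) → δX z = δY (f z) + c) (k l : ℤ) (e : l = k + c) :
    ∃ φ : ChowOps.CH Y δY k →+ ChowOps.CH X δX l, ∀ (α : AlgebraicCycle Y ℤ) (hα : α ∈ Cyc.Zk Y δY k)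
      (β : AlgebraicCycle X ℤ) (_ : ⇑β = Cyc.pullFun f δX δY c ⇑α) (hβ : β ∈ Cyc.Zk X δX l),
      φ (ChowOps.cl α hα) = ChowOps.cl β hβ := by
  subst e
  choose P hP using fun α : AlgebraicCycle Y ℤ => Cyc26.exists_cycle_pullFun f hdX hc α
  have hm : ∀ a : ↥(ChowOps.zk Y δY k), P a.1 ∈ Cyc.Zk X δX (k + c) := fun a => Cyc26.pullFun_mem_Zk f a.2 (hP _)
  let m : ↥(ChowOps.zk Y δY k) →+ ChowOps.CH X δX (k + c) :=
    AddMonoidHom.mk' (fun a => ChowOps.cl (P a.1) (hm a)) fun a b => by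
      refine (Bivar.cl_congr (DFunLike.coe_injective ?_) _ _).trans (Bivar.cl_add _ _ (hm a) (hm b))
      rw [hP, show ((a + b : ↥(ChowOps.zk Y δY k)) : AlgebraicCycle Y ℤ) = a.1 + b.1 from rfl,
        Function.locallyFinsuppWithin.coe_add, Bivar.pullFun_add, Function.locallyFinsuppWithin.coe_add, hP, hP]
  have hker : ChowOps.ratTriv Y δY k ≤ m.ker := by
    refine (AddSubgroup.closure_le _).2 fun a ha => AddMonoidHom.mem_ker.2 ?_
    exact (QuotientAddGroup.eq_zero_iff _).2 (AddSubgroup.subset_closure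
      (Cyc26.ratEquivZero_pullFun f hdX hdY hc ha _ (hP _)))
  refine ⟨QuotientAddGroup.lift _ m hker, fun α hα β hβ' hβ => ?_⟩
  show ChowOps.cl (P α) (hm ⟨α, hα⟩) = _
  exact Bivar.cl_congr (DFunLike.coe_injective ((hP α).trans hβ'.symm)) _ _

variable {f : X ⟶ Y} {δX : X → ℤ} {δY : Y → ℤ}

/-- What a square over a flat morphism provides. -/
structure FlatFacts (r : ℕ) (s : Bivar.Sq f δX δY) : Prop where
  flat : Flat s.f'
  lftg : LocallyOfFiniteType s.g'
  lftf : LocallyOfFiniteType s.f'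
  rel : Cyc.HasRelDim s.f' r
  comp : Cyc.DeltaCompat s.f' s.δX' s.δY'
  noethY : IsLocallyNoetherian s.Y'
  noethX : IsLocallyNoetherian s.X'
  dimY : Cyc.IsDimFun s.Y' s.δY'
  dimX : Cyc.IsDimFun s.X' s.δX'

theorem flatFacts (hX : Cyc.IsSetup X δX) (hY : Cyc.IsSetup Y δY) [Flat f] [LocallyOfFiniteType f] {r : ℕ}
    (hr : Cyc.HasRelDim f r) (hδ : Cyc.DeltaCompat f δX δY) (s : Bivar.Sq f δX δY) : FlatFacts r s := by
  haveI := hX.1
  haveI := hY.1
  haveI := s.lft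
  haveI h1 : LocallyOfFiniteType s.g' := MorphismProperty.of_isPullback (P := @LocallyOfFiniteType) s.isPullback s.lft
  haveI h2 : LocallyOfFiniteType s.f' :=
    MorphismProperty.of_isPullback (P := @LocallyOfFiniteType) s.isPullback.flip inferInstance
  refine ⟨MorphismProperty.of_isPullback (P := @Flat) s.isPullback.flip inferInstance, h1, h2,
    FibDim14.hasRelDim_baseChange s.isPullback.flip hr, ?_, LocallyOfFiniteType.isLocallyNoetherian s.g,
    LocallyOfFiniteType.isLocallyNoetherian s.g',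
    UCat26.isDimFun_of_deltaCompat s.g hY.2.1 hY.2.2 s.compatY,
    UCat26.isDimFun_of_deltaCompat s.g' hX.2.1 hX.2.2 s.compatX⟩
  refine deltaCompat_cancel s.f' s.g s.compatY ?_
  rw [s.isPullback.w]
  exact Bivar.deltaCompat_comp s.g' f _ _ _ s.compatX hδ

theorem deltaCompat_of_over {s t : Bivar.Sq f δX δY} (h : t.Y' ⟶ s.Y') (w : h ≫ s.g = t.g) :
    LocallyOfFiniteType h ∧ Cyc.DeltaCompat h t.δY' s.δY' := by
  haveI := t.lft
  haveI := s.lft
  haveI : LocallyOfFiniteType (h ≫ s.g) := by rw [w]; infer_instance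
  haveI := locallyOfFiniteType_of_comp h s.g
  refine ⟨inferInstance, deltaCompat_cancel h s.g s.compatY ?_⟩
  rw [w]; exact t.compatY

theorem deltaCompat_of_over' {s t : Bivar.Sq f δX δY} (h : t.X' ⟶ s.X') (w : h ≫ s.g' = t.g') :
    LocallyOfFiniteType h ∧ Cyc.DeltaCompat h t.δX' s.δX' := by
  haveI := t.lft
  haveI : LocallyOfFiniteType t.g' := MorphismProperty.of_isPullback (P := @LocallyOfFiniteType) t.isPullback t.lft
  haveI : LocallyOfFiniteType (h ≫ s.g') := by rw [w]; infer_instance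
  haveI := locallyOfFiniteType_of_comp h s.g'
  refine ⟨inferInstance, deltaCompat_cancel h s.g' s.compatX ?_⟩
  rw [w]; exact t.compatX

theorem isPullback_of_over {s t : Bivar.Sq f δX δY} (h : t.Y' ⟶ s.Y') (h' : t.X' ⟶ s.X')
    (w₁ : h ≫ s.g = t.g) (w₂ : h' ≫ s.f' = t.f' ≫ h) (w₃ : h' ≫ s.g' = t.g') :
    IsPullback t.f' h' h s.f' := by
  refine IsPullback.of_bot ?_ w₂.symm s.isPullback
  rw [w₁, w₃]; exact t.isPullback

theorem exists_isFlatPullClass (hX : Cyc.IsSetup X δX) (hY : Cyc.IsSetup Y δY) (f : X ⟶ Y) [Flat f]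
    [LocallyOfFiniteType f] (r : ℕ) (hr : Cyc.HasRelDim f r) (hδ : Cyc.DeltaCompat f δX δY) :
    ∃ c : Bivar.Cl (-(r : ℤ)) f δX δY, Bivar.IsFlatPullClass f r c := by
  have F := flatFacts hX hY hr hδ
  have hshift : ∀ s : Bivar.Sq f δX δY, ∀ z, (∀ w, s.f' w = s.f' z → w ⤳ z → w = z) →
      s.δX' z = s.δY' (s.f' z) + (r : ℤ) := fun s =>
    haveI := (F s).lftf
    Cyc26.shift_of_hasRelDim s.f' (F s).rel (F s).comp
  have hex : ∀ (s : Bivar.Sq f δX δY) (k : ℤ), ∃ φ : ChowOps.CH s.Y' s.δY' k →+ ChowOps.CH s.X' s.δX' (k - -(r : ℤ)),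
      ∀ (α : AlgebraicCycle s.Y' ℤ) (hα : α ∈ Cyc.Zk s.Y' s.δY' k) (β : AlgebraicCycle s.X' ℤ)
        (_ : ⇑β = Cyc.pullFun s.f' s.δX' s.δY' r ⇑α) (hβ : β ∈ Cyc.Zk s.X' s.δX' (k - -(r : ℤ))),
        φ (ChowOps.cl α hα) = ChowOps.cl β hβ := fun s k => by
    haveI := (F s).flat
    haveI := (F s).noethX
    haveI := (F s).noethY
    exact exists_pullHom s.f' (F s).dimX (F s).dimY (hshift s) k _ (sub_neg_eq_add _ _)
  choose φ hφ using hex
  have hcyc : ∀ (s : Bivar.Sq f δX δY) (k : ℤ) (α : AlgebraicCycle s.Y' ℤ) (_ : α ∈ Cyc.Zk s.Y' s.δY' k),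
      ∃ β : AlgebraicCycle s.X' ℤ, β ∈ Cyc.Zk s.X' s.δX' (k - -(r : ℤ)) ∧
        ⇑β = Cyc.pullFun s.f' s.δX' s.δY' r ⇑α := fun s k α hα => by
    haveI := (F s).noethX
    obtain ⟨β, hβ⟩ := Cyc26.exists_cycle_pullFun s.f' (F s).dimX (hshift s) α
    exact ⟨β, by rw [sub_neg_eq_add]; exact Cyc26.pullFun_mem_Zk s.f' hα hβ, hβ⟩
  refine ⟨{ op := φ, push := ?_, pull := ?_, gysin := ?_ }, inferInstance, inferInstance, hr, hδ,
    fun s k α hα α₁ h₁ hα₁ => hφ s k α hα α₁ h₁ hα₁⟩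
  · intro s t h _ h' _ w₁ w₂ w₃ k α hα
    haveI := (F s).flat
    haveI := (F s).noethY
    haveI := (F s).noethX
    obtain ⟨β, hβm, hβ⟩ := hcyc t k α hα
    refine ⟨β, hβm, hφ t k α hα β hβ hβm, ?_⟩
    have hpb := isPullback_of_over h h' w₁ w₂ w₃
    let e := hpb.isoPullback
    obtain ⟨A, hA⟩ := exists_cycle_comp_inv e β
    let δP : ↥(pullback h s.f') → ℤ := fun p => t.δX' (e.inv p)
    have hδP : (fun x => δP (e.hom x)) = t.δX' := funext fun x => by
      show t.δX' (e.inv (e.hom x)) = _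
      rw [← Scheme.Hom.comp_apply, e.hom_inv_id]; rfl
    have hinv : Cyc.DeltaCompat e.inv δP t.δX' := deltaCompat_surjStalks e.inv t.δX'
    have hsnd : Cyc.DeltaCompat (pullback.snd h s.f') δP s.δX' := by
      have hc := Bivar.deltaCompat_comp e.inv h' _ _ _ hinv (deltaCompat_of_over' h' w₃).2
      rwa [hpb.isoPullback_inv_snd] at hc
    have hA' : ⇑A = Cyc.pullFun (pullback.fst h s.f') δP t.δY' r ⇑α := funext fun p => by
      have hp : e.hom (e.inv p) = p := by rw [← Scheme.Hom.comp_apply, e.inv_hom_id]; rfl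
      have hx := pullFun_iso_comp e (pullback.fst h s.f') δP t.δY' r ⇑α (e.inv p)
      rw [hδP, hpb.isoPullback_hom_fst, hp] at hx
      rw [← hx, ← hβ, ← hA, hp]
    have e2 := Cyc26.pullFun_map_eq h s.f' (F s).dimX (deltaCompat_of_over h w₁).2 hsnd (hshift s) α hα A hA'
    refine hφ s k _ _ _ ?_ _
    rw [e2]
    refine congrArg DFunLike.coe ?_
    rw [← map_iso_comp e (pullback.snd h s.f') δP s.δX' β A hA, hδP]
    congr 1
    exact hpb.isoPullback_hom_snd.symm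
  · intro s t h _ h' _ m hm hm' w₁ w₂ w₃ k α hα
    haveI := (F s).flat
    haveI := (F t).flat
    haveI := (F s).lftf
    haveI := (F t).lftf
    haveI := (F t).noethX
    obtain ⟨hhl, hhc⟩ := deltaCompat_of_over h w₁
    obtain ⟨hh'l, hh'c⟩ := deltaCompat_of_over' h' w₃
    obtain ⟨β, hβm, hβ⟩ := hcyc s k α hα
    refine ⟨β, hβm, hφ s k α hα β hβ hβm, fun α₁ h₁ hα₁ => ?_⟩
    obtain ⟨β₁, hβ₁⟩ := Cyc26.exists_cycle_pullFun h' (F t).dimX (Cyc26.shift_of_hasRelDim h' hm' hh'c) β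
    have hmem : β₁ ∈ Cyc.Zk t.X' t.δX' (k + m - -(r : ℤ)) := by
      rw [show k + (m : ℤ) - -(r : ℤ) = k - -(r : ℤ) + m by ring]
      exact Cyc26.pullFun_mem_Zk h' hβm hβ₁
    refine ⟨β₁, hmem, hβ₁, hφ t _ α₁ hα₁ β₁ ?_ hmem⟩
    rw [hβ₁, hβ, h₁, Cyc26.pullFun_comp (f := h') (g := s.f') hm' (F s).rel hh'c (F s).comp,
      Cyc26.pullFun_comp (f := t.f') (g := h) (F t).rel hm (F t).comp hhc, add_comm (m : ℤ) r, w₂]
  · intro s t i _ j _ w₁ w₂ w₃ L hL σ hσ τ hτ k α hα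
    haveI := (F s).flat
    haveI := (F s).lftf
    haveI := (F s).noethY
    haveI := (F s).noethX
    haveI := (F t).noethX
    obtain ⟨β, hβm, hβ⟩ := hcyc s k α hα
    refine ⟨β, hβm, hφ s k α hα β hβ hβm, fun w hw γ hγ hγm w' hw' => ?_⟩
    have hM := Groth.Agent.Twist.isInvertible_pullback s.f' hL
    obtain ⟨C, hC⟩ := Cyc26.exists_cycle_c1Cap hM (F s).dimX β (Cyc26.gysinChoice_ne_zero τ hw')
    obtain ⟨ζ, hζ⟩ := Cyc26.exists_cycle_restrict j C
    have hjd := delta_eq_comp (deltaCompat_of_over' j w₃).2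
    have hid := delta_eq_comp (deltaCompat_of_over i w₁).2
    have hCm : C ∈ Cyc.Zk s.X' s.δX' (k - 1 - -(r : ℤ)) := by
      refine Cyc26.c1Cap_mem_Zk (α := β) ?_ hC
      rwa [show k - 1 - -(r : ℤ) + 1 = k - -(r : ℤ) by ring]
    have hζm : ζ ∈ Cyc.Zk t.X' t.δX' (k - 1 - -(r : ℤ)) := fun x hx => by
      rw [hζ]
      exact hCm _ (by rwa [hjd] at hx)
    refine ⟨ζ, hζm, fun x => by rw [hζ, hC], ?_⟩
    obtain ⟨ζ₂, hζ₂m, hζ₂⟩ := hcyc t (k - 1) γ hγm
    rw [hφ t (k - 1) γ hγm ζ₂ hζ₂ hζ₂m]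
    refine (cl_eq_of_ratEquiv hζm hζ₂m ?_).symm
    have hpb := (isPullback_of_over i j w₁ w₂ w₃).flip
    let e := hpb.isoPullback
    have hτ' : Cyc.IsZeroSchemeOf (pullback.fst s.f' i) ((Scheme.Modules.pullback s.f').obj L) τ := by
      have h := isZeroSchemeOf_iso_comp e.symm hτ
      rwa [show e.symm.hom ≫ j = pullback.fst s.f' i from hpb.isoPullback_inv_fst] at h
    obtain ⟨A₁, hA₁⟩ := exists_cycle_comp_inv e ζ
    obtain ⟨A₂, hA₂⟩ := exists_cycle_comp_inv e ζ₂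
    let δP : ↥(pullback s.f' i) → ℤ := fun p => s.δX' (pullback.fst s.f' i p)
    have hδP : (fun x => δP (e.hom x)) = t.δX' := by
      rw [hjd]
      funext x
      show s.δX' ((e.hom ≫ pullback.fst s.f' i) x) = _
      rw [hpb.isoPullback_hom_fst]
    haveI : IsLocallyNoetherian (pullback s.f' i : Scheme.{u}) :=
      LocallyOfFiniteType.isLocallyNoetherian (pullback.fst s.f' i)
    have hγ' : (fun d => Cyc.c1CapFun s.δY' L ⇑α (Cyc.gysinChoice L σ w) (i d)) = ⇑γ := funext fun d => (hγ d).symm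
    have key := Cyc26.gysin_pullFun (k := k - 1) s.f' (F s).dimX (F s).dimY (hshift s) hL i hσ hτ'
      (show α ∈ Cyc.Zk s.Y' s.δY' (k - 1 + 1) by rwa [sub_add_cancel]) hw hw' (ζ₁ := A₁) (ζ₂ := A₂)
      (fun p => ?_) ?_
    · have := ratEquiv_iso e (δP := δP) (Cyc26.isDimFun_closed (pullback.fst s.f' i) (F s).dimX) hA₁ hA₂ key
      rwa [hδP, ← sub_neg_eq_add] at this
    · have hp : e.hom (e.inv p) = p := by rw [← Scheme.Hom.comp_apply, e.inv_hom_id]; rfl
      rw [← hβ, ← hC]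
      conv_lhs => rw [← hp, hA₁, hζ]
      rw [← Scheme.Hom.comp_apply, hpb.isoPullback_inv_fst]
    · rw [hγ']
      funext p
      have hp : e.hom (e.inv p) = p := by rw [← Scheme.Hom.comp_apply, e.inv_hom_id]; rfl
      have hx := pullFun_iso_comp e (pullback.snd s.f' i) δP t.δY' r ⇑γ (e.inv p)
      rw [hδP, hpb.isoPullback_hom_snd, hp] at hx
      show A₂ p = Cyc.pullFun (pullback.snd s.f' i) δP (fun d => s.δY' (i d)) r ⇑γ p
      rw [← hid, ← hx, ← hζ₂, ← hA₂, hp]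

end Groth.Agent.Bivar12
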