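import Groth.Agent.Lib.Bivar12.Taut
import Groth.Agent.Lib.Bivar12.C1Class
import Groth.Agent.Lib.Bivar12.FlatClass
import Groth.Agent.Lib.Bivar12.PushMap

/-!
# The first Chern class commutes with bivariant classes
-/

set_option autoImplicit false
universe u
set_option linter.style.haveILetI false
set_option backward.isDefEq.respectTransparency false
set_option backward.isDefEq.respectTransparency.types false

open CategoryTheory CategoryTheory.Limits AlgebraicGeometry TopologicalSpace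

noncomputable section

namespace Groth.Agent.Bivar12

theorem ratEquiv_of_cl_eq {X : Scheme.{u}} [IsLocallyNoetherian X] {δ : X → ℤ} {k : ℤ} {a b : AlgebraicCycle X ℤ}
    {ha : a ∈ Cyc.Zk X δ k} {hb : b ∈ Cyc.Zk X δ k} (h : ChowOps.cl a ha = ChowOps.cl b hb) :
    Cyc.RatEquiv δ k a b := by
  have hmem := (QuotientAddGroup.eq_iff_sub_mem (N := ChowOps.ratTriv X δ k)).1 h
  refine AddSubgroup.closure_induction (p := fun c _ => Cyc.RatEquivZero δ k c.1) (fun c hc => hc) ?_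
    (fun c d _ _ hc hd => ?_) (fun c _ hc => ?_) hmem
  · exact Cyc26.ratEquivZero_iff.2 (Cyc26.RatFun.zero fun _ => rfl)
  · exact Cyc26.ratEquivZero_iff.2 (((Cyc26.ratEquivZero_iff.1 hc).add (Cyc26.ratEquivZero_iff.1 hd)).congr fun _ => rfl)
  · exact Cyc26.ratEquivZero_iff.2 ((Cyc26.ratEquivZero_iff.1 hc).neg.congr fun _ => rfl)

/-- The Gysin map of a zero scheme after pushforward to the ambient scheme is the first Chern class. -/
theorem cl_gysin_map {Y V : Scheme.{u}} [IsLocallyNoetherian Y] [IsLocallyNoetherian V] (z : Y ⟶ V) [IsClosedImmersion z]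
    {δY : Y → ℤ} {δV : V → ℤ} (hdY : Cyc.IsDimFun Y δY) (hdV : Cyc.IsDimFun V δV) (hc : Cyc.DeltaCompat z δY δV)
    {M : V.Modules} (hM : PicF.IsInvertible M) {σ : M.presheaf.obj (Opposite.op ⊤)} (hσ : Cyc.IsZeroSchemeOf z M σ)
    {N : Y.Modules} (e : (Scheme.Modules.pullback z).obj M ≅ N) {k : ℤ} {α : AlgebraicCycle Y ℤ}
    (hα : α ∈ Cyc.Zk Y δY k) {a : AlgebraicCycle V ℤ} (ha : a ∈ Cyc.Zk V δV k)
    (he : ChowOps.cl a ha = ChowOps.cl (AlgebraicCycle.map z δY δV α) (Bivar.cycMap_mem_Zk z δY δV k hα))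
    {w : (ξ : V) → Cyc.secFibre M ξ} (hw : ∀ ξ, w ξ ≠ 0) {ζ : AlgebraicCycle Y ℤ}
    (hζ : ∀ d, ζ d = Cyc.c1CapFun δV M ⇑a (Cyc.gysinChoice M σ w) (z d))
    {v : (ξ : Y) → Cyc.secFibre N ξ} (hv : ∀ ξ, v ξ ≠ 0) {η : AlgebraicCycle Y ℤ}
    (hη : ⇑η = Cyc.c1CapFun δY N ⇑α v) {l : ℤ} (hl : l = k - 1) (hζm : ζ ∈ Cyc.Zk Y δY l)
    (hηm : η ∈ Cyc.Zk Y δY l) : ChowOps.cl ζ hζm = ChowOps.cl η hηm := by
  subst hl
  have hδY := delta_eq_comp hc
  set a₀ := AlgebraicCycle.map z δY δV α with ha₀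
  have hzM := Groth.Agent.Twist.isInvertible_pullback z hM
  have hu : ∀ ξ, Cyc26.secPull z M ξ (w (z ξ)) ≠ 0 := fun ξ => Cyc26.secPull_ne_zero z hM ξ (hw _)
  have hαk : α ∈ Cyc.Zk Y δY (k - 1 + 1) := by rwa [sub_add_cancel]
  obtain ⟨A, hA⟩ := Cyc26.exists_cycle_c1Cap hzM hdY α hu
  have hAm : A ∈ Cyc.Zk Y δY (k - 1) := Cyc26.c1Cap_mem_Zk hαk hA
  refine (Eq.trans ?_ (cl_eq_of_ratEquiv hAm hηm ?_))
  swap
  · have hN : Cyc.c1CapFun δY N ⇑α (fun ξ => fibLin e.hom ξ (Cyc26.secPull z M ξ (w (z ξ)))) = ⇑A := by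
      rw [hA, c1CapFun_moduleIso e hzM δY ⇑α hu]
    exact Cyc26.ratEquiv_c1Cap (Groth.Agent.Twist.isInvertible_of_iso e hzM) hαk
      (fun ξ => fibLin_ne_zero e ξ (hu ξ)) hv hN.symm hη
  refine cl_eq_of_ratEquiv _ _ ?_
  -- the cycle `A` is the Gysin cycle of the pushforward
  have hoff : ∀ ξ, ξ ∉ Set.range z → a₀ ξ = 0 := fun ξ hξ => by
    rw [ha₀, Cyc26.map_apply_eq_sum z δY δV α ξ ∅ (fun x hx => absurd hx (Finset.notMem_empty x))
      (fun x hx _ _ => absurd ⟨x, hx⟩ hξ), Finset.sum_empty]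
  have hgys : Cyc.c1CapFun δV M ⇑a₀ (Cyc.gysinChoice M σ w) = Cyc.c1CapFun δV M ⇑a₀ w := funext fun x => by
    refine finsum_congr fun ξ => ?_
    by_cases hξ : ξ ∈ Set.range z
    · obtain ⟨y, rfl⟩ := hξ
      rw [Cyc26.gysinChoice_of_mem hσ w y]
    · rw [hoff ξ hξ, zero_mul, zero_mul]
  have hmapA : ∀ d, AlgebraicCycle.map z δY δV A (z d) = A d := fun d => by
    rw [Cyc26.map_apply_eq_sum z δY δV A _ {d} (fun x hx => by rw [Finset.mem_singleton.1 hx])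
      (fun x hx _ _ => Finset.mem_singleton.2 (z.isClosedEmbedding.injective hx)), Finset.sum_singleton]
    unfold AlgebraicCycle.mapCoeff
    rw [if_pos (congrFun hδY d), residueDegree_eq_one_of_surjectiveOnStalks' z, Nat.cast_one, mul_one]
  have hAval : ∀ d, A d = Cyc.c1CapFun δV M ⇑a₀ (Cyc.gysinChoice M σ w) (z d) := fun d => by
    rw [hgys, ← Cyc26.map_c1Cap_secPull z hdY hdV hc hM α w hw A hA, hmapA]
  have hd0 : Cyc.RatEquivZero δV (k - 1 + 1) (a - a₀) := by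
    rw [sub_add_cancel]; exact ratEquiv_of_cl_eq he
  have key := Cyc26.gysin_ratEquivZero hdV hM z hσ hd0 hw (γ := ζ - A) fun d => by
    have hsum := Bivar.c1CapFun_add δV M (a - a₀) a₀ (Cyc.gysinChoice M σ w)
    rw [← Function.locallyFinsuppWithin.coe_add, sub_add_cancel] at hsum
    show ζ d - A d = _
    rw [hζ, hAval, congrFun hsum (z d), Pi.add_apply, add_sub_cancel_right]
  rwa [← hδY] at key

variable {X X' : Scheme.{u}} {δX : X → ℤ} {δX' : X' → ℤ}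

/-- A bivariant class commutes with the first Chern class of a module on a test scheme. -/
theorem cl_op_c1 {f : X' ⟶ X} {p : ℤ} (c : Bivar.Cl p f δX' δX) (hX : Cyc.IsSetup X δX) (hX' : Cyc.IsSetup X' δX')
    (s : Bivar.Sq f δX' δX) {L : s.Y'.Modules} (hL : PicF.IsInvertible L) {k : ℤ} {α : AlgebraicCycle s.Y' ℤ}
    (hα : α ∈ Cyc.Zk s.Y' s.δY' k) {β : AlgebraicCycle s.X' ℤ} (hβ : β ∈ Cyc.Zk s.X' s.δX' (k - p))
    (hαβ : c.op s k (ChowOps.cl α hα) = ChowOps.cl β hβ) {v : (ξ : s.Y') → Cyc.secFibre L ξ} (hv : ∀ ξ, v ξ ≠ 0)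
    {γ : AlgebraicCycle s.Y' ℤ} (hγ : ⇑γ = Cyc.c1CapFun s.δY' L ⇑α v) (hγm : γ ∈ Cyc.Zk s.Y' s.δY' (k - 1))
    {v' : (ξ : s.X') → Cyc.secFibre ((Scheme.Modules.pullback s.f').obj L) ξ} (hv' : ∀ ξ, v' ξ ≠ 0)
    {η : AlgebraicCycle s.X' ℤ} (hη : ⇑η = Cyc.c1CapFun s.δX' ((Scheme.Modules.pullback s.f').obj L) ⇑β v')
    (hηm : η ∈ Cyc.Zk s.X' s.δX' (k - 1 - p)) :
    c.op s (k - 1) (ChowOps.cl γ hγm) = ChowOps.cl η hηm := by
  haveI := hX.1
  haveI := hX'.1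
  haveI := s.lft
  haveI hlg : LocallyOfFiniteType s.g' :=
    MorphismProperty.of_isPullback (P := @LocallyOfFiniteType) s.isPullback s.lft
  obtain ⟨V, π, hπ, z, hzc, σ, hzπ, hσ⟩ := exists_taut hL
  haveI := hπ
  haveI := hzc
  obtain ⟨δV, hδV⟩ := exists_deltaCompat π s.δY'
  obtain ⟨δW, hδW⟩ := exists_deltaCompat (pullback.snd π s.f') s.δX'
  let t : Bivar.Sq f δX' δX :=
    ⟨V, pullback π s.f', π ≫ s.g, pullback.fst π s.f', pullback.snd π s.f' ≫ s.g',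
      (IsPullback.of_hasPullback π s.f').paste_vert s.isPullback, inferInstance, δV, δW,
      Bivar.deltaCompat_comp π s.g _ _ _ hδV s.compatY, Bivar.deltaCompat_comp _ s.g' _ _ _ hδW s.compatX⟩
  let z' : s.X' ⟶ pullback π s.f' :=
    pullback.lift (s.f' ≫ z) (𝟙 _) (by rw [Category.assoc, hzπ, Category.comp_id, Category.id_comp])
  have e₁ : z' ≫ pullback.fst π s.f' = s.f' ≫ z := pullback.lift_fst _ _ _
  have e₂ : z' ≫ pullback.snd π s.f' = 𝟙 _ := pullback.lift_snd _ _ _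
  have w₁ : z ≫ π ≫ s.g = s.g := by rw [← Category.assoc, hzπ, Category.id_comp]
  have w₃ : z' ≫ pullback.snd π s.f' ≫ s.g' = s.g' := by rw [← Category.assoc, e₂, Category.id_comp]
  have hpb : IsPullback s.f' z' z (pullback.fst π s.f') := isPullback_of_over (s := t) (t := s) z z' w₁ e₁ w₃
  haveI : IsClosedImmersion z' := MorphismProperty.of_isPullback (P := @IsClosedImmersion) hpb hzc
  haveI : IsLocallyNoetherian V := LocallyOfFiniteType.isLocallyNoetherian (π ≫ s.g)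
  haveI : IsLocallyNoetherian s.Y' := LocallyOfFiniteType.isLocallyNoetherian s.g
  haveI : IsLocallyNoetherian s.X' := LocallyOfFiniteType.isLocallyNoetherian s.g'
  haveI : IsLocallyNoetherian (pullback π s.f' : Scheme.{u}) :=
    LocallyOfFiniteType.isLocallyNoetherian (pullback.snd π s.f' ≫ s.g')
  have hdV := UCat26.isDimFun_of_deltaCompat (π ≫ s.g) hX.2.1 hX.2.2 t.compatY
  have hdY := UCat26.isDimFun_of_deltaCompat s.g hX.2.1 hX.2.2 s.compatY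
  have hdW := UCat26.isDimFun_of_deltaCompat (pullback.snd π s.f' ≫ s.g') hX'.2.1 hX'.2.2 t.compatX
  have hdX := UCat26.isDimFun_of_deltaCompat s.g' hX'.2.1 hX'.2.2 s.compatX
  let M := (Scheme.Modules.pullback π).obj L
  have hM : PicF.IsInvertible M := Groth.Agent.Twist.isInvertible_pullback π hL
  let N := (Scheme.Modules.pullback (pullback.fst π s.f')).obj M
  have hN : PicF.IsInvertible N := Groth.Agent.Twist.isInvertible_pullback _ hM
  have hτ : Cyc.IsZeroSchemeOf z' N (Groth.Agent.M2.pullSec (pullback.fst π s.f') M σ) :=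
    isZeroSchemeOf_pullback _ hpb.flip hM hσ
  let e : (Scheme.Modules.pullback z).obj M ≅ L :=
    (Scheme.Modules.pullbackComp z π).app L ≪≫ (Scheme.Modules.pullbackCongr hzπ).app L ≪≫
      (Scheme.Modules.pullbackId s.Y').app L
  let e' : (Scheme.Modules.pullback z').obj N ≅ (Scheme.Modules.pullback s.f').obj L :=
    (Scheme.Modules.pullbackComp z' (pullback.fst π s.f')).app M ≪≫ (Scheme.Modules.pullbackCongr e₁).app M ≪≫
      ((Scheme.Modules.pullbackComp s.f' z).app M).symm ≪≫ (Scheme.Modules.pullback s.f').mapIso e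
  have hcz := (deltaCompat_of_over (s := t) (t := s) z w₁).2
  have hcz' := (deltaCompat_of_over' (s := t) (t := s) z' w₃).2
  obtain ⟨β₀, hβ₀, eb, eb'⟩ := c.push t s z z' w₁ e₁ w₃ k α hα
  have hmem := Bivar.cycMap_mem_Zk z s.δY' δV k hα
  obtain ⟨β₁, hβ₁, eb₁, H⟩ := c.gysin t s z z' w₁ e₁ w₃ M hM σ hσ _ hτ k _ hmem
  obtain ⟨w, hw⟩ := Cyc26.exists_sections hM
  obtain ⟨w', hw'⟩ := Cyc26.exists_sections hN
  obtain ⟨C, hC⟩ := Cyc26.exists_cycle_c1Cap hM hdV (AlgebraicCycle.map z s.δY' δV α)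
    (Cyc26.gysinChoice_ne_zero σ hw)
  obtain ⟨G, hG⟩ := Cyc26.exists_cycle_restrict z C
  have hGm : G ∈ Cyc.Zk s.Y' s.δY' (k - 1) := fun x hx => by
    rw [hG]
    refine Cyc26.c1Cap_mem_Zk (k := k - 1) (α := AlgebraicCycle.map z s.δY' δV α) ?_ hC (z x) ?_
    · rwa [sub_add_cancel]
    · rwa [delta_eq_comp hcz] at hx
  obtain ⟨ζ, hζm, hζ, eζ⟩ := H w hw G (fun x => by rw [hG, hC]) hGm w' hw'
  rw [← cl_gysin_map z hdY hdV hcz hM hσ e hα hmem rfl hw (fun x => by rw [hG, hC]) hv hγ rfl hGm hγm, eζ]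
  obtain ⟨η₀, hη₀⟩ := Cyc26.exists_cycle_c1Cap (Groth.Agent.Twist.isInvertible_pullback s.f' hL) hdX β₀ hv'
  have hη₀m : η₀ ∈ Cyc.Zk s.X' s.δX' (k - 1 - p) := Cyc26.c1Cap_mem_Zk (by
    rwa [show k - 1 - p + 1 = k - p by ring]) hη₀
  refine (cl_gysin_map z' hdX hdW hcz' hN hτ e' hβ₀ hβ₁ (eb₁.symm.trans eb') hw' hζ hv' hη₀
    (sub_right_comm k 1 p) hζm hη₀m).trans ?_
  refine cl_eq_of_ratEquiv _ _ ?_
  have hk1 : ∀ a : AlgebraicCycle s.X' ℤ, a ∈ Cyc.Zk s.X' s.δX' (k - p) → a ∈ Cyc.Zk s.X' s.δX' (k - 1 - p + 1) :=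
    fun a ha => by rwa [show k - 1 - p + 1 = k - p by ring]
  have hd0 : Cyc.RatEquivZero s.δX' (k - 1 - p + 1) (β₀ - β) := by
    rw [show k - 1 - p + 1 = k - p by ring]
    exact ratEquiv_of_cl_eq (eb.symm.trans hαβ)
  refine Cyc26.c1Cap_ratEquivZero hdX (Groth.Agent.Twist.isInvertible_pullback s.f' hL) hd0 hv' ?_
  have hsum := Bivar.c1CapFun_add s.δX' ((Scheme.Modules.pullback s.f').obj L) (β₀ - β) β v'
  rw [← Function.locallyFinsuppWithin.coe_add, sub_add_cancel] at hsum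
  funext x
  show η₀ x - η x = _
  rw [hη₀, hη, congrFun hsum x, Pi.add_apply, add_sub_cancel_right]

/-- An operational class commutes with the first Chern class of a module on a test scheme. -/
theorem opCl_op_c1 {q : ℤ} (d : Bivar.OpCl q X δX) (hX : Cyc.IsSetup X δX) (s : Bivar.OSq X δX) {L : s.Y.Modules}
    (hL : PicF.IsInvertible L) {k : ℤ} {α : AlgebraicCycle s.Y ℤ} (hα : α ∈ Cyc.Zk s.Y s.δ k)
    {β : AlgebraicCycle s.Y ℤ} (hβ : β ∈ Cyc.Zk s.Y s.δ (k - q))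
    (hαβ : d.op s k (ChowOps.cl α hα) = ChowOps.cl β hβ) {v : (ξ : s.Y) → Cyc.secFibre L ξ} (hv : ∀ ξ, v ξ ≠ 0)
    {γ : AlgebraicCycle s.Y ℤ} (hγ : ⇑γ = Cyc.c1CapFun s.δ L ⇑α v) (hγm : γ ∈ Cyc.Zk s.Y s.δ (k - 1))
    {η : AlgebraicCycle s.Y ℤ} (hη : ⇑η = Cyc.c1CapFun s.δ L ⇑β v)
    (hηm : η ∈ Cyc.Zk s.Y s.δ (k - 1 - q)) :
    d.op s (k - 1) (ChowOps.cl γ hγm) = ChowOps.cl η hηm := by
  haveI := hX.1
  haveI := s.lft
  obtain ⟨V, π, hπ, z, hzc, σ, hzπ, hσ⟩ := exists_taut hL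
  haveI := hπ
  haveI := hzc
  obtain ⟨δV, hδV⟩ := exists_deltaCompat π s.δ
  let t : Bivar.OSq X δX := ⟨V, π ≫ s.g, inferInstance, δV, Bivar.deltaCompat_comp π s.g _ _ _ hδV s.compat⟩
  have w₁ : z ≫ π ≫ s.g = s.g := by rw [← Category.assoc, hzπ, Category.id_comp]
  haveI : IsLocallyNoetherian V := LocallyOfFiniteType.isLocallyNoetherian (π ≫ s.g)
  haveI : IsLocallyNoetherian s.Y := LocallyOfFiniteType.isLocallyNoetherian s.g
  have hdV := UCat26.isDimFun_of_deltaCompat (π ≫ s.g) hX.2.1 hX.2.2 t.compat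
  have hdY := UCat26.isDimFun_of_deltaCompat s.g hX.2.1 hX.2.2 s.compat
  let M := (Scheme.Modules.pullback π).obj L
  have hM : PicF.IsInvertible M := Groth.Agent.Twist.isInvertible_pullback π hL
  let e : (Scheme.Modules.pullback z).obj M ≅ L :=
    (Scheme.Modules.pullbackComp z π).app L ≪≫ (Scheme.Modules.pullbackCongr hzπ).app L ≪≫
      (Scheme.Modules.pullbackId s.Y).app L
  have hcz : Cyc.DeltaCompat z s.δ δV := by
    refine deltaCompat_cancel z (π ≫ s.g) t.compat ?_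
    rw [w₁]; exact s.compat
  obtain ⟨β₀, hβ₀, eb, eb'⟩ := d.push t s z w₁ k α hα
  have hmem := Bivar.cycMap_mem_Zk z s.δ δV k hα
  obtain ⟨β₁, hβ₁, eb₁, H⟩ := d.gysin t s z w₁ M hM σ hσ k _ hmem
  obtain ⟨w, hw⟩ := Cyc26.exists_sections hM
  obtain ⟨C, hC⟩ := Cyc26.exists_cycle_c1Cap hM hdV (AlgebraicCycle.map z s.δ δV α) (Cyc26.gysinChoice_ne_zero σ hw)
  obtain ⟨G, hG⟩ := Cyc26.exists_cycle_restrict z C
  have hGm : G ∈ Cyc.Zk s.Y s.δ (k - 1) := fun x hx => by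
    rw [hG]
    refine Cyc26.c1Cap_mem_Zk (k := k - 1) (α := AlgebraicCycle.map z s.δ δV α) ?_ hC (z x) ?_
    · rwa [sub_add_cancel]
    · rwa [delta_eq_comp hcz] at hx
  obtain ⟨ζ, hζm, hζ, eζ⟩ := H w hw G (fun x => by rw [hG, hC]) hGm
  rw [← cl_gysin_map z hdY hdV hcz hM hσ e hα hmem rfl hw (fun x => by rw [hG, hC]) hv hγ rfl hGm hγm, eζ]
  obtain ⟨η₀, hη₀⟩ := Cyc26.exists_cycle_c1Cap hL hdY β₀ hv
  have hη₀m : η₀ ∈ Cyc.Zk s.Y s.δ (k - 1 - q) := Cyc26.c1Cap_mem_Zk (by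
    rwa [show k - 1 - q + 1 = k - q by ring]) hη₀
  refine (cl_gysin_map z hdY hdV hcz hM hσ e hβ₀ hβ₁ (eb₁.symm.trans eb') hw hζ hv hη₀
    (sub_right_comm k 1 q) hζm hη₀m).trans ?_
  refine cl_eq_of_ratEquiv _ _ ?_
  have hd0 : Cyc.RatEquivZero s.δ (k - 1 - q + 1) (β₀ - β) := by
    rw [show k - 1 - q + 1 = k - q by ring]
    exact ratEquiv_of_cl_eq (eb.symm.trans hαβ)
  refine Cyc26.c1Cap_ratEquivZero hdY hL hd0 hv ?_
  have hsum := Bivar.c1CapFun_add s.δ L (β₀ - β) β v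
  rw [← Function.locallyFinsuppWithin.coe_add, sub_add_cancel] at hsum
  funext x
  show η₀ x - η x = _
  rw [hη₀, hη, congrFun hsum x, Pi.add_apply, add_sub_cancel_right]

end Groth.Agent.Bivar12
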