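import Groth.Prelude.Def_Bivar2
import Groth.Prelude.Def_W4stkchowintpicEnv
import Groth.Agent.Lib.Cyc26.PushRat
import Groth.Agent.Lib.UCat26.DimFun

/-!
# Bivariant classes and envelopes
-/

set_option autoImplicit false
universe u
set_option linter.style.haveILetI false
set_option backward.isDefEq.respectTransparency false

open CategoryTheory CategoryTheory.Limits AlgebraicGeometry TopologicalSpace

noncomputable section

namespace Groth.Agent.Bivar12

variable {X Y Z : Scheme.{u}}

/-- The induced dimension function along a morphism locally of finite type. -/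
theorem exists_deltaCompat {Y S : Scheme.{u}} (g : Y ⟶ S) [LocallyOfFiniteType g] (δS : S → ℤ) :
    ∃ δY : Y → ℤ, Cyc.DeltaCompat g δY δS := by
  have key : ∀ y : Y, ∃ n : ℕ, (letI := (g.residueFieldMap y).hom.toAlgebra
      Algebra.trdeg (S.residueField (g y)) (Y.residueField y)) = n := by
    intro y
    letI := (g.residueFieldMap y).hom.toAlgebra
    letI : Algebra (S.presheaf.stalk (g y)) (Y.presheaf.stalk y) := (g.stalkMap y).hom.toAlgebra
    letI : Algebra (S.presheaf.stalk (g y)) (Y.residueField y) :=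
      ((Y.residue y).hom.comp (g.stalkMap y).hom).toAlgebra
    letI : Algebra (Y.presheaf.stalk y) (Y.residueField y) := (Y.residue y).hom.toAlgebra
    letI : Algebra (S.presheaf.stalk (g y)) (S.residueField (g y)) := (S.residue (g y)).hom.toAlgebra
    haveI : IsScalarTower (S.presheaf.stalk (g y)) (Y.presheaf.stalk y) (Y.residueField y) :=
      IsScalarTower.of_algebraMap_eq fun _ => rfl
    haveI : IsScalarTower (S.presheaf.stalk (g y)) (S.residueField (g y)) (Y.residueField y) :=
      IsScalarTower.of_algebraMap_eq fun a => congrArg (fun φ => φ a)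
        (congrArg CommRingCat.Hom.hom (Scheme.residue_residueFieldMap g y).symm)
    haveI : Algebra.EssFiniteType (S.presheaf.stalk (g y)) (Y.presheaf.stalk y) :=
      LocallyOfFiniteType.stalkMap g y
    haveI : Algebra.EssFiniteType (Y.presheaf.stalk y) (Y.residueField y) :=
      Algebra.EssFiniteType.of_surjective (Algebra.ofId _ _) IsLocalRing.residue_surjective
    haveI := Algebra.EssFiniteType.comp (S.presheaf.stalk (g y)) (Y.presheaf.stalk y) (Y.residueField y)
    haveI := Algebra.EssFiniteType.of_comp (S.presheaf.stalk (g y)) (S.residueField (g y)) (Y.residueField y)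
    exact Cardinal.lt_aleph0.1 (_root_.trdeg_lt_aleph0 _ _)
  choose n hn using key
  exact ⟨fun y => δS (g y) + n y, fun y => ⟨n y, hn y, rfl⟩⟩


theorem deltaCompat_unique {f : X ⟶ Y} {δ δ' : X → ℤ} {δY : Y → ℤ} (h : Cyc.DeltaCompat f δ δY)
    (h' : Cyc.DeltaCompat f δ' δY) : δ = δ' := by
  funext x
  obtain ⟨n, hn, e⟩ := h x
  obtain ⟨m, hm, e'⟩ := h' x
  rw [hn, Nat.cast_inj] at hm
  omega

/-- Cancellation of induced dimension functions. -/
theorem deltaCompat_cancel (f : X ⟶ Y) [LocallyOfFiniteType f] (g : Y ⟶ Z) {δX : X → ℤ} {δY : Y → ℤ} {δZ : Z → ℤ}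
    (hg : Cyc.DeltaCompat g δY δZ) (hfg : Cyc.DeltaCompat (f ≫ g) δX δZ) : Cyc.DeltaCompat f δX δY := by
  obtain ⟨δ', h'⟩ := exists_deltaCompat f δY
  rwa [deltaCompat_unique hfg (Bivar.deltaCompat_comp f g δ' δY δZ h' hg)]

theorem residueDegree_eq_one_of_surjectiveOnStalks' (g : X ⟶ Y) [SurjectiveOnStalks g] (z : X) :
    g.residueDegree z = 1 := by
  have hsurj : Function.Surjective (g.residueFieldMap z) := by
    intro b
    obtain ⟨b, rfl⟩ := Scheme.residue_surjective X z b
    obtain ⟨a, rfl⟩ := g.stalkMap_surjective z b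
    exact ⟨Y.residue _ a, ConcreteCategory.congr_hom (Scheme.residue_residueFieldMap g z) a⟩
  letI := (g.residueFieldMap z).hom.toAlgebra
  exact (LinearEquiv.ofBijective (Algebra.linearMap _ (X.residueField z))
    ⟨(g.residueFieldMap z).hom.injective, hsurj⟩).finrank_eq.symm.trans (Module.finrank_self _)

theorem residueDegree_comp' (p : X ⟶ Y) (q : Y ⟶ Z) (x : X) :
    (p ≫ q).residueDegree x = q.residueDegree (p x) * p.residueDegree x := by
  letI := (p.residueFieldMap x).hom.toAlgebra
  letI := (q.residueFieldMap (p x)).hom.toAlgebra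
  letI : Algebra (Z.residueField (q (p x))) (X.residueField x) :=
    ((q.residueFieldMap (p x) ≫ p.residueFieldMap x).hom).toAlgebra
  haveI : IsScalarTower (Z.residueField (q (p x))) (Y.residueField (p x)) (X.residueField x) :=
    IsScalarTower.of_algebraMap_eq fun _ => rfl
  have h := Module.finrank_mul_finrank (Z.residueField (q (p x))) (Y.residueField (p x)) (X.residueField x)
  refine Eq.trans ?_ h.symm
  show @Module.finrank _ (X.residueField x) _ _
    ((p ≫ q).residueFieldMap x).hom.toAlgebra.toModule = _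
  rw [Scheme.residueFieldMap_comp]
  rfl

theorem delta_eq_of_residueDegree_one {f : X ⟶ Y} {δX : X → ℤ} {δY : Y → ℤ} (hc : Cyc.DeltaCompat f δX δY) {x : X}
    (h : f.residueDegree x = 1) : δX x = δY (f x) := by
  obtain ⟨n, hn, he⟩ := hc x
  letI := (f.residueFieldMap x).hom.toAlgebra
  have h1 : Module.finrank (Y.residueField (f x)) (X.residueField x) = 1 := h
  haveI : Module.Finite (Y.residueField (f x)) (X.residueField x) := Module.finite_of_finrank_pos (by omega)
  have : Algebra.IsAlgebraic (Y.residueField (f x)) (X.residueField x) := Algebra.IsAlgebraic.of_finite _ _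
  rw [trdeg_eq_zero, eq_comm, Nat.cast_eq_zero] at hn
  omega

/-- Completely decomposed morphisms stay so after base change. -/
theorem exists_point_residueDegree_one {Y₀ S : Scheme.{u}} (g₀ : Y₀ ⟶ Y) (g : S ⟶ Y)
    (h₀ : Cyc.IsCompletelyDecomposed g₀) (y : S) :
    ∃ t : (pullback g₀ g : Scheme.{u}), pullback.snd g₀ g t = y ∧ (pullback.snd g₀ g).residueDegree t = 1 := by
  obtain ⟨z, hz, hsurj⟩ := h₀ (g y)
  haveI : IsIso (g₀.residueFieldMap z) :=
    (ConcreteCategory.isIso_iff_bijective _).2 ⟨(g₀.residueFieldMap z).hom.injective, hsurj⟩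
  let φ : Y₀.residueField z ⟶ S.residueField y :=
    inv (g₀.residueFieldMap z) ≫ (Y.residueFieldCongr hz).hom ≫ g.residueFieldMap y
  have e : (Spec.map φ ≫ Y₀.fromSpecResidueField z) ≫ g₀ = S.fromSpecResidueField y ≫ g := by
    rw [Category.assoc, ← Scheme.Hom.SpecMap_residueFieldMap_fromSpecResidueField, ← Spec.map_comp_assoc]
    simp only [φ, IsIso.hom_inv_id_assoc, Spec.map_comp, Category.assoc,
      Scheme.residueFieldCongr_fromSpecResidueField, Scheme.Hom.SpecMap_residueFieldMap_fromSpecResidueField]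
  let a := pullback.lift (f := g₀) (g := g) (Spec.map φ ≫ Y₀.fromSpecResidueField z) (S.fromSpecResidueField y) e
  let pt : Spec (S.residueField y) := IsLocalRing.closedPoint (S.residueField y)
  have ha : a ≫ pullback.snd g₀ g = S.fromSpecResidueField y := pullback.lift_snd _ _ _
  refine ⟨a pt, ?_, ?_⟩
  · rw [← Scheme.Hom.comp_apply, ha]
    exact Scheme.fromSpecResidueField_apply _ _
  · have h1 : (a ≫ pullback.snd g₀ g).residueDegree pt = 1 := by
      rw [ha]; exact residueDegree_eq_one_of_surjectiveOnStalks' _ _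
    rw [residueDegree_comp'] at h1
    exact Nat.eq_one_of_mul_eq_one_right h1

/-- Lifting cycles through a completely decomposed morphism. -/
theorem exists_map_eq {T S : Scheme.{u}} (h : T ⟶ S) [QuasiCompact h] {δT : T → ℤ} {δS : S → ℤ}
    (hc : Cyc.DeltaCompat h δT δS) (hd : ∀ y : S, ∃ t : T, h t = y ∧ h.residueDegree t = 1) {k : ℤ}
    (α : AlgebraicCycle S ℤ) (hα : α ∈ Cyc.Zk S δS k) :
    ∃ β : AlgebraicCycle T ℤ, β ∈ Cyc.Zk T δT k ∧ AlgebraicCycle.map h δT δS β = α := by
  classical
  choose σ hσ hdeg using hd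
  let β : AlgebraicCycle T ℤ :=
    { toFun := fun t => if t = σ (h t) then α (h t) else 0
      supportWithinDomain' := Set.subset_univ _
      supportLocallyFiniteWithinDomain' := fun z _ => by
        obtain ⟨W, hW, hfin⟩ := α.supportLocallyFiniteWithinDomain' (h z) trivial
        refine ⟨h ⁻¹' W, h.continuous.continuousAt.preimage_mem_nhds hW, (hfin.image σ).subset ?_⟩
        rintro t ⟨htW, ht⟩
        simp only [Function.mem_support, ne_eq, ite_eq_right_iff, Classical.not_imp] at ht
        exact ⟨h t, ⟨htW, ht.2⟩, ht.1.symm⟩ }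
  have hβ : ∀ t : T, β t = if t = σ (h t) then α (h t) else 0 := fun _ => rfl
  refine ⟨β, fun t ht => ?_, ?_⟩
  · rw [hβ]
    split_ifs with e
    · refine hα _ fun hk => ht ?_
      rw [delta_eq_of_residueDegree_one hc (x := t) (by rw [e]; exact hdeg _), hk]
    · rfl
  · ext y
    simp only [AlgebraicCycle.map, Function.locallyFinsupp.map_apply]
    rw [finsum_mem_inter_support_eq' _ _ ({σ y} : Set T) ?_, finsum_mem_singleton, hβ, hσ, if_pos rfl]
    · have hm : AlgebraicCycle.mapCoeff h δT δS (σ y) = 1 := by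
        unfold AlgebraicCycle.mapCoeff
        rw [if_pos (delta_eq_of_residueDegree_one hc (hdeg y)), hdeg y]
      rw [hm, Nat.cast_one, mul_one]
    · intro t ht
      simp only [Function.mem_support, ne_eq] at ht
      refine ⟨fun hy => ?_, fun hy => ?_⟩
      · have hne : β t ≠ 0 := fun h0 => ht (by rw [h0, zero_mul])
        rw [hβ] at hne
        have hy' : h t = y := hy
        have : t = σ (h t) := by by_contra hc'; exact hne (if_neg hc')
        rw [hy'] at this
        exact this
      · rw [Set.mem_singleton_iff] at hy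
        show h t = y
        rw [hy]; exact hσ y

/-- Proper pushforward respects equality of classes. -/
theorem cl_map_eq {T S : Scheme.{u}} [IsLocallyNoetherian T] [IsLocallyNoetherian S] (p : T ⟶ S) [IsProper p]
    {δT : T → ℤ} {δS : S → ℤ} (hdT : Cyc.IsDimFun T δT) (hdS : Cyc.IsDimFun S δS) (hc : Cyc.DeltaCompat p δT δS)
    {k : ℤ} {β β' : AlgebraicCycle T ℤ} {hβ : β ∈ Cyc.Zk T δT k} {hβ' : β' ∈ Cyc.Zk T δT k}
    (e : ChowOps.cl β hβ = ChowOps.cl β' hβ') :
    ChowOps.cl (AlgebraicCycle.map p δT δS β) (Bivar.cycMap_mem_Zk p δT δS k hβ) =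
      ChowOps.cl (AlgebraicCycle.map p δT δS β') (Bivar.cycMap_mem_Zk p δT δS k hβ') := by
  let m : ↥(ChowOps.zk T δT k) →+ ChowOps.CH S δS k :=
    { toFun := fun a => ChowOps.cl (AlgebraicCycle.map p δT δS a.1) (Bivar.cycMap_mem_Zk p δT δS k a.2)
      map_zero' := (Bivar.cl_congr (Bivar.cycMap_zero p δT δS) _ _).trans Bivar.cl_zero
      map_add' := fun a b => (Bivar.cl_congr (Bivar.cycMap_add p δT δS a.1 b.1) _ _).trans (Bivar.cl_add _ _ _ _) }
  have hm : ChowOps.ratTriv T δT k ≤ m.ker := by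
    refine (AddSubgroup.closure_le _).2 fun a ha => ?_
    refine AddMonoidHom.mem_ker.2 ((QuotientAddGroup.eq_zero_iff _).2 (AddSubgroup.subset_closure ?_))
    exact Cyc26.ratEquivZero_map p hdT hdS hc ha
  have hmem := hm ((QuotientAddGroup.eq (s := ChowOps.ratTriv T δT k)).1 e)
  rw [AddMonoidHom.mem_ker, map_add, map_neg, neg_add_eq_zero] at hmem
  exact hmem

/-- A bivariant class is determined by its restriction to an envelope. -/
theorem cl_eq_of_envelope {δX : X → ℤ} {δY : Y → ℤ} (hX : Cyc.IsSetup X δX) (hY : Cyc.IsSetup Y δY) (f : X ⟶ Y)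
    [LocallyOfFiniteType f] {p : ℤ} (s₀ : Bivar.Sq f δX δY) [IsProper s₀.g]
    (hcd : Cyc.IsCompletelyDecomposed s₀.g) (c₁ c₂ : Bivar.Cl p f δX δY) (heq : c₁.res s₀ = c₂.res s₀) : c₁ = c₂ := by
  refine Bivar.Cl.ext (funext fun s => funext fun k => AddMonoidHom.ext fun a => ?_)
  obtain ⟨α, hα, rfl⟩ := Bivar.exists_rep a
  haveI := hX.1
  haveI := hY.1
  haveI := s.lft
  haveI := s₀.lft
  let h := pullback.snd s₀.g s.g
  let q := pullback.fst s₀.g s.g
  let h' := pullback.snd h s.f'
  let fT := pullback.fst h s.f'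
  have hcond : h' ≫ s.f' = fT ≫ h := pullback.condition.symm
  have w : (fT ≫ q) ≫ s₀.g = (h' ≫ s.g') ≫ f := by
    rw [Category.assoc, pullback.condition, ← Category.assoc, ← hcond, Category.assoc, s.isPullback.w, Category.assoc]
  let g'' := s₀.isPullback.lift (fT ≫ q) (h' ≫ s.g') w
  have hg1 : g'' ≫ s₀.f' = fT ≫ q := s₀.isPullback.lift_fst _ _ _
  have hg2 : g'' ≫ s₀.g' = h' ≫ s.g' := s₀.isPullback.lift_snd _ _ _
  have hpb : IsPullback fT g'' q s₀.f' := by
    refine IsPullback.of_bot ?_ hg1.symm s₀.isPullback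
    rw [hg2, show q ≫ s₀.g = h ≫ s.g from pullback.condition]
    exact (IsPullback.of_hasPullback h s.f').paste_vert s.isPullback
  haveI : LocallyOfFiniteType q := inferInstance
  haveI : IsProper h := inferInstance
  haveI : IsProper h' := inferInstance
  haveI : LocallyOfFiniteType g'' :=
    MorphismProperty.of_isPullback (P := @LocallyOfFiniteType) hpb inferInstance
  obtain ⟨δT, hδT⟩ := exists_deltaCompat q s₀.δY'
  obtain ⟨δT', hδT'⟩ := exists_deltaCompat g'' s₀.δX'
  let t : Bivar.Sq s₀.f' s₀.δX' s₀.δY' :=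
    ⟨pullback s₀.g s.g, pullback h s.f', q, fT, g'', hpb, inferInstance, δT, δT', hδT, hδT'⟩
  have hcT : Cyc.DeltaCompat h δT s.δY' := by
    refine deltaCompat_cancel h s.g s.compatY ?_
    rw [show h ≫ s.g = q ≫ s₀.g from pullback.condition.symm]
    exact Bivar.deltaCompat_comp q s₀.g _ _ _ hδT s₀.compatY
  have hcT' : Cyc.DeltaCompat h' δT' s.δX' := by
    refine deltaCompat_cancel h' s.g' s.compatX ?_
    rw [← hg2]
    exact Bivar.deltaCompat_comp g'' s₀.g' _ _ _ hδT' s₀.compatX
  obtain ⟨β, hβ, hβα⟩ := exists_map_eq h hcT (exists_point_residueDegree_one s₀.g s.g hcd) α hα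
  obtain ⟨γ₁, hγ₁, e₁, e₁'⟩ := c₁.push s (s₀.paste t) h h' pullback.condition.symm hcond hg2.symm k β hβ
  obtain ⟨γ₂, hγ₂, e₂, e₂'⟩ := c₂.push s (s₀.paste t) h h' pullback.condition.symm hcond hg2.symm k β hβ
  rw [Bivar.cl_congr hβα (Bivar.cycMap_mem_Zk h _ _ k hβ) hα] at e₁' e₂'
  rw [e₁', e₂']
  haveI : LocallyOfFiniteType s.g' := MorphismProperty.of_isPullback (P := @LocallyOfFiniteType) s.isPullback s.lft
  haveI : LocallyOfFiniteType (g'' ≫ s₀.g') := by rw [hg2]; infer_instance
  haveI : IsLocallyNoetherian s.X' := LocallyOfFiniteType.isLocallyNoetherian s.g'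
  haveI : IsLocallyNoetherian (pullback h s.f') := LocallyOfFiniteType.isLocallyNoetherian h'
  refine cl_map_eq (hβ := hγ₁) (hβ' := hγ₂) h'
    (UCat26.isDimFun_of_deltaCompat (g'' ≫ s₀.g') hX.2.1 hX.2.2
      (Bivar.deltaCompat_comp g'' s₀.g' _ _ _ hδT' s₀.compatX))
    (UCat26.isDimFun_of_deltaCompat s.g' hX.2.1 hX.2.2 s.compatX) hcT' ?_
  refine e₁.symm.trans (Eq.trans ?_ e₂)
  have := congrArg (fun c : Bivar.Cl p s₀.f' s₀.δX' s₀.δY' => c.op t k (ChowOps.cl β hβ)) heq
  exact this

end Groth.Agent.Bivar12
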