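import Groth.Agent.Lib.Bivar12.Restrict

/-!
# The piece of a square over an open piece of the base
-/

set_option autoImplicit false
universe u
set_option linter.style.haveILetI false
set_option backward.isDefEq.respectTransparency false
set_option backward.isDefEq.respectTransparency.types false

open CategoryTheory CategoryTheory.Limits AlgebraicGeometry TopologicalSpace

noncomputable section

namespace Groth.Agent.Bivar12

variable {X Y : Scheme.{u}} {f : X ⟶ Y} {δX : X → ℤ} {δY : Y → ℤ}

/-- The map of fibre products underlying the base change of `t.f'` to a piece. -/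
def pieceF (s t : Bivar.Sq f δX δY) : pullback t.g' s.g' ⟶ pullback t.g s.g :=
  pullback.map t.g' s.g' t.g s.g t.f' s.f' f t.isPullback.w.symm s.isPullback.w.symm

theorem pieceF_fst (s t : Bivar.Sq f δX δY) :
    pieceF s t ≫ pullback.fst t.g s.g = pullback.fst t.g' s.g' ≫ t.f' := pullback.lift_fst _ _ _

theorem pieceF_snd (s t : Bivar.Sq f δX δY) :
    pieceF s t ≫ pullback.snd t.g s.g = pullback.snd t.g' s.g' ≫ s.f' := pullback.lift_snd _ _ _

theorem piece_pullback (s t : Bivar.Sq f δX δY) :
    IsPullback (pieceF s t) (pullback.fst t.g' s.g') (pullback.fst t.g s.g) t.f' := by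
  have h1 := (IsPullback.of_hasPullback t.g' s.g').paste_vert s.isPullback.flip
  rw [← pieceF_snd, ← t.isPullback.w] at h1
  exact (IsPullback.of_bot h1 (pieceF_fst s t).symm (IsPullback.of_hasPullback t.g s.g)).flip

theorem piece_isPullback (s t : Bivar.Sq f δX δY) :
    IsPullback (pieceF s t) (pullback.snd t.g' s.g') (pullback.snd t.g s.g) s.f' := by
  refine IsPullback.of_bot ?_ (pieceF_snd s t) s.isPullback
  rw [← pullback.condition, ← pullback.condition]
  exact (piece_pullback s t).paste_vert t.isPullback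

theorem isOpenImmersion_g' (s : Bivar.Sq f δX δY) [IsOpenImmersion s.g] : IsOpenImmersion s.g' :=
  MorphismProperty.of_isPullback (P := @IsOpenImmersion) s.isPullback inferInstance

/-- The part of the square `t` over the open piece `s`. -/
def piece (s t : Bivar.Sq f δX δY) [IsOpenImmersion s.g] : Bivar.Sq s.f' s.δX' s.δY' where
  Y' := pullback t.g s.g
  X' := pullback t.g' s.g'
  g := pullback.snd t.g s.g
  f' := pieceF s t
  g' := pullback.snd t.g' s.g'
  isPullback := piece_isPullback s t
  lft := by haveI := t.lft; infer_instance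
  δY' := fun z => t.δY' (pullback.fst t.g s.g z)
  δX' := fun z => t.δX' (pullback.fst t.g' s.g' z)
  compatY := by
    haveI := t.lft
    refine deltaCompat_cancel _ s.g s.compatY ?_
    rw [← pullback.condition]
    exact Bivar.deltaCompat_comp _ t.g _ _ _ (deltaCompat_surjStalks _ t.δY') t.compatY
  compatX := by
    haveI := isOpenImmersion_g' s
    haveI := t.lft
    haveI : LocallyOfFiniteType t.g' := MorphismProperty.of_isPullback (P := @LocallyOfFiniteType) t.isPullback t.lft
    refine deltaCompat_cancel _ s.g' s.compatX ?_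
    rw [← pullback.condition]
    exact Bivar.deltaCompat_comp _ t.g' _ _ _ (deltaCompat_surjStalks _ t.δX') t.compatX

variable (s t : Bivar.Sq f δX δY) [IsOpenImmersion s.g]

/-- The open immersion of the piece into the test scheme. -/
def incY : (piece s t).Y' ⟶ t.Y' := pullback.fst t.g s.g

/-- The open immersion of the piece into the fibre product. -/
def incX : (piece s t).X' ⟶ t.X' := pullback.fst t.g' s.g'

instance : IsOpenImmersion (incY s t) := by delta incY; infer_instance

instance : IsOpenImmersion (incX s t) := by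
  haveI := isOpenImmersion_g' s
  delta incX; infer_instance

theorem incY_comp : incY s t ≫ t.g = (piece s t).g ≫ s.g := pullback.condition

theorem incX_comp : incX s t ≫ t.g' = (piece s t).g' ≫ s.g' := pullback.condition

theorem incX_f' : incX s t ≫ t.f' = (piece s t).f' ≫ incY s t := (pieceF_fst s t).symm

theorem range_incX : Set.range (incX s t) = t.g' ⁻¹' (f ⁻¹' Set.range s.g) := by
  exact (Scheme.Pullback.range_fst t.g' s.g').trans
    (congrArg (fun S => t.g' ⁻¹' S) (Cyc26.range_of_isPullback s.isPullback.flip))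

/-- The piece of `t` as a square over the open immersion `s.g`. -/
def sqY : Bivar.Sq s.g s.δY' δY :=
  ⟨t.Y', (piece s t).Y', t.g, incY s t, (piece s t).g, IsPullback.of_hasPullback t.g s.g, t.lft, t.δY',
    (piece s t).δY', t.compatY, (piece s t).compatY⟩

/-- The piece of `t` as a square over the open immersion `s.g'`. -/
def sqX : Bivar.Sq s.g' s.δX' δX :=
  ⟨t.X', (piece s t).X', t.g', incX s t, (piece s t).g', IsPullback.of_hasPullback t.g' s.g',
    MorphismProperty.of_isPullback (P := @LocallyOfFiniteType) t.isPullback t.lft, t.δX',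
    (piece s t).δX', t.compatX, (piece s t).compatX⟩

variable {u : Bivar.Sq f δX δY}

/-- The map of pieces induced by a map of squares. -/
def mapY (h : t.Y' ⟶ u.Y') (w₁ : h ≫ u.g = t.g) : (piece s t).Y' ⟶ (piece s u).Y' :=
  pullback.map t.g s.g u.g s.g h (𝟙 _) (𝟙 _) (by rw [Category.comp_id, w₁]) (by rw [Category.comp_id, Category.id_comp])

/-- The map of pieces of fibre products induced by a map of squares. -/
def mapX (h' : t.X' ⟶ u.X') (w₃ : h' ≫ u.g' = t.g') : (piece s t).X' ⟶ (piece s u).X' :=
  pullback.map t.g' s.g' u.g' s.g' h' (𝟙 _) (𝟙 _) (by rw [Category.comp_id, w₃]) (by rw [Category.comp_id, Category.id_comp])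

theorem mapY_g (h : t.Y' ⟶ u.Y') (w₁ : h ≫ u.g = t.g) :
    mapY s t h w₁ ≫ (piece s u).g = (piece s t).g :=
  (pullback.lift_snd _ _ _).trans (Category.comp_id _)

theorem mapX_g (h' : t.X' ⟶ u.X') (w₃ : h' ≫ u.g' = t.g') :
    mapX s t h' w₃ ≫ (piece s u).g' = (piece s t).g' :=
  (pullback.lift_snd _ _ _).trans (Category.comp_id _)

theorem mapY_inc (h : t.Y' ⟶ u.Y') (w₁ : h ≫ u.g = t.g) : mapY s t h w₁ ≫ incY s u = incY s t ≫ h :=
  pullback.lift_fst _ _ _

theorem mapX_inc (h' : t.X' ⟶ u.X') (w₃ : h' ≫ u.g' = t.g') : mapX s t h' w₃ ≫ incX s u = incX s t ≫ h' :=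
  pullback.lift_fst _ _ _

theorem map_w (h : t.Y' ⟶ u.Y') (h' : t.X' ⟶ u.X') (w₁ : h ≫ u.g = t.g) (w₂ : h' ≫ u.f' = t.f' ≫ h)
    (w₃ : h' ≫ u.g' = t.g') : mapX s t h' w₃ ≫ (piece s u).f' = (piece s t).f' ≫ mapY s t h w₁ := by
  refine pullback.hom_ext ?_ ?_
  · show (mapX s t h' w₃ ≫ (piece s u).f') ≫ incY s u = ((piece s t).f' ≫ mapY s t h w₁) ≫ incY s u
    rw [Category.assoc, ← incX_f', ← Category.assoc, mapX_inc, Category.assoc, w₂, ← Category.assoc, incX_f',
      Category.assoc, Category.assoc, mapY_inc]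
  · show (mapX s t h' w₃ ≫ (piece s u).f') ≫ (piece s u).g = ((piece s t).f' ≫ mapY s t h w₁) ≫ (piece s u).g
    rw [Category.assoc, Category.assoc, mapY_g, (piece s u).isPullback.w, ← Category.assoc, mapX_g,
      (piece s t).isPullback.w]

theorem isPullback_mapY (h : t.Y' ⟶ u.Y') (w₁ : h ≫ u.g = t.g) :
    IsPullback (incY s t) (mapY s t h w₁) h (incY s u) :=
  isPullback_of_over (s := sqY s u) (t := sqY s t) h (mapY s t h w₁) w₁ (mapY_inc s t h w₁) (mapY_g s t h w₁)

theorem isPullback_mapX (h' : t.X' ⟶ u.X') (w₃ : h' ≫ u.g' = t.g') :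
    IsPullback (incX s t) (mapX s t h' w₃) h' (incX s u) :=
  isPullback_of_over (s := sqX s u) (t := sqX s t) h' (mapX s t h' w₃) w₃ (mapX_inc s t h' w₃) (mapX_g s t h' w₃)

end Groth.Agent.Bivar12
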