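import Groth.Agent.Lib.Bivar12.Maps
import Groth.Agent.Lib.Bivar12.Comm
import Groth.Agent.Lib.Cyc26.RatFun
import Groth.Agent.Lib.Cyc26.PullKer
import Groth.Agent.Lib.Cyc26.ClosedSetup
import Groth.Agent.Lib.UCat.Universal

/-!
# Chow groups of a disjoint union of open and closed subschemes
-/

set_option autoImplicit false
universe u
set_option linter.style.haveILetI false
set_option backward.isDefEq.respectTransparency false
set_option backward.isDefEq.respectTransparency.types false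

open CategoryTheory CategoryTheory.Limits AlgebraicGeometry TopologicalSpace

noncomputable section

namespace Groth.Agent.Bivar12

variable {X U : Scheme.{u}}

theorem length_openImmersion (i : U ⟶ X) [IsOpenImmersion i] (x : U) :
    Module.length (U.presheaf.stalk x) (U.presheaf.stalk x ⧸ Ideal.map (i.stalkMap x).hom
      (IsLocalRing.maximalIdeal (X.presheaf.stalk (i x)))) = 1 := by
  have hs : Function.Surjective (i.stalkMap x).hom := i.stalkMap_surjective x
  haveI : (Ideal.map (i.stalkMap x).hom (IsLocalRing.maximalIdeal (X.presheaf.stalk (i x)))).IsMaximal := by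
    refine (Ideal.map_eq_top_or_isMaximal_of_surjective _ hs inferInstance).resolve_left fun htop => ?_
    exact (IsLocalRing.maximalIdeal.isMaximal _).ne_top
      (top_le_iff.1 (htop.ge.trans (Ideal.map_le_iff_le_comap.2
        ((IsLocalRing.local_hom_TFAE (i.stalkMap x).hom).out 0 3 rfl rfl |>.1 inferInstance))))
  rw [Module.length_eq_one_iff, isSimpleModule_iff_isCoatom]
  exact Ideal.IsMaximal.out

theorem pullFun_openImmersion (i : U ⟶ X) [IsOpenImmersion i] (δ : X → ℤ) (α : X → ℤ) (z : U) :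
    Cyc.pullFun i (fun z => δ (i z)) δ 0 α z = α (i z) := by
  simp only [Cyc.pullFun]
  rw [if_pos (add_zero _).symm, length_openImmersion]
  simp

theorem hasRelDim_openImmersion (i : U ⟶ X) [IsOpenImmersion i] : Cyc.HasRelDim i 0 := by
  intro y T hT
  haveI : Subsingleton ↥(i.fiber y) := ⟨fun a b => (i.fiberι y).isEmbedding.injective
    (i.isOpenEmbedding.injective (by
      have ha : i.fiberι y a ∈ i ⁻¹' {y} := by rw [← Scheme.Hom.range_fiberι]; exact ⟨a, rfl⟩
      have hb : i.fiberι y b ∈ i ⁻¹' {y} := by rw [← Scheme.Hom.range_fiberι]; exact ⟨b, rfl⟩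
      exact (Set.mem_singleton_iff.1 ha).trans (Set.mem_singleton_iff.1 hb).symm))⟩
  obtain ⟨t, ht⟩ := hT.1.nonempty
  haveI : Nonempty ↥T := ⟨⟨t, ht⟩⟩
  refine le_antisymm ((topologicalKrullDim_zero_of_discreteTopology ↥T).trans_eq Nat.cast_zero.symm) ?_
  haveI : Nonempty (IrreducibleCloseds ↥T) :=
    ⟨⟨closure {⟨t, ht⟩}, isIrreducible_singleton.closure, isClosed_closure⟩⟩
  exact Nat.cast_zero.trans_le Order.krullDim_nonneg

theorem isSetup_openImmersion (i : U ⟶ X) [IsOpenImmersion i] {δ : X → ℤ} (hX : Cyc.IsSetup X δ) :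
    Cyc.IsSetup U fun z => δ (i z) := by
  haveI := hX.1
  refine ⟨LocallyOfFiniteType.isLocallyNoetherian i, fun z => ?_,
    UCat26.isDimFun_of_deltaCompat i hX.2.1 hX.2.2 (deltaCompat_surjStalks i δ)⟩
  exact UCat.isUniversallyCatenary_of_surjective (i.stalkMap z).hom (i.stalkMap_surjective z) (hX.2.1 (i z))

/-- Rational equivalence to zero glues over a partition into open sets. -/
theorem ratFun_disjUnion {δ : X → ℤ} {k : ℤ} {J : Type u} (V : J → Set X) (hV : ∀ j, IsOpen (V j))
    (hdisj : ∀ j j', j ≠ j' → Disjoint (V j) (V j')) (hcov : ∀ x, ∃ j, x ∈ V j) (G : X → ℤ) (Gj : J → X → ℤ)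
    (hG : ∀ j, ∀ x ∈ V j, G x = Gj j x) (h : ∀ j, Cyc26.RatFun δ k (V j) (Gj j)) :
    Cyc26.RatFun δ k Set.univ G := by
  choose ι ξ f h1 h2 h3 h4 h5 using h
  have hsame : ∀ {j j' : J} {a : X}, a ∈ V j → a ∈ V j' → j = j' := fun {j j' a} ha ha' =>
    by_contra fun hne => Set.disjoint_left.1 (hdisj j j' hne) ha ha'
  refine ⟨Σ j, ι j, fun i => ξ i.1 i.2, fun i => f i.1 i.2, fun i => h1 i.1 i.2, fun i => h2 i.1 i.2,
    fun _ => trivial, fun x => ?_, fun x => ?_⟩
  · obtain ⟨j, hj⟩ := hcov x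
    obtain ⟨W, hW, hxW, hfin⟩ := h4 j x
    refine ⟨W ∩ V j, hW.inter (hV j), ⟨hxW, hj⟩, (hfin.image (Sigma.mk j)).subset ?_⟩
    rintro ⟨j', i⟩ ⟨y, hy, hyW, hyV⟩
    obtain rfl : j' = j := hsame (h3 j' i) ((specializes_iff_mem_closure.2 hy).mem_open (hV j) hyV)
    exact ⟨i, ⟨y, hy, hyW⟩, rfl⟩
  · obtain ⟨j, hj⟩ := hcov x
    obtain ⟨T, hT⟩ : ∃ T : Finset (ι j), Function.support (fun i => Cyc.divFun δ (ξ j i) (f j i) x) ⊆ T :=
      ⟨(Cyc26.finite_support_family (δ := δ) (f j) (h4 j) x).toFinset, by simp⟩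
    rw [hG j x hj, h5 j x, finsum_eq_sum_of_support_subset _ hT,
      finsum_eq_sum_of_support_subset (s := T.map ⟨Sigma.mk j, sigma_mk_injective⟩) _ ?_, Finset.sum_map]
    · rfl
    · rintro ⟨j', i⟩ hi
      obtain rfl : j' = j := hsame (h3 j' i) ((Cyc26.specializes_of_divFun_ne_zero hi).1.mem_open (hV j) hj)
      exact Finset.mem_map.2 ⟨i, hT hi, rfl⟩

/-- The Chow group of a disjoint union of open subschemes is the product of their Chow groups. -/
theorem bijective_restrict [IsLocallyNoetherian X] {δ : X → ℤ} (hd : Cyc.IsDimFun X δ) {J : Type u}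
    {V : J → Scheme.{u}} (i : ∀ j, V j ⟶ X) (hopen : ∀ j, IsOpenImmersion (i j))
    (hdisj : ∀ j j', j ≠ j' → Disjoint (Set.range (i j)) (Set.range (i j')))
    (hcov : ∀ x, ∃ j, x ∈ Set.range (i j)) (δV : ∀ j, V j → ℤ) (hδ : ∀ j, δV j = fun z => δ (i j z))
    {k l : ℤ} (e : l = k) (P : ∀ j, ChowOps.CH X δ k →+ ChowOps.CH (V j) (δV j) l)
    (hP : ∀ j, IsPullMap (i j) (δV j) δ 0 (P j)) : Function.Bijective fun x j => P j x := by
  subst e
  have hiop : ∀ j, IsOpen (Set.range (i j)) := fun j => haveI := hopen j; (i j).isOpenEmbedding.isOpen_range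
  have hci : ∀ j, IsClosedImmersion (i j) := fun j => by
    haveI := hopen j
    refine IsClosedImmersion.of_isPreimmersion _ ⟨?_⟩
    refine isOpen_iff_forall_mem_open.2 fun x hx => ?_
    obtain ⟨j', hj'⟩ := hcov x
    exact ⟨Set.range (i j'), fun y hy hy' =>
      Set.disjoint_left.1 (hdisj j' j fun e => hx (by rwa [e] at hj')) hy hy', hiop j', hj'⟩
  have hsame : ∀ {j j' : J} {a : X}, a ∈ Set.range (i j) → a ∈ Set.range (i j') → j = j' := fun {j j' a} ha ha' =>
    by_contra fun hne => Set.disjoint_left.1 (hdisj j j' hne) ha ha'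
  have key : ∀ (α : AlgebraicCycle X ℤ) (hα : α ∈ Cyc.Zk X δ l) (j : J) (b : AlgebraicCycle (V j) ℤ)
      (_ : ∀ z, b z = α (i j z)) (hb : b ∈ Cyc.Zk (V j) (δV j) l), P j (ChowOps.cl α hα) = ChowOps.cl b hb := by
    intro α hα j b hbv hb
    haveI := hopen j
    refine hP j α hα b (funext fun z => ?_) hb
    rw [hbv, hδ j, pullFun_openImmersion]
  let Φ : ChowOps.CH X δ l →+ (∀ j, ChowOps.CH (V j) (δV j) l) := ⟨⟨fun x j => P j x, funext fun j => map_zero (P j)⟩,
      fun x y => funext fun j => map_add (P j) x y⟩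
  refine ⟨(injective_iff_map_eq_zero Φ).2 fun x hx => ?_, fun y => ?_⟩
  · obtain ⟨α, hα, rfl⟩ := Bivar.exists_rep x
    refine (QuotientAddGroup.eq_zero_iff _).2 (AddSubgroup.subset_closure (Cyc26.ratEquivZero_iff.2 ?_))
    classical
    refine ratFun_disjUnion (fun j => Set.range (i j)) hiop hdisj hcov (⇑α)
      (fun j x => if x ∈ Set.range (i j) then α x else 0) (fun j x hxj => (if_pos hxj).symm) fun j => ?_
    haveI := hci j
    obtain ⟨b, hb⟩ := Cyc26.exists_cycle_restrict (i j) α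
    have hbm : b ∈ Cyc.Zk (V j) (δV j) l := fun z hz => by
      rw [hb]
      exact hα _ (by rwa [hδ j] at hz)
    have h0 : P j (ChowOps.cl α hα) = 0 := congrFun hx j
    rw [key α hα j b hb hbm] at h0
    have hr : Cyc.RatEquivZero (δV j) l b := by
      haveI : IsLocallyNoetherian (V j) := LocallyOfFiniteType.isLocallyNoetherian (i j)
      have := ratEquiv_of_cl_eq (b := (0 : AlgebraicCycle (V j) ℤ)) (hb := (ChowOps.zk _ _ l).zero_mem) h0
      rwa [Cyc.RatEquiv, sub_zero] at this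
    rw [hδ j] at hr
    have := (Cyc26.ratEquivZero_iff.1 hr).pushClosed (i j)
      (G := fun x => if x ∈ Set.range (i j) then α x else 0)
      (fun z => (if_pos ⟨z, rfl⟩).trans (hb z).symm) (fun x hx => if_neg hx)
    rwa [Set.image_univ] at this
  · choose b hb hbe using fun j => Bivar.exists_rep (y j)
    choose g hg using hcov
    choose z hz using hg
    have hval : ∀ (j : J) (w : V j), b (g (i j w)) (z (i j w)) = b j w := by
      intro j w
      have key2 : ∀ (j' : J) (w' : V j'), i j' w' = i j w → b j' w' = b j w := by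
        intro j' w' he
        obtain rfl : j' = j := hsame ⟨w', he⟩ ⟨w, rfl⟩
        haveI := hopen j'
        rw [(i j').isOpenEmbedding.injective he]
      exact key2 _ _ (hz (i j w))
    let a : AlgebraicCycle X ℤ := ⟨fun x => b (g x) (z x), Set.subset_univ _, fun x _ => by
      haveI := hopen (g x)
      obtain ⟨t, ht, hfin⟩ := (b (g x)).supportLocallyFiniteWithinDomain' (z x) (Set.mem_univ _)
      refine ⟨i (g x) '' t, ?_, (hfin.image (i (g x))).subset ?_⟩
      · have hm := (i (g x)).isOpenEmbedding.isOpenMap.image_mem_nhds ht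
        rwa [hz x] at hm
      · rintro _ ⟨⟨w, hw, rfl⟩, hne⟩
        refine ⟨w, ⟨hw, ?_⟩, rfl⟩
        have hne' : b (g (i (g x) w)) (z (i (g x) w)) ≠ 0 := hne
        rwa [hval (g x) w] at hne'⟩
    have ha : a ∈ Cyc.Zk X δ l := fun x hx => hb (g x) (z x) (by rw [hδ (g x)]; rwa [← hz x] at hx)
    refine ⟨ChowOps.cl a ha, funext fun j => ?_⟩
    show P j _ = y j
    rw [key a ha j (b j) (fun w => (hval j w).symm) (hb j), hbe j]

end Groth.Agent.Bivar12
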