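import Groth.Agent.Lib.Bivar12.ZeroScheme
import Groth.Agent.Lib.SymAlg11.Line
import Groth.Agent.Lib.VeryAmple11.SymGr
import Groth.Agent.Lib.RelSpecB.Basic
import Groth.Agent.Lib.RelCone11.Pointed
import Groth.Agent.Lib.TensorMod.Dual
import Groth.Agent.Lib.CurveOm17.Glue

/-!
# The tautological section on the bundle space of an invertible module

For an invertible module `L` on `Y` there are an affine morphism `π : V ⟶ Y` of finite type, a section `z` of `π`
and a section of `π^* L` whose zero scheme is `z`.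
-/

set_option autoImplicit false
universe u
set_option linter.style.haveILetI false
set_option backward.isDefEq.respectTransparency false
set_option backward.isDefEq.respectTransparency.types false

open CategoryTheory CategoryTheory.Limits AlgebraicGeometry TopologicalSpace Opposite

noncomputable section

namespace Groth.Agent.Bivar12

open SymAlg11

variable {Y : Scheme.{u}}

/-- The pairing of a module with its dual. -/
def pr (L : Y.Modules) {U : Y.Opens} (φ : Γ(M2.dualMod L, U)) (g : Γ(L, U)) : Γ(Y, U) :=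
  (M2.homSecOf L _ φ).1 ⟨U, le_rfl⟩ g

theorem pr_smul_left (L : Y.Modules) {U : Y.Opens} (r : Γ(Y, U)) (φ : Γ(M2.dualMod L, U)) (g : Γ(L, U)) :
    pr L (r • φ) g = r * pr L φ g :=
  (M2.evalBiMap L (Coh.structureModule Y)).smul_left U r φ g

theorem pr_smul_right (L : Y.Modules) {U : Y.Opens} (r : Γ(Y, U)) (φ : Γ(M2.dualMod L, U)) (g : Γ(L, U)) :
    pr L φ (r • g) = r * pr L φ g :=
  map_smul ((M2.homSecOf L _ φ).1 ⟨U, le_rfl⟩) r g

theorem pr_res (L : Y.Modules) {U V : Y.Opens} (h : V ≤ U) (φ : Γ(M2.dualMod L, U)) (g : Γ(L, U)) :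
    pr L (M1.mres (M2.dualMod L) h φ) (M1.mres L h g) = M1.ores h (pr L φ g) :=
  (M2.homSecOf L _ φ).2 ⟨U, le_rfl⟩ ⟨V, h⟩ h g

theorem dual_ext {L : Y.Modules} {U : Y.Opens} {g : Γ(L, U)} (hg : M2.IsGenerator g) {φ ψ : Γ(M2.dualMod L, U)}
    (h : pr L φ g = pr L ψ g) : φ = ψ := by
  refine Subtype.ext (funext fun V => LinearMap.ext fun m => ?_)
  obtain ⟨r, rfl⟩ := (hg V.1 V.2).2 m
  have h1 := (M2.homSecOf L _ φ).2 ⟨U, le_rfl⟩ V V.2 g
  have h2 := (M2.homSecOf L _ ψ).2 ⟨U, le_rfl⟩ V V.2 g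
  have h3 : (M2.homSecOf L _ φ).1 V (M2.res L V.2 g) = (M2.homSecOf L _ ψ).1 V (M2.res L V.2 g) :=
    h1.trans ((congrArg _ h).trans h2.symm)
  show (M2.homSecOf L _ φ).1 V (r • M2.res L V.2 g) = (M2.homSecOf L _ ψ).1 V (r • M2.res L V.2 g)
  rw [map_smul, map_smul, h3]

theorem exists_dual {L : Y.Modules} {U : Y.Opens} {g : Γ(L, U)} (hg : M2.IsGenerator g) :
    ∃ e : Γ(M2.dualMod L, U), pr L e g = 1 ∧ M2.IsGenerator e := by
  let co : ∀ V : {V : Y.Opens // V ≤ U}, Γ(Y, V.1) ≃ₗ[Γ(Y, V.1)] (Γ(L, V.1) : Type u) := fun V =>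
    LinearEquiv.ofBijective (LinearMap.toSpanSingleton Γ(Y, V.1) _ (M2.res L V.2 g)) (hg V.1 V.2)
  have hco : ∀ V r, co V r = r • M2.res L V.2 g := fun V r => rfl
  let φ : M2.HomFam L (Coh.structureModule Y) U := fun V => (co V).symm.toLinearMap
  have hφ : φ ∈ M2.HomSec L (Coh.structureModule Y) U := by
    intro V V' h m
    obtain ⟨r, rfl⟩ := (co V).surjective m
    show (co V').symm (M2.res L h (co V r)) = M1.ores h ((co V).symm (co V r))
    rw [LinearEquiv.symm_apply_apply, LinearEquiv.symm_apply_eq, hco, hco]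
    refine (Scheme.Modules.map_smul L _ _ _).trans ?_
    show M1.ores h r • M1.mres L h (M1.mres L V.2 g) = M1.ores h r • M1.mres L V'.2 g
    rw [M1.mres_mres]
  let e : Γ(M2.dualMod L, U) := (⟨φ, hφ⟩ : M2.HomSec L (Coh.structureModule Y) U)
  have he1 : pr L e g = 1 := by
    show (co ⟨U, le_rfl⟩).symm g = _
    rw [LinearEquiv.symm_apply_eq, hco, one_smul]
    exact (M1.mres_id L _ g).symm
  refine ⟨e, he1, fun W hW => ?_⟩
  have hgW : M2.IsGenerator (M1.mres L hW g) := fun V hV => by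
    have := hg V (hV.trans hW)
    have e' : M2.res L hV (M1.mres L hW g) = M2.res L (hV.trans hW) g := M1.mres_mres L hW hV g
    rwa [e']
  have hp : ∀ r : Γ(Y, W), pr L (r • M2.res (M2.dualMod L) hW e) (M1.mres L hW g) = r := fun r => by
    rw [pr_smul_left, show M2.res (M2.dualMod L) hW e = M1.mres (M2.dualMod L) hW e from rfl, pr_res, he1, map_one,
      mul_one]
  refine ⟨fun a b hab => ?_, fun φ => ⟨pr L φ (M1.mres L hW g), dual_ext hgW (hp _)⟩⟩
  have := congrArg (fun ψ => pr L ψ (M1.mres L hW g)) hab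
  simpa only [hp] using this

/-- An invertible module has a space with a section of its pullback whose zero scheme is a section of the space. -/
theorem exists_taut {L : Y.Modules} (hL : PicF.IsInvertible L) :
    ∃ (V : Scheme.{u}) (π : V ⟶ Y) (_ : LocallyOfFiniteType π) (z : Y ⟶ V) (_ : IsClosedImmersion z)
      (σ : ((Scheme.Modules.pullback π).obj L).presheaf.obj (op ⊤)),
      z ≫ π = 𝟙 Y ∧ Cyc.IsZeroSchemeOf z ((Scheme.Modules.pullback π).obj L) σ := by
  classical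
  have hK : PicF.IsInvertible (M2.dualMod L) := M2.isInvertible_dualMod hL
  have hKq : Coh.IsQCoh (M2.dualMod L) := Twist.isQCoh_of_isInvertible hK
  obtain ⟨𝒮, j, hj⟩ : ∃ (𝒮 : RelProj.QCGrAlg Y) (j : M2.dualMod L ⟶ 𝒮.toModule), RelProj.IsGrSymAlg _ 𝒮 j :=
    ⟨_, _, VA11.isGrSymAlg_symGr hKq⟩
  obtain ⟨aug, haug, -⟩ := hj.1 (RelSpec.QCAlg.unit Y) 0
  obtain ⟨z, hz, -⟩ := RelCone11.existsUnique_vertex 𝒮 aug
  haveI hzc : IsClosedImmersion z := RelCone11.isClosedImmersion_vertex 𝒮 aug hz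
  have haug0 : ∀ (U : Y.Opens) (e : Γ(M2.dualMod L, U)), (aug.hom.app (op U)).hom (tgen j U e) = 0 := fun U e => by
    have h := congrArg (fun φ => φ.app U e) haug
    exact h
  let A := 𝒮.toQCAlg
  let π := A.π
  let γ : ∀ U : Y.Opens, Γ(A.spec, π ⁻¹ᵁ U) →+* A.presheaf.obj (op U) := fun U => (A.gammaMap.app (op U)).hom
  have hbij : ∀ U, Function.Bijective (γ U) := fun U => by
    haveI := RelSpecB.isIso_gammaMap A
    exact ConcreteCategory.bijective_of_isIso (A.gammaMap.app (op U))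
  have hstr : ∀ U (c : Γ(Y, U)), γ U (π.app U c) = (A.str.app (op U)).hom c := fun U c =>
    ConcreteCategory.congr_hom (NatTrans.congr_app A.π_c_gammaMap (op U)) c
  have hres : ∀ {U W : Y.Opens} (h : W ≤ U) (y : Γ(A.spec, π ⁻¹ᵁ U)),
      γ W (M1.ores (π.preimage_mono h) y) = gres 𝒮 h (γ U y) := fun h y =>
    ConcreteCategory.congr_hom (A.gammaMap.naturality (homOfLE h).op) y
  choose κ hκ using fun (U : Y.Opens) (e : Γ(M2.dualMod L, U)) => (hbij U).2 (tgen j U e)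
  have hκs : ∀ (U : Y.Opens) (r : Γ(Y, U)) (e : Γ(M2.dualMod L, U)), κ U (r • e) = π.app U r * κ U e :=
    fun U r e => (hbij U).1 (by rw [hκ, map_mul, hstr, hκ]; exact j.app_smul r e)
  have hκr : ∀ {U W : Y.Opens} (h : W ≤ U) (e : Γ(M2.dualMod L, U)),
      M1.ores (π.preimage_mono h) (κ U e) = κ W (M1.mres _ h e) :=
    fun {U W} h e => (hbij W).1 (by rw [hres, hκ, hκ, gres_tgen])
  have hgen : ∀ {U : Y.Opens} (_ : IsAffineOpen U) {e : Γ(M2.dualMod L, U)} (_ : M2.IsGenerator e)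
      (a : Γ(A.spec, π ⁻¹ᵁ U)), ∃ p : Polynomial Γ(Y, U), p.eval₂ (π.app U).hom (κ U e) = a := by
    intro U hU e he a
    obtain ⟨p, hp⟩ := (bijective_poly hKq hj hU he).2 (γ U a)
    refine ⟨p, (hbij U).1 ?_⟩
    rw [Polynomial.hom_eval₂, hκ, ← hp]
    exact congrArg (fun f => Polynomial.eval₂ f (tgen j U e) p) (RingHom.ext (hstr U))
  haveI hlft : LocallyOfFiniteType π := by
    have hcov : ∀ y : Y, ∃ (U : Y.Opens) (g : Γ(L, U)), y ∈ U ∧ IsAffineOpen U ∧ M2.IsGenerator g := fun y => by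
      obtain ⟨U, g, hxU, -, hU, hg⟩ := Amp.exists_isGenerator hL (V := (⊤ : Y.Opens)) (x := y) trivial
      exact ⟨U, g, hxU, hU, hg⟩
    choose U g hxU hU hg using hcov
    rw [HasRingHomProperty.iff_exists_appLE (P := @LocallyOfFiniteType)
      (RingHom.finiteType_stableUnderComposition.stableUnderCompositionWithLocalizationAway RingHom.finiteType_holdsForLocalizationAway).left]
    intro x
    refine ⟨⟨U (π x), hU (π x)⟩, ⟨π ⁻¹ᵁ U (π x), (hU (π x)).preimage π⟩, hxU (π x), le_rfl, ?_⟩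
    set y := π x
    obtain ⟨e, -, he⟩ := exists_dual (hg y)
    rw [← Scheme.Hom.app_eq_appLE]
    letI := (π.app (U y)).hom.toAlgebra
    refine RingHom.finiteType_algebraMap.2 ?_
    refine Algebra.FiniteType.of_surjective (Polynomial.aeval (R := Γ(Y, U y)) (κ (U y) e)) fun a => ?_
    obtain ⟨p, hp⟩ := hgen (hU y) he a
    exact ⟨p, hp⟩
  -- the local sections
  let ι : Type u := {p : Σ U : Y.Opens, Γ(L, U) // IsAffineOpen p.1 ∧ M2.IsGenerator p.2}
  choose de hde hdeg using fun p : ι => exists_dual p.2.2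
  let M := (Scheme.Modules.pullback π).obj L
  let sl : ∀ p : ι, Γ(M, π ⁻¹ᵁ p.1.1) := fun p => κ p.1.1 (de p) • M2.pullSec π L p.1.2
  have hcompat : ∀ (p q : ι) (W : Y.Opens) (hp : W ≤ p.1.1) (hq : W ≤ q.1.1),
      M1.mres M (π.preimage_mono hp) (sl p) = M1.mres M (π.preimage_mono hq) (sl q) := by
    intro p q W hp hq
    have hgW : M2.IsGenerator (M1.mres L hp p.1.2) := fun V hV => by
      have := p.2.2 V (hV.trans hp)
      have e' : M2.res L hV (M1.mres L hp p.1.2) = M2.res L (hV.trans hp) p.1.2 := M1.mres_mres L hp hV _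
      rwa [e']
    obtain ⟨c, hc⟩ := (p.2.2 W hp).2 (M1.mres L hq q.1.2)
    have hc' : c • M1.mres L hp p.1.2 = M1.mres L hq q.1.2 := hc
    set d := pr L (M1.mres _ hq (de q)) (M1.mres L hp p.1.2) with hd
    have hde' : M1.mres _ hq (de q) = d • M1.mres _ hp (de p) := dual_ext hgW (by
      rw [pr_smul_left, pr_res, hde, map_one, mul_one])
    have hdc : c * d = 1 := by
      rw [hd, ← pr_smul_right, hc', pr_res, hde, map_one]
    simp only [sl]
    rw [M1.mres_smul, M1.mres_smul, hκr hp, hκr hq, CurveOm17.mres_pullSec π L hp, CurveOm17.mres_pullSec π L hq,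
      hde', hκs, ← hc', M2.pullSec_smul, ← mul_smul]
    congr 1
    rw [mul_comm (π.app W d * _), ← mul_assoc, ← map_mul, hdc, map_one, one_mul]
  obtain ⟨σ, hσ, -⟩ := TopCat.Sheaf.existsUnique_gluing' ⟨M.presheaf, M.isSheaf⟩ (fun p : ι => π ⁻¹ᵁ p.1.1) ⊤
    (fun p => homOfLE le_top) (fun x _ => by
      obtain ⟨U, g, hxU, -, hU, hg⟩ := Amp.exists_isGenerator hL (V := (⊤ : Y.Opens)) (x := π x) trivial
      exact Opens.mem_iSup.2 ⟨⟨⟨U, g⟩, hU, hg⟩, hxU⟩)
    sl (fun p q => by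
      have := hcompat p q (p.1.1 ⊓ q.1.1) inf_le_left inf_le_right
      exact this)
  refine ⟨A.spec, π, hlft, z, hzc, σ, hz.comp_π, ?_⟩
  -- the section at a point over a chart
  have hM : PicF.IsInvertible M := Twist.isInvertible_pullback π hL
  have hgerm : ∀ (p : ι) (x : A.spec) (hx : π x ∈ p.1.1),
      (M.presheaf.germ ⊤ x trivial) σ = A.spec.presheaf.germ (π ⁻¹ᵁ p.1.1) x hx (κ p.1.1 (de p)) •
        Cyc26.pst π L x (L.presheaf.germ p.1.1 (π x) hx p.1.2) := by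
    intro p x hx
    rw [Cyc26.pst_germ, ← M1.germ_smul]
    refine Eq.trans ?_ (congrArg (M.presheaf.germ (π ⁻¹ᵁ p.1.1) x hx) (hσ p))
    exact (TopCat.Presheaf.germ_res_apply M.presheaf _ _ _ _).symm
  have hgen' : ∀ (p : ι) (x : A.spec) (hx : π x ∈ p.1.1),
      Amp.Gen (Cyc26.pst π L x (L.presheaf.germ p.1.1 (π x) hx p.1.2)) := fun p x hx =>
    Cyc26.gen_pst π hL (Amp.gen_of_isGenerator p.2.2 hx)
  have hpt : ∀ y : Y, π (z y) = y := fun y => by rw [← Scheme.Hom.comp_apply, hz.comp_π]; rfl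
  have hzπ : ∀ (U : Y.Opens) (y : Y) (hy : π (z y) ∈ U) (c : Γ(Y, U)),
      z.stalkMap y (A.spec.presheaf.germ (π ⁻¹ᵁ U) (z y) hy (π.app U c)) =
        Y.presheaf.germ U y (hpt y ▸ hy) c := by
    intro U y hy c
    rw [Scheme.Hom.germ_stalkMap_apply, ← CommRingCat.comp_apply (π.app U) (z.app (π ⁻¹ᵁ U)),
      ← Scheme.Hom.comp_app]
    show Y.presheaf.germ ((z ≫ π) ⁻¹ᵁ U) y hy ((z ≫ π).app U c) = _
    rw [Scheme.Hom.congr_app hz.comp_π U, CommRingCat.comp_apply, TopCat.Presheaf.germ_res_apply]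
    rfl
  have hzκ : ∀ (p : ι) (y : Y) (hy : π (z y) ∈ p.1.1),
      z.stalkMap y (A.spec.presheaf.germ (π ⁻¹ᵁ p.1.1) (z y) hy (κ p.1.1 (de p))) = 0 := by
    intro p y hy
    set U := p.1.1
    have hU : IsAffineOpen U := p.2.1
    have hyU : y ∈ U := hpt y ▸ hy
    have hle : U ≤ z ⁻¹ᵁ (π ⁻¹ᵁ U) := fun w hw => show π (z w) ∈ U from (hpt w).symm ▸ hw
    have he : ⊤ ≤ (hU.fromSpec ≫ z) ⁻¹ᵁ (π ⁻¹ᵁ U) := fun w _ => hle (by
      have : hU.fromSpec w ∈ Set.range hU.fromSpec := ⟨w, rfl⟩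
      rwa [hU.range_fromSpec] at this)
    have key : (hU.fromSpec ≫ z).appLE (π ⁻¹ᵁ U) ⊤ he (κ U (de p)) = 0 := by
      have h1 : (hU.fromSpec ≫ z).appLE (π ⁻¹ᵁ U) ⊤ he =
          (Spec.map (RelCone11.augAt 𝒮 aug U) ≫ A.ι U hU).appLE (π ⁻¹ᵁ U) ⊤
            (RelCone11.vertex_fromSpec 𝒮 aug hz U hU ▸ he) := by
        congr 1
        exact RelCone11.vertex_fromSpec 𝒮 aug hz U hU
      rw [h1, ← Scheme.Hom.appLE_comp_appLE _ _ _ ⊤ _ (A.top_le_preimage U hU) (by simp), CommRingCat.comp_apply]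
      have h2 : (Scheme.ΓSpecIso _).hom ((A.ι U hU).appLE (π ⁻¹ᵁ U) ⊤ (A.top_le_preimage U hU) (κ U (de p))) =
          tgen j U (de p) := by
        rw [← hκ]
        exact (ConcreteCategory.congr_hom (A.gammaMap_app U hU) (κ U (de p))).symm
      refine (ConcreteCategory.bijective_of_isIso (Scheme.ΓSpecIso _).hom).1 ?_
      rw [map_zero]
      have h3 := ConcreteCategory.congr_hom (Scheme.ΓSpecIso_naturality (RelCone11.augAt 𝒮 aug U))
        ((A.ι U hU).appLE (π ⁻¹ᵁ U) ⊤ (A.top_le_preimage U hU) (κ U (de p)))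
      simp only [CommRingCat.comp_apply] at h3
      rw [h2] at h3
      refine Eq.trans ?_ (h3.trans (haug0 U (de p)))
      simp [Scheme.Hom.appLE, Scheme.Hom.appTop]
      rfl
    rw [Scheme.Hom.germ_stalkMap_apply, ← TopCat.Presheaf.germ_res_apply Y.presheaf (homOfLE hle) y hyU]
    rw [Scheme.Hom.comp_appLE, CommRingCat.comp_apply] at key
    have hres0 : Y.presheaf.map (homOfLE hle).op (z.app (π ⁻¹ᵁ U) (κ U (de p))) = 0 := by
      haveI := RelSpecB.isIso_appLE_of_opensRange hU.fromSpec hU.opensRange_fromSpec.symm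
        (le_of_eq hU.fromSpec_preimage_self.symm)
      refine (ConcreteCategory.bijective_of_isIso (hU.fromSpec.appLE U ⊤
        (le_of_eq hU.fromSpec_preimage_self.symm))).1 ?_
      rw [map_zero, ← CommRingCat.comp_apply, Scheme.Hom.map_appLE]
      exact key
    rw [hres0, map_zero]
  refine ⟨Set.ext fun x => ?_, fun y => ?_⟩
  · obtain ⟨U, g, hxU, -, hU, hg⟩ := Amp.exists_isGenerator hL (V := (⊤ : Y.Opens)) (x := π x) trivial
    let p : ι := ⟨⟨U, g⟩, hU, hg⟩
    let k : Γ(A.spec, π ⁻¹ᵁ U) := κ U (de p)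
    have hiff : (Submodule.Quotient.mk ((M.presheaf.germ ⊤ x trivial) σ) : Cyc.secFibre M x) = 0 ↔
        A.spec.presheaf.germ (π ⁻¹ᵁ U) x hxU k ∈ IsLocalRing.maximalIdeal _ := by
      rw [hgerm p x hxU, Submodule.Quotient.mk_eq_zero]
      exact ⟨fun h => Cyc26.mem_maximal_of_gen (hgen' p x hxU) h,
        fun h => Submodule.smul_mem_smul h Submodule.mem_top⟩
    show x ∈ Set.range z ↔ (Submodule.Quotient.mk ((M.presheaf.germ ⊤ x trivial) σ) : Cyc.secFibre M x) = 0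
    rw [hiff]
    constructor
    · rintro ⟨y, rfl⟩
      refine (IsLocalRing.mem_maximalIdeal _).2 fun hu => ?_
      have := hu.map (z.stalkMap y).hom
      exact not_isUnit_zero ((hzκ p y hxU) ▸ this)
    · intro hk
      refine ⟨π x, ?_⟩
      have hx' : z (π x) ∈ π ⁻¹ᵁ U := show π (z (π x)) ∈ U from (hpt _).symm ▸ hxU
      have hW : IsAffineOpen (π ⁻¹ᵁ U) := hU.preimage π
      have hk' : A.spec.presheaf.germ (π ⁻¹ᵁ U) (z (π x)) hx' k ∈ IsLocalRing.maximalIdeal _ :=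
        (IsLocalRing.mem_maximalIdeal _).2 fun hu =>
          not_isUnit_zero ((hzκ p (π x) hx') ▸ hu.map (z.stalkMap (π x)).hom)
      have hdec : ∀ a : Γ(A.spec, π ⁻¹ᵁ U), ∃ (c : Γ(Y, U)) (b : Γ(A.spec, π ⁻¹ᵁ U)), a = π.app U c + k * b :=
        fun a => by
          obtain ⟨q, hq⟩ := hgen hU (hdeg p) a
          refine ⟨q.coeff 0, q.divX.eval₂ (π.app U).hom k, ?_⟩
          rw [← hq]
          conv_lhs => rw [← Polynomial.X_mul_divX_add q]
          rw [Polynomial.eval₂_add, Polynomial.eval₂_mul, Polynomial.eval₂_X, Polynomial.eval₂_C, add_comm]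
      have hunit : ∀ (w : A.spec) (hw : w ∈ π ⁻¹ᵁ U), π w = π x →
          A.spec.presheaf.germ (π ⁻¹ᵁ U) w hw k ∈ IsLocalRing.maximalIdeal _ → ∀ (c : Γ(Y, U)) (b : Γ(A.spec, π ⁻¹ᵁ U)),
          (w ∈ A.spec.basicOpen (π.app U c + k * b) ↔ π x ∈ Y.basicOpen c) := by
        intro w hw hwx hkw c b
        rw [Scheme.mem_basicOpen A.spec _ w hw, map_add, map_mul, ← hwx, Scheme.mem_basicOpen Y c (π w) hw,
          ← Scheme.Hom.germ_stalkMap_apply π U w hw c, ← IsLocalRing.notMem_maximalIdeal,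
          Ideal.add_mem_iff_left _ (Ideal.mul_mem_right _ _ hkw), IsLocalRing.notMem_maximalIdeal,
          isUnit_map_iff]
      have heq : hW.primeIdealOf ⟨z (π x), hx'⟩ = hW.primeIdealOf ⟨x, hxU⟩ := by
        refine PrimeSpectrum.ext (Ideal.ext fun a => ?_)
        have hmem : ∀ (w : A.spec) (hw : w ∈ π ⁻¹ᵁ U),
            a ∈ (hW.primeIdealOf ⟨w, hw⟩).asIdeal ↔ w ∉ A.spec.basicOpen a := fun w hw => by
          have h1 : hW.primeIdealOf ⟨w, hw⟩ ∈ hW.fromSpec ⁻¹ᵁ A.spec.basicOpen a ↔ w ∈ A.spec.basicOpen a := by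
            show hW.fromSpec (hW.primeIdealOf ⟨w, hw⟩) ∈ A.spec.basicOpen a ↔ _
            rw [IsAffineOpen.fromSpec_primeIdealOf]
          rw [← h1, hW.fromSpec_preimage_basicOpen]
          exact not_not.symm
        obtain ⟨c, b, rfl⟩ := hdec a
        rw [hmem, hmem, hunit _ hx' (hpt _) hk', hunit x hxU rfl hk]
      have := congrArg (fun q => hW.fromSpec q) heq
      simpa only [IsAffineOpen.fromSpec_primeIdealOf] using this
  · obtain ⟨U, g, hyU, -, hU, hg⟩ := Amp.exists_isGenerator hL (V := (⊤ : Y.Opens)) (x := y) trivial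
    let p : ι := ⟨⟨U, g⟩, hU, hg⟩
    have hx : π (z y) ∈ U := (hpt y).symm ▸ hyU
    refine ⟨Cyc26.pst π L (z y) (L.presheaf.germ U (π (z y)) hx g),
      A.spec.presheaf.germ (π ⁻¹ᵁ U) (z y) hx (κ U (de p)), Cyc26.span_eq_top_of_gen (hgen' p (z y) hx),
      hgerm p (z y) hx, le_antisymm (fun b hb => ?_) ?_⟩
    · have hW : IsAffineOpen (π ⁻¹ᵁ U) := hU.preimage π
      letI := (A.spec.presheaf.germ (π ⁻¹ᵁ U) (z y) hx).hom.toAlgebra
      haveI := hW.isLocalization_stalk ⟨z y, hx⟩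
      obtain ⟨⟨a, q⟩, hbq⟩ := IsLocalization.surj (hW.primeIdealOf ⟨z y, hx⟩).asIdeal.primeCompl b
      have hq : IsUnit (A.spec.presheaf.germ (π ⁻¹ᵁ U) (z y) hx q.1) :=
        IsLocalization.map_units (S := A.spec.presheaf.stalk (z y)) q
      have hbq' : b * A.spec.presheaf.germ (π ⁻¹ᵁ U) (z y) hx q.1 = A.spec.presheaf.germ (π ⁻¹ᵁ U) (z y) hx a := hbq
      obtain ⟨r, hr⟩ := hgen hU (hdeg p) a
      have hsplit : a = π.app U (r.coeff 0) + κ U (de p) * r.divX.eval₂ (π.app U).hom (κ U (de p)) := by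
        rw [← hr]
        conv_lhs => rw [← Polynomial.X_mul_divX_add r]
        rw [Polynomial.eval₂_add, Polynomial.eval₂_mul, Polynomial.eval₂_X, Polynomial.eval₂_C, add_comm]
      have h0 : Y.presheaf.germ U y hyU (r.coeff 0) = 0 := by
        have h := congrArg (fun t => z.stalkMap y t) hbq'
        simp only [hsplit, map_mul, map_add] at h
        have h1 : z.stalkMap y (A.spec.presheaf.germ (π ⁻¹ᵁ U) (z y) hx (κ U (de p))) = 0 := hzκ p y hx
        have h2 : z.stalkMap y b = 0 := RingHom.mem_ker.1 hb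
        rw [h1, h2, hzπ U y hx, zero_mul, zero_mul, add_zero] at h
        exact h.symm
      have h0' : A.spec.presheaf.germ (π ⁻¹ᵁ U) (z y) hx (π.app U (r.coeff 0)) = 0 := by
        rw [← Scheme.Hom.germ_stalkMap_apply π U (z y) hx]
        have : ∀ (y' : Y) (hy' : y' ∈ U), y' = y → Y.presheaf.germ U y' hy' (r.coeff 0) = 0 := by
          rintro y' hy' rfl; exact h0
        rw [this _ _ (hpt y), map_zero]
      rw [Ideal.mem_span_singleton']
      obtain ⟨v, hv⟩ := hq.exists_right_inv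
      refine ⟨A.spec.presheaf.germ (π ⁻¹ᵁ U) (z y) hx (r.divX.eval₂ (π.app U).hom (κ U (de p))) * v, ?_⟩
      have hb' : b = A.spec.presheaf.germ (π ⁻¹ᵁ U) (z y) hx a * v := by rw [← hbq', mul_assoc, hv, mul_one]
      rw [hb', hsplit, map_add, h0', zero_add, map_mul]
      ring
    · rw [Ideal.span_singleton_le_iff_mem, RingHom.mem_ker]
      exact hzκ p y hx

end Groth.Agent.Bivar12
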