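import Groth.Agent.Lib.Bivar12.Envelope
import Groth.Agent.Lib.Cyc26.Pull
import Groth.Agent.Lib.Cyc26.C1Gys
import Groth.Prelude.Def_Bivar2

/-!
# Transport of cycles, zero schemes and classes along isomorphisms
-/

set_option autoImplicit false
universe u
set_option linter.style.haveILetI false
set_option backward.isDefEq.respectTransparency false

open CategoryTheory CategoryTheory.Limits AlgebraicGeometry TopologicalSpace

noncomputable section

namespace Groth.Agent.Bivar12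

variable {X Y T P : Scheme.{u}}

theorem cl_eq_of_ratEquiv {δ : X → ℤ} {k : ℤ} {a b : AlgebraicCycle X ℤ} (ha : a ∈ Cyc.Zk X δ k)
    (hb : b ∈ Cyc.Zk X δ k) (h : Cyc.RatEquiv δ k a b) : ChowOps.cl a ha = ChowOps.cl b hb :=
  (QuotientAddGroup.eq_iff_sub_mem (N := ChowOps.ratTriv X δ k)).2 (AddSubgroup.subset_closure h)

/-- Along a morphism surjective on stalks the induced dimension function is the composite. -/
theorem delta_eq_comp {f : X ⟶ Y} [SurjectiveOnStalks f] {δX : X → ℤ} {δY : Y → ℤ} (hc : Cyc.DeltaCompat f δX δY) :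
    δX = fun x => δY (f x) :=
  funext fun x => delta_eq_of_residueDegree_one hc (residueDegree_eq_one_of_surjectiveOnStalks' f x)

theorem deltaCompat_surjStalks (f : X ⟶ Y) [LocallyOfFiniteType f] [SurjectiveOnStalks f] (δY : Y → ℤ) :
    Cyc.DeltaCompat f (fun x => δY (f x)) δY := by
  obtain ⟨δ', h'⟩ := exists_deltaCompat f δY
  rwa [delta_eq_comp h'] at h'

theorem exists_cycle_comp_inv (e : T ≅ P) (a : AlgebraicCycle T ℤ) :
    ∃ A : AlgebraicCycle P ℤ, ∀ x, A (e.hom x) = a x := by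
  obtain ⟨A, hA⟩ := Cyc26.exists_cycle_restrict e.inv a
  exact ⟨A, fun x => by rw [hA, ← Scheme.Hom.comp_apply, e.hom_inv_id]; rfl⟩

theorem mapCoeff_comp_iso (e : T ≅ P) (q : P ⟶ Y) (δP : P → ℤ) (δY : Y → ℤ) (x : T) :
    AlgebraicCycle.mapCoeff (e.hom ≫ q) (fun z => δP (e.hom z)) δY x =
      AlgebraicCycle.mapCoeff q δP δY (e.hom x) := by
  unfold AlgebraicCycle.mapCoeff
  rw [residueDegree_comp', residueDegree_eq_one_of_surjectiveOnStalks' e.hom x, mul_one]
  rfl

theorem map_iso_comp (e : T ≅ P) (q : P ⟶ Y) [QuasiCompact q] (δP : P → ℤ) (δY : Y → ℤ)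
    (a : AlgebraicCycle T ℤ) (A : AlgebraicCycle P ℤ) (hA : ∀ x, A (e.hom x) = a x) :
    AlgebraicCycle.map (e.hom ≫ q) (fun z => δP (e.hom z)) δY a = AlgebraicCycle.map q δP δY A := by
  ext y
  simp only [AlgebraicCycle.map, Function.locallyFinsupp.map_apply]
  refine finsum_mem_eq_of_bijOn (fun x => e.hom x) ⟨fun x hx => hx, e.hom.isOpenEmbedding.injective.injOn, fun p hp =>
    ⟨e.inv p, ?_, ?_⟩⟩ fun x _ => ?_
  · show q (e.hom (e.inv p)) = y
    rw [← Scheme.Hom.comp_apply e.inv, e.inv_hom_id]; exact hp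
  · show e.hom (e.inv p) = p
    rw [← Scheme.Hom.comp_apply e.inv, e.inv_hom_id]; rfl
  · rw [mapCoeff_comp_iso, hA]

theorem ratEquiv_iso (e : T ≅ P) [IsLocallyNoetherian P] {δP : P → ℤ} (hd : Cyc.IsDimFun P δP) {k : ℤ}
    {a b : AlgebraicCycle T ℤ} {A B : AlgebraicCycle P ℤ} (hA : ∀ x, A (e.hom x) = a x) (hB : ∀ x, B (e.hom x) = b x)
    (h : Cyc.RatEquiv δP k A B) : Cyc.RatEquiv (fun x => δP (e.hom x)) k a b := by
  haveI : IsLocallyNoetherian T := LocallyOfFiniteType.isLocallyNoetherian e.hom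
  have hdT : Cyc.IsDimFun T (fun x => δP (e.hom x)) := fun x y hs hne => by
    have hne' : e.hom x ≠ e.hom y := fun he => hne (e.hom.isOpenEmbedding.injective he)
    obtain ⟨h1, h2⟩ := hd _ _ (hs.map e.hom.continuous) hne'
    refine ⟨h1, fun h => h2 fun z hz1 hz2 => ?_⟩
    obtain ⟨z, rfl⟩ : ∃ w, e.hom w = z := ⟨e.inv z, by rw [← Scheme.Hom.comp_apply, e.inv_hom_id]; rfl⟩
    rw [e.hom.isEmbedding.isInducing.specializes_iff] at hz1 hz2
    exact (h z hz1 hz2).imp (congrArg _) (congrArg _)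
  have hδ : Cyc.DeltaCompat e.inv δP (fun x => δP (e.hom x)) := by
    have := deltaCompat_surjStalks e.inv (fun x => δP (e.hom x))
    rwa [show (fun p => δP (e.hom (e.inv p))) = δP from funext fun p => by
      rw [← Scheme.Hom.comp_apply, e.inv_hom_id]; rfl] at this
  have key := Cyc26.ratEquivZero_map e.inv hd hdT hδ h
  have e1 : AlgebraicCycle.map e.inv δP (fun x => δP (e.hom x)) (A - B) = a - b := by
    have hAB : ∀ p, (a - b) (e.inv p) = (A - B) p := fun p => by
      show a (e.inv p) - b (e.inv p) = A p - B p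
      rw [← hA, ← hB, ← Scheme.Hom.comp_apply, e.inv_hom_id]; rfl
    have hx : ∀ x : T, e.inv (e.hom x) = x := fun x => by rw [← Scheme.Hom.comp_apply, e.hom_inv_id]; rfl
    ext x
    simp only [AlgebraicCycle.map, Function.locallyFinsupp.map_apply]
    rw [finsum_mem_inter_support_eq' _ _ ({e.hom x} : Set P) fun p _ => ?_, finsum_mem_singleton]
    · unfold AlgebraicCycle.mapCoeff
      rw [if_pos (delta_eq_of_residueDegree_one hδ (residueDegree_eq_one_of_surjectiveOnStalks' e.inv _)),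
        residueDegree_eq_one_of_surjectiveOnStalks' e.inv, Nat.cast_one, mul_one, ← hAB, hx]
    · refine ⟨fun hp => ?_, fun hp => ?_⟩
      · show p = e.hom x
        rw [← show e.inv p = x from hp, ← Scheme.Hom.comp_apply, e.inv_hom_id]; rfl
      · rw [Set.mem_singleton_iff] at hp
        show e.inv p = x
        rw [hp, hx]
  rwa [e1] at key

theorem length_iso (e : T ≅ P) (x : T) :
    Module.length (T.presheaf.stalk x) (T.presheaf.stalk x ⧸ Ideal.map (e.hom.stalkMap x).hom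
      (IsLocalRing.maximalIdeal (P.presheaf.stalk (e.hom x)))) = 1 := by
  have hs : Function.Surjective (e.hom.stalkMap x).hom := e.hom.stalkMap_surjective x
  haveI : (Ideal.map (e.hom.stalkMap x).hom (IsLocalRing.maximalIdeal (P.presheaf.stalk (e.hom x)))).IsMaximal := by
    refine (Ideal.map_eq_top_or_isMaximal_of_surjective _ hs inferInstance).resolve_left fun htop => ?_
    exact (IsLocalRing.maximalIdeal.isMaximal _).ne_top
      (top_le_iff.1 (htop.ge.trans (Ideal.map_le_iff_le_comap.2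
        ((IsLocalRing.local_hom_TFAE (e.hom.stalkMap x).hom).out 0 3 rfl rfl |>.1 inferInstance))))
  rw [Module.length_eq_one_iff, isSimpleModule_iff_isCoatom]
  exact Ideal.IsMaximal.out

theorem pullFun_iso_comp (e : T ≅ P) (q : P ⟶ Y) (δP : P → ℤ) (δY : Y → ℤ) (r : ℤ) (α : Y → ℤ) (x : T) :
    Cyc.pullFun (e.hom ≫ q) (fun z => δP (e.hom z)) δY r α x = Cyc.pullFun q δP δY r α (e.hom x) := by
  simp only [Cyc.pullFun]
  have h := Cyc26.length_comp (f := e.hom) (g := q) x
  rw [length_iso, mul_one] at h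
  rw [h]
  rfl

theorem isZeroSchemeOf_iso_comp (e : T ≅ P) {i : P ⟶ X} {L : X.Modules} {σ : L.presheaf.obj (Opposite.op ⊤)}
    (h : Cyc.IsZeroSchemeOf i L σ) : Cyc.IsZeroSchemeOf (e.hom ≫ i) L σ := by
  refine ⟨?_, fun d => ?_⟩
  · rw [← h.1]
    ext x
    refine ⟨fun ⟨z, hz⟩ => ⟨e.hom z, hz⟩, fun ⟨z, hz⟩ => ⟨e.inv z, ?_⟩⟩
    rw [← Scheme.Hom.comp_apply, e.inv_hom_id_assoc, hz]
  · obtain ⟨t, f, h1, h2, h3⟩ := h.2 (e.hom d)
    refine ⟨t, f, h1, h2, ?_⟩
    refine Eq.trans ?_ h3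
    ext a
    show (e.hom ≫ i).stalkMap d a = 0 ↔ i.stalkMap (e.hom d) a = 0
    rw [Scheme.Hom.stalkMap_comp]
    exact map_eq_zero_iff _ (ConcreteCategory.bijective_of_isIso (e.hom.stalkMap d)).1

end Groth.Agent.Bivar12
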